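import Mathlib

/-! Derived series of `p`-groups: a bound by the index of a subgroup, and wreath products. -/

set_option autoImplicit false

namespace Cfsg.Agent.FGS76.DerivedP

open scoped commutatorElement

theorem derived_succ_le_map {P : Type*} [Group P] {N : Subgroup P}
    (h : commutator P ≤ N) (k : ℕ) :
    derivedSeries P (k + 1) ≤ (derivedSeries N k).map N.subtype := by
  induction k with
  | zero =>
    rw [derivedSeries_zero, derivedSeries_one, ← MonoidHom.range_eq_map, Subgroup.range_subtype]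
    exact h
  | succ k ih =>
    rw [derivedSeries_succ P (k + 1), derivedSeries_succ N k, Subgroup.map_commutator]
    exact Subgroup.commutator_mono ih ih

theorem exists_index_prime_over {P : Type*} [Group P] [Finite P] {p : ℕ} [Fact p.Prime]
    (hP : IsPGroup p P) {S : Subgroup P} (hS : S ≠ ⊤) :
    ∃ M : Subgroup P, S ≤ M ∧ M.index = p ∧ commutator P ≤ M := by
  have hp : p.Prime := Fact.out
  obtain ⟨n, hn⟩ := IsPGroup.iff_card.1 hP
  obtain ⟨m, hm⟩ := IsPGroup.iff_card.1 (hP.to_subgroup S)
  have hmn : m < n := by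
    by_contra hcon
    refine hS (Subgroup.eq_top_of_card_eq S (le_antisymm (Subgroup.card_le_card_group S) ?_))
    rw [hn, hm]
    exact Nat.pow_le_pow_right hp.pos (not_lt.1 hcon)
  obtain ⟨M, hMc, hSM⟩ := Sylow.exists_subgroup_card_pow_prime_le p
    (show p ^ (n - 1) ∣ Nat.card P by rw [hn]; exact pow_dvd_pow p (Nat.sub_le n 1)) S hm (by omega)
  have hi : M.index = p := by
    have h := M.card_mul_index
    rw [hMc, hn, show p ^ n = p ^ (n - 1) * p by rw [← pow_succ]; congr 1; omega] at h
    exact Nat.eq_of_mul_eq_mul_left (pow_pos hp.pos _) h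
  have hmin : (Nat.card P).minFac = p := by
    rw [hn, Nat.pow_minFac (by omega), hp.minFac_eq]
  haveI : M.Normal := Subgroup.normal_of_index_eq_minFac_card (hi.trans hmin.symm)
  refine ⟨M, hSM, hi, ?_⟩
  haveI : IsCyclic (P ⧸ M) := isCyclic_of_prime_card (show Nat.card (P ⧸ M) = p from hi)
  haveI := IsCyclic.isMulCommutative (α := P ⧸ M)
  rw [_root_.commutator_def, Subgroup.commutator_le]
  intro a _ b _
  rw [← QuotientGroup.eq_one_iff]
  show QuotientGroup.mk' M ⁅a, b⁆ = 1
  rw [map_commutatorElement, commutatorElement_eq_one_iff_mul_comm]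
  exact mul_comm' _ _

/-- A `p`-group's `k`-th derived subgroup lies in each subgroup of index at most `p ^ k`. -/
theorem derived_le_of_index_le {p : ℕ} [Fact p.Prime] (k : ℕ) :
    ∀ {P : Type*} [Group P] [Finite P], IsPGroup p P → ∀ S : Subgroup P, S.index ≤ p ^ k →
      derivedSeries P k ≤ S := by
  induction k with
  | zero =>
    intro P _ _ _ S hS
    have h1 : S.index = 1 := le_antisymm (by simpa using hS)
      (Nat.one_le_iff_ne_zero.2 Subgroup.index_ne_zero_of_finite)
    rw [Subgroup.index_eq_one.1 h1]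
    exact le_top
  | succ k ih =>
    intro P _ _ hP S hS
    by_cases hT : S = ⊤
    · rw [hT]; exact le_top
    obtain ⟨M, hSM, hMi, hMc⟩ := exists_index_prime_over hP hT
    refine (derived_succ_le_map hMc k).trans ?_
    rw [Subgroup.map_le_iff_le_comap]
    refine ih (hP.to_subgroup M) (S.subgroupOf M) ?_
    have h := Subgroup.relIndex_mul_index hSM
    rw [hMi] at h
    refine Nat.le_of_mul_le_mul_right ?_ (Fact.out : p.Prime).pos
    rw [← pow_succ]
    exact h.trans_le hS

section Wreath

variable {D Q : Type*} [Group D] [Group Q]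

theorem exists_derived_succ [Nontrivial Q] [DecidableEq Q] (j : ℕ) :
    ∀ d ∈ derivedSeries D j, ∃ x ∈ derivedSeries (D ≀ᵣ Q) (j + 1),
      x.right = 1 ∧ x.left 1 = d := by
  induction j with
  | zero =>
    intro d _
    obtain ⟨q, hq⟩ := exists_ne (1 : Q)
    let f : D ≀ᵣ Q := ⟨Pi.mulSingle 1 d, 1⟩
    refine ⟨⁅f, RegularWreathProduct.inl q⁆, ?_, ?_, ?_⟩
    · rw [derivedSeries_one, _root_.commutator_def]
      exact Subgroup.commutator_mem_commutator (Subgroup.mem_top _) (Subgroup.mem_top _)
    · simp [commutatorElement_def, f]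
    · have h : q⁻¹ ≠ 1 := inv_ne_one.2 hq
      simp [commutatorElement_def, f, Pi.mulSingle_eq_of_ne h]
  | succ j ih =>
    intro d hd
    let T : Subgroup D :=
      { carrier := {d | ∃ x ∈ derivedSeries (D ≀ᵣ Q) (j + 1 + 1), x.right = 1 ∧ x.left 1 = d}
        one_mem' := ⟨1, one_mem _, rfl, rfl⟩
        mul_mem' := by
          rintro _ _ ⟨x, hx, hx1, rfl⟩ ⟨y, hy, hy1, rfl⟩
          exact ⟨x * y, mul_mem hx hy, by simp [hx1, hy1], by simp [hx1]⟩
        inv_mem' := by
          rintro _ ⟨x, hx, hx1, rfl⟩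
          exact ⟨x⁻¹, inv_mem hx, by simp [hx1], by simp [hx1]⟩ }
    suffices h : derivedSeries D (j + 1) ≤ T from h hd
    rw [derivedSeries_succ, Subgroup.commutator_le]
    intro a ha b hb
    obtain ⟨x, hx, hx1, rfl⟩ := ih a ha
    obtain ⟨y, hy, hy1, rfl⟩ := ih b hb
    refine ⟨⁅x, y⁆, ?_, by simp [commutatorElement_def, hx1, hy1],
      by simp [commutatorElement_def, hx1, hy1]⟩
    rw [derivedSeries_succ (D ≀ᵣ Q) (j + 1)]
    exact Subgroup.commutator_mem_commutator hx hy

theorem derived_ne_bot_wreath [Nontrivial Q] [DecidableEq Q] {j : ℕ} (h : derivedSeries D j ≠ ⊥) :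
    derivedSeries (D ≀ᵣ Q) (j + 1) ≠ ⊥ := by
  intro hb
  refine h ((Subgroup.eq_bot_iff_forall _).2 fun d hd => ?_)
  obtain ⟨x, hx, -, hxd⟩ := exists_derived_succ (Q := Q) j d hd
  rw [hb, Subgroup.mem_bot] at hx
  rw [← hxd, hx]
  rfl

theorem derived_iterated_ne_bot (G : Type*) [Group G] [Nontrivial G] (k : ℕ) :
    derivedSeries (IteratedWreathProduct G (k + 1)) k ≠ ⊥ := by
  classical
  induction k with
  | zero =>
    rw [derivedSeries_zero]
    intro h
    obtain ⟨g, hg⟩ := exists_ne (1 : G)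
    have hm : (⟨1, g⟩ : IteratedWreathProduct G 0 ≀ᵣ G) ∈
        (⊥ : Subgroup (IteratedWreathProduct G 1)) := h ▸ Subgroup.mem_top _
    exact hg (congrArg RegularWreathProduct.right (Subgroup.mem_bot.1 hm))
  | succ k ih => exact derived_ne_bot_wreath (D := IteratedWreathProduct G (k + 1)) (Q := G) ih

end Wreath

theorem derived_eq_bot_of_injective {A B : Type*} [Group A] [Group B] {f : A →* B}
    (hf : Function.Injective f) {j : ℕ} (h : derivedSeries B j = ⊥) : derivedSeries A j = ⊥ := by
  rw [← Subgroup.map_eq_bot_iff_of_injective _ hf, eq_bot_iff, ← h]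
  exact map_derivedSeries_le_derivedSeries f j

end Cfsg.Agent.FGS76.DerivedP
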