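import Cfsg.Agent.FGS82.LinearDerivedLength
import Cfsg.Agent.FGS76.DerivedPGroup

/-! Linear `p`-groups in characteristic `p`: fixed vectors and the derived length. -/

set_option autoImplicit false

namespace Cfsg.Agent.FGS76.Unipotent

open scoped commutatorElement
open Cfsg.Agent.FGS82

universe u

variable {F : Type*} [Field F] {p : ℕ} [Fact p.Prime] [CharP F p]

/-- A `p`-group acting linearly in characteristic `p` fixes a nonzero vector. -/
theorem exists_fixed_vector {V : Type*} [AddCommGroup V] [Module F V] {P : Type u}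
    [Group P] [Finite P] (hP : IsPGroup p P) (ρ : P →* (V ≃ₗ[F] V)) (S : Subgroup P)
    {v : V} (hv : v ≠ 0) : ∃ w : V, w ≠ 0 ∧ ∀ g ∈ S, ρ g w = w := by
  suffices h : ∀ c, ∀ S : Subgroup P, Nat.card S = c → ∃ w : V, w ≠ 0 ∧ ∀ g ∈ S, ρ g w = w from
    h _ S rfl
  intro c
  induction c using Nat.strong_induction_on with
  | _ c ih =>
  intro S hS
  by_cases hbot : S = ⊥
  · refine ⟨v, hv, fun g hg => ?_⟩
    rw [hbot, Subgroup.mem_bot] at hg
    rw [hg, map_one]; rfl
  · have hne : (⊥ : Subgroup S) ≠ ⊤ := by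
      intro h
      refine hbot ((Subgroup.eq_bot_iff_forall _).2 fun g hg => ?_)
      have h1 : (⟨g, hg⟩ : S) ∈ (⊥ : Subgroup S) := by
        rw [h]; exact Subgroup.mem_top _
      exact congrArg (fun t : S => (t : P)) (Subgroup.mem_bot.1 h1)
    obtain ⟨M, -, hMi, hMc⟩ := DerivedP.exists_index_prime_over (P := S) (hP.to_subgroup S) hne
    haveI : M.Normal := ⟨fun x hx g => by
      have h := mul_mem (hMc (Subgroup.commutator_mem_commutator (Subgroup.mem_top g)
        (Subgroup.mem_top x))) hx
      simpa [commutatorElement_def] using h⟩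
    have hlt : Nat.card (M.map S.subtype) < c := by
      have h := M.card_mul_index
      rw [hMi, hS] at h
      rw [Subgroup.card_map_of_injective S.subtype_injective, ← h]
      exact lt_mul_of_one_lt_right Nat.card_pos (Fact.out : p.Prime).one_lt
    obtain ⟨w, hw, hfix⟩ := ih _ hlt _ rfl
    obtain ⟨g, hg⟩ : ∃ g, g ∉ M := by
      by_contra h
      push Not at h
      rw [(Subgroup.eq_top_iff' M).2 h, Subgroup.index_top] at hMi
      exact (Fact.out : p.Prime).one_lt.ne hMi
    obtain ⟨k, hk⟩ := hP (g : P)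
    set T : Module.End F V := (ρ (g : P) : V →ₗ[F] V) - 1 with hT
    have hTp : T ^ (p ^ k) = 0 := by
      haveI : Nontrivial (Module.End F V) := by
        refine ⟨⟨1, 0, fun h => hv ?_⟩⟩
        simpa using LinearMap.congr_fun h v
      haveI : CharP (Module.End F V) p :=
        charP_of_injective_algebraMap (algebraMap F (Module.End F V)).injective p
      rw [hT, sub_pow_char_pow_of_commute _ _ (Commute.one_right _), one_pow, sub_eq_zero]
      have hpow : ∀ m : ℕ, ((ρ (g : P) : V →ₗ[F] V) : Module.End F V) ^ m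
          = (ρ ((g : P) ^ m) : V →ₗ[F] V) := by
        intro m
        induction m with
        | zero => rw [pow_zero, pow_zero, map_one]; rfl
        | succ m ih => rw [pow_succ, ih, pow_succ, map_mul]; rfl
      rw [hpow, hk, map_one]; rfl
    have hTw : ∀ m : ℕ, ∀ x ∈ M, ρ (x : P) ((T ^ m) w) = (T ^ m) w := by
      intro m
      induction m with
      | zero => intro x hx; simpa using hfix _ ⟨x, hx, rfl⟩
      | succ m ih =>
        intro x hx
        have hconj : g⁻¹ * x * g ∈ M := by
          simpa using Subgroup.Normal.conj_mem inferInstance x hx g⁻¹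
        have h1 : ρ (x : P) (ρ (g : P) ((T ^ m) w)) = ρ (g : P) ((T ^ m) w) := by
          have e : (x : P) * (g : P) = (g : P) * ((g⁻¹ * x * g : S) : P) := by simp [mul_assoc]
          rw [← LinearEquiv.mul_apply, ← map_mul, e, map_mul, LinearEquiv.mul_apply, ih _ hconj]
        rw [pow_succ', Module.End.mul_apply]
        show ρ (x : P) (ρ (g : P) ((T ^ m) w) - (T ^ m) w) = ρ (g : P) ((T ^ m) w) - (T ^ m) w
        rw [map_sub, h1, ih x hx]
    classical
    have hex : ∃ m, (T ^ m) w = 0 := ⟨p ^ k, by rw [hTp]; rfl⟩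
    have h0 : Nat.find hex ≠ 0 := fun h => hw (by simpa [h] using Nat.find_spec hex)
    obtain ⟨m, hm⟩ := Nat.exists_eq_succ_of_ne_zero h0
    set u := (T ^ m) w with hu
    have hu0 : u ≠ 0 := Nat.find_min hex (by omega)
    have hgu : ρ (g : P) u = u := by
      have h := Nat.find_spec hex
      rw [hm, pow_succ', Module.End.mul_apply] at h
      exact sub_eq_zero.1 h
    refine ⟨u, hu0, fun s hs => ?_⟩
    let St : Subgroup S :=
      { carrier := {x | ρ (x : P) u = u}
        one_mem' := by simp
        mul_mem' := fun {a b} ha hb => by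
          show ρ ((a * b : S) : P) u = u
          rw [Subgroup.coe_mul, map_mul, LinearEquiv.mul_apply, hb, ha]
        inv_mem' := fun {a} ha => by
          show ρ ((a⁻¹ : S) : P) u = u
          conv_lhs => rw [← (show ρ (a : P) u = u from ha)]
          rw [← LinearEquiv.mul_apply, ← map_mul]
          simp }
    have hMSt : M ≤ St := fun x hx => hTw m x hx
    have htop : St = ⊤ := by
      rw [← Subgroup.index_eq_one]
      rcases (Nat.dvd_prime (Fact.out : p.Prime)).1
        (hMi ▸ Subgroup.index_dvd_of_le hMSt) with h | h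
      · exact h
      · exfalso
        have h2 := Subgroup.relIndex_mul_index hMSt
        rw [hMi, h] at h2
        have h3 : M.relIndex St = 1 := Nat.eq_of_mul_eq_mul_right (Fact.out : p.Prime).pos
          (by rw [one_mul]; exact h2)
        exact hg (Subgroup.relIndex_eq_one.1 h3 hgu)
    exact (show (⟨s, hs⟩ : S) ∈ St from htop ▸ Subgroup.mem_top _)

/-- An invariant subspace of every possible dimension. -/
theorem exists_invariant (d : ℕ) : ∀ {V : Type u} [AddCommGroup V] [Module F V]
    [FiniteDimensional F V] {P : Type*} [Group P] [Finite P], IsPGroup p P →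
    ∀ ρ : P →* (V ≃ₗ[F] V), d ≤ Module.finrank F V →
    ∃ W : Submodule F V, Module.finrank F W = d ∧ ∀ g, ∀ w ∈ W, ρ g w ∈ W := by
  induction d with
  | zero =>
    intro V _ _ _ P _ _ _ ρ _
    refine ⟨⊥, finrank_bot F V, fun g w hw => ?_⟩
    rw [Submodule.mem_bot] at hw ⊢
    rw [hw, map_zero]
  | succ d ih =>
    intro V _ _ _ P _ _ hP ρ hd
    obtain ⟨v, hv⟩ : ∃ v : V, v ≠ 0 := by
      haveI : Nontrivial V := Module.nontrivial_of_finrank_pos (R := F) (by omega)
      exact exists_ne 0
    obtain ⟨w, hw, hfix⟩ := exists_fixed_vector hP ρ ⊤ hv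
    let L : Submodule F V := Submodule.span F {w}
    have hL : ∀ g, ∀ x ∈ L, ρ g x ∈ L := fun g x hx => by
      obtain ⟨c, rfl⟩ := Submodule.mem_span_singleton.1 hx
      rw [map_smul, hfix g (Subgroup.mem_top g)]
      exact Submodule.smul_mem _ _ (Submodule.mem_span_singleton_self w)
    have hL1 : Module.finrank F L = 1 := finrank_span_singleton hw
    have hq := Submodule.finrank_quotient_add_finrank L
    obtain ⟨W, hW, hWi⟩ := ih hP (LinDL.quot ρ L hL) (by omega)
    refine ⟨W.comap L.mkQ, ?_, fun g x hx => ?_⟩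
    · have h := LinearMap.finrank_range_add_finrank_ker (L.mkQ.domRestrict (W.comap L.mkQ))
      have hr : LinearMap.range (L.mkQ.domRestrict (W.comap L.mkQ)) = W := by
        rw [LinearMap.range_domRestrict, Submodule.map_comap_eq_of_surjective L.mkQ_surjective]
      have hk : Module.finrank F (LinearMap.ker (L.mkQ.domRestrict (W.comap L.mkQ))) = 1 := by
        rw [LinearMap.ker_domRestrict, Submodule.ker_mkQ,
          (Submodule.comapSubtypeEquivOfLe (p := L) (q := W.comap L.mkQ) (fun y hy => by
            show Submodule.Quotient.mk y ∈ W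
            rw [(Submodule.Quotient.mk_eq_zero L).2 hy]; exact W.zero_mem)).finrank_eq, hL1]
      rw [hr, hW, hk] at h
      omega
    · exact hWi g _ hx

theorem derived_trivial (d : ℕ) : ∀ {V : Type u} [AddCommGroup V] [Module F V]
    [FiniteDimensional F V] {P : Type u} [Group P] [Finite P], IsPGroup p P →
    ∀ ρ : P →* (V ≃ₗ[F] V), Module.finrank F V = d →
    ∀ g ∈ derivedSeries P (Nat.clog 2 d), ∀ v, ρ g v = v := by
  induction d using Nat.strong_induction_on with
  | _ d ih =>
  intro V _ _ _ P _ _ hP ρ hd g hg v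
  rcases Nat.lt_or_ge d 2 with hlt | hge
  · by_cases hv : v = 0
    · rw [hv, map_zero]
    obtain ⟨w, hw, hfix⟩ := exists_fixed_vector hP ρ ⊤ hv
    have hd1 : Module.finrank F V = 1 := by
      haveI : Nontrivial V := ⟨⟨v, 0, hv⟩⟩
      have := Module.finrank_pos (R := F) (M := V)
      omega
    obtain ⟨c, rfl⟩ := exists_smul_eq_of_finrank_eq_one hd1 hw v
    rw [map_smul, hfix g (Subgroup.mem_top g)]
  · set a := (d + 2 - 1) / 2 with ha
    rw [Nat.clog_of_two_le one_lt_two hge] at hg
    obtain ⟨W, hW, hWi⟩ := exists_invariant a hP ρ (by omega)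
    have hq := Submodule.finrank_quotient_add_finrank W
    have hlay : ∀ x ∈ derivedSeries P (Nat.clog 2 a),
        (∀ y ∈ W, ρ x y = y) ∧ ∀ y, ρ x y - y ∈ W := by
      intro x hx
      refine ⟨fun y hy => congrArg Subtype.val
        (ih a (by omega) hP (LinDL.restrict ρ W hWi) hW x hx ⟨y, hy⟩), fun y => ?_⟩
      rw [← Submodule.Quotient.mk_eq_zero, Submodule.Quotient.mk_sub, sub_eq_zero]
      exact ih (d - a) (by omega) hP (LinDL.quot ρ W hWi) (by omega) x
        (derivedSeries_antitone P (Nat.clog_mono_right 2 (by omega)) hx) (Submodule.Quotient.mk y)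
    suffices h : derivedSeries P (Nat.clog 2 a + 1) ≤ ρ.ker by
      rw [MonoidHom.mem_ker.1 (h hg)]; rfl
    rw [derivedSeries_succ, Subgroup.commutator_le]
    intro x hx y hy
    obtain ⟨hx1, hx2⟩ := hlay x hx
    obtain ⟨hy1, hy2⟩ := hlay y hy
    rw [MonoidHom.mem_ker, map_commutatorElement, commutatorElement_eq_one_iff_mul_comm]
    refine LinearEquiv.ext fun z => ?_
    have e1 : ρ x (ρ y z) = ρ x z + (ρ y z - z) := by
      conv_lhs => rw [← add_sub_cancel z (ρ y z)]
      rw [map_add, hx1 _ (hy2 z)]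
    have e2 : ρ y (ρ x z) = ρ y z + (ρ x z - z) := by
      conv_lhs => rw [← add_sub_cancel z (ρ x z)]
      rw [map_add, hy1 _ (hx2 z)]
    rw [LinearEquiv.mul_apply, LinearEquiv.mul_apply, e1, e2]
    abel

end Cfsg.Agent.FGS76.Unipotent
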