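import Mathlib

/-!
Small general lemmas: class sizes, Sylow subgroups inside subgroups of index prime to `p`,
covering by conjugates, splitting off the `p`-part of an element, direct Sylow factors.
-/

set_option autoImplicit false
set_option linter.unusedSectionVars false

namespace Cfsg.Agent.FGS76

open Subgroup

variable {G : Type*} [Group G] [Finite G]

theorem ncard_carrier (g : G) :
    (ConjClasses.mk g).carrier.ncard = (centralizer ({g} : Set G)).index := by
  have h1 : MulAction.orbit (ConjAct G) g = (ConjClasses.mk g).carrier := by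
    ext h
    rw [ConjAct.orbit_eq_carrier_conjClasses]
  rw [← h1, ← MulAction.index_stabilizer, ConjAct.stabilizer_eq_centralizer]
  congr 1

/-- no finite group is the union of the conjugates of a proper subgroup -/
theorem eq_top_of_forall_exists_conj (H : Subgroup G) (h : ∀ g : G, ∃ x : G, x * g * x⁻¹ ∈ H) :
    H = ⊤ := by
  classical
  haveI := Fintype.ofFinite G
  haveI := Fintype.ofFinite (G ⧸ H)
  haveI := Fintype.ofFinite (MulAction.orbitRel.Quotient G (G ⧸ H))
  have hsum := MulAction.sum_card_fixedBy_eq_card_orbits_mul_card_group G (G ⧸ H)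
  have horb : Fintype.card (MulAction.orbitRel.Quotient G (G ⧸ H)) = 1 := by
    rw [Fintype.card_eq_one_iff]
    refine ⟨⟦((1 : G) : G ⧸ H)⟧, fun q => ?_⟩
    obtain ⟨a, rfl⟩ := Quotient.mk_surjective q
    exact Quotient.sound (MulAction.exists_smul_eq G ((1 : G) : G ⧸ H) a)
  rw [horb, one_mul] at hsum
  have h1 : ∀ g : G, 1 ≤ Fintype.card (MulAction.fixedBy (G ⧸ H) g) := by
    intro g
    obtain ⟨x, hx⟩ := h g
    refine Fintype.card_pos_iff.2 ⟨⟨((x⁻¹ : G) : G ⧸ H), ?_⟩⟩
    show g • ((x⁻¹ : G) : G ⧸ H) = _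
    rw [MulAction.Quotient.smul_coe, QuotientGroup.eq, smul_eq_mul]
    have h2 := H.inv_mem hx
    convert h2 using 1
    group
  have h2 : Fintype.card (MulAction.fixedBy (G ⧸ H) (1 : G)) = 1 := by
    by_contra hne
    have hlt : ∑ _g : G, 1 < ∑ g : G, Fintype.card (MulAction.fixedBy (G ⧸ H) g) :=
      Finset.sum_lt_sum (fun g _ => h1 g)
        ⟨1, Finset.mem_univ _, lt_of_le_of_ne (h1 1) (Ne.symm hne)⟩
    rw [hsum] at hlt
    simp at hlt
  have h3 : Nat.card (MulAction.fixedBy (G ⧸ H) (1 : G)) = 1 := Nat.card_eq_fintype_card.trans h2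
  rw [MulAction.fixedBy_one_eq_univ, Nat.card_congr (Equiv.Set.univ (G ⧸ H))] at h3
  rwa [← index_eq_one, index_eq_card]

/-- split off the `p`-part of an element -/
theorem exists_split (p : ℕ) [hp : Fact p.Prime] (g : G) :
    ∃ a b : G, (∃ i : ℕ, a = g ^ i) ∧ (∃ j : ℕ, b = g ^ j) ∧ a * b = g ∧
      (∃ k : ℕ, orderOf a = p ^ k) ∧ ¬ p ∣ orderOf b := by
  have hpos : orderOf g ≠ 0 := (orderOf_pos g).ne'
  obtain ⟨k, m, hm, hkm⟩ := Nat.exists_eq_pow_mul_and_not_dvd hpos p hp.out.ne_one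
  have hcop : (p ^ k).Coprime m := ((hp.out.coprime_iff_not_dvd).2 hm).pow_left k
  obtain ⟨i, hi1, hi2⟩ := Nat.chineseRemainder hcop 1 0
  obtain ⟨j, hj1, hj2⟩ := Nat.chineseRemainder hcop 0 1
  refine ⟨g ^ i, g ^ j, ⟨i, rfl⟩, ⟨j, rfl⟩, ?_, ?_, ?_⟩
  · rw [← pow_add]
    conv_rhs => rw [← pow_one g]
    rw [pow_eq_pow_iff_modEq, hkm]
    refine (Nat.modEq_and_modEq_iff_modEq_mul hcop).1 ⟨?_, ?_⟩
    · simpa using hi1.add hj1
    · simpa using hi2.add hj2
  · have h1 : orderOf (g ^ i) ∣ p ^ k := by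
      apply orderOf_dvd_of_pow_eq_one
      rw [← pow_mul, ← orderOf_dvd_iff_pow_eq_one, hkm, mul_comm (p ^ k)]
      exact Nat.mul_dvd_mul_right (Nat.modEq_zero_iff_dvd.1 hi2) _
    obtain ⟨l, _, hl⟩ := (Nat.dvd_prime_pow hp.out).1 h1
    exact ⟨l, hl⟩
  · intro h
    have h1 : orderOf (g ^ j) ∣ m := by
      apply orderOf_dvd_of_pow_eq_one
      rw [← pow_mul, ← orderOf_dvd_iff_pow_eq_one, hkm]
      exact Nat.mul_dvd_mul_right (Nat.modEq_zero_iff_dvd.1 hj1) _
    exact hm (h.trans h1)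

theorem not_dvd_of_prime_pow {p q a b : ℕ} (hp : p.Prime) (hq : q.Prime) (hne : q ≠ p)
    (ha : ∃ k, a = p ^ k) (hb : ∃ k, b = q ^ k) : a.Coprime b := by
  obtain ⟨k, rfl⟩ := ha
  obtain ⟨l, rfl⟩ := hb
  exact Nat.Coprime.pow _ _ ((Nat.coprime_primes hp hq).2 (Ne.symm hne))

theorem isPGroup_zpowers {p : ℕ} [Fact p.Prime] {g : G} (hg : ∃ k : ℕ, orderOf g = p ^ k) :
    IsPGroup p (zpowers g) := by
  obtain ⟨k, hk⟩ := hg
  exact IsPGroup.of_card (by rw [Nat.card_zpowers, hk])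

theorem orderOf_eq_pow_of_mem {p : ℕ} [Fact p.Prime] {H : Subgroup G} (hH : IsPGroup p H) {g : G}
    (hg : g ∈ H) : ∃ k : ℕ, orderOf g = p ^ k := by
  obtain ⟨k, hk⟩ := hH ⟨g, hg⟩
  obtain ⟨l, _, hl⟩ := (Nat.dvd_prime_pow (Fact.out : p.Prime)).1 (orderOf_dvd_of_pow_eq_one hk)
  exact ⟨l, by rw [← hl, orderOf_mk]⟩

/-- a subgroup of index prime to `p` contains Sylow subgroups through all of its `p`-subgroups -/
theorem exists_sylow_between {p : ℕ} [Fact p.Prime] {Q C : Subgroup G} (hQ : IsPGroup p Q)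
    (hQC : Q ≤ C) (hC : ¬ p ∣ C.index) :
    ∃ R : Sylow p G, Q ≤ (R : Subgroup G) ∧ (R : Subgroup G) ≤ C := by
  obtain ⟨S, hS⟩ := (hQ.of_equiv (subgroupOfEquivOfLe hQC).symm).exists_le_sylow
  have hcard : Nat.card ((S : Subgroup C).map C.subtype) = p ^ (Nat.card G).factorization p := by
    rw [Subgroup.card_map_of_injective C.subtype_injective]
    rw [S.card_eq_multiplicity]
    congr 1
    rw [← C.card_mul_index, Nat.factorization_mul Nat.card_pos.ne' index_ne_zero_of_finite]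
    simp [Nat.factorization_eq_zero_of_not_dvd hC]
  refine ⟨Sylow.ofCard _ hcard, ?_, map_subtype_le _⟩
  intro x hx
  exact mem_map.2 ⟨⟨x, hQC hx⟩, hS (mem_subgroupOf.2 hx), rfl⟩

theorem pow_mem_centralizer_singleton {g h : G} (hgh : g * h = h * g) :
    g ∈ centralizer ({h} : Set G) := mem_centralizer_singleton_iff.2 hgh

/-- if `P C(P) = G` then the Sylow subgroup `P` is a direct factor -/
theorem direct_factor_of_sup_centralizer {p : ℕ} [hp : Fact p.Prime] (P : Sylow p G)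
    (h : (P : Subgroup G) ⊔ centralizer ((P : Subgroup G) : Set G) = ⊤) :
    (P : Subgroup G).Normal ∧ ∃ H : Subgroup G, H.Normal ∧ ¬ p ∣ Nat.card H ∧
      (P : Subgroup G) ⊓ H = ⊥ ∧ (P : Subgroup G) ⊔ H = ⊤ := by
  set C := centralizer ((P : Subgroup G) : Set G) with hC
  have hcomm : ∀ c ∈ C, ∀ x ∈ (P : Subgroup G), x * c = c * x := fun c hc x hx =>
    mem_centralizer_iff.1 hc x hx
  have hPn : (P : Subgroup G).Normal := by
    rw [← normalizer_eq_top_iff, eq_top_iff, ← h]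
    refine sup_le le_normalizer ?_
    intro c hc
    rw [mem_normalizer_iff]
    intro x
    constructor
    · intro hx
      rwa [← hcomm c hc x hx, mul_inv_cancel_right]
    · intro hx
      have h1 := hcomm c hc _ hx
      rw [inv_mul_cancel_right] at h1
      have h2 : x = c * x * c⁻¹ := mul_left_cancel h1
      rwa [← h2] at hx
  refine ⟨hPn, ?_⟩
  -- the intersection with `C` is central of coprime index in `C`
  set Z := (P : Subgroup G).subgroupOf C with hZ
  haveI : Z.Normal := hPn.subgroupOf C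
  have hZp : IsPGroup p Z := P.isPGroup'.comap_subtype
  have hidx : ¬ p ∣ Z.index := by
    have h1 : (P : Subgroup G).relIndex C = (P : Subgroup G).index := by
      haveI := hPn
      rw [← relIndex_sup_left, h, relIndex_top_right]
    show ¬ p ∣ (P : Subgroup G).relIndex C
    rw [h1]
    exact P.not_dvd_index
  obtain ⟨n, hn⟩ := IsPGroup.iff_card.1 hZp
  have hcop : (Nat.card Z).Coprime Z.index := by
    rw [hn]
    exact ((hp.out.coprime_iff_not_dvd).2 hidx).pow_left n
  obtain ⟨K, hK⟩ := exists_right_complement'_of_coprime hcop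
  have hKcard : ¬ p ∣ Nat.card K := hK.symm.index_eq_card ▸ hidx
  have hKn : K.Normal := by
    constructor
    intro k hk x
    obtain ⟨⟨⟨z, hz⟩, ⟨j, hj⟩⟩, hx⟩ := hK.2 x
    simp only at hx
    have hc : ∀ y : C, z * y = y * z := fun y =>
      Subtype.ext (hcomm y y.2 z hz)
    have : x * k * x⁻¹ = j * k * j⁻¹ := by
      rw [← hx, mul_inv_rev, mul_assoc, mul_assoc, hc, ← mul_assoc, ← mul_assoc]
      group
    rw [this]
    exact K.mul_mem (K.mul_mem hj hk) (K.inv_mem hj)
  set H := K.map C.subtype with hH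
  have hHC : H ≤ C := map_subtype_le _
  have hsup : (P : Subgroup G) ⊔ H = ⊤ := by
    rw [eq_top_iff, ← h]
    refine sup_le le_sup_left ?_
    intro c hc
    obtain ⟨⟨⟨z, hz⟩, ⟨j, hj⟩⟩, hx⟩ := hK.2 ⟨c, hc⟩
    have : c = (z : G) * (j : G) := (congrArg Subtype.val hx).symm
    rw [this]
    exact mul_mem (mem_sup_left hz) (mem_sup_right (mem_map_of_mem _ hj))
  refine ⟨H, ?_, ?_, ?_, hsup⟩
  · rw [← normalizer_eq_top_iff, eq_top_iff, ← h]
    refine sup_le ?_ ?_
    · intro x hx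
      rw [mem_normalizer_iff]
      intro y
      constructor
      · intro hy
        rwa [hcomm y (hHC hy) x hx, mul_inv_cancel_right]
      · intro hy
        have h1 := hcomm _ (hHC hy) x hx
        rw [inv_mul_cancel_right] at h1
        have h2 : x * y * x⁻¹ = y := mul_left_cancel (a := x) (by rw [h1])
        rwa [h2] at hy
    · intro c hc
      rw [mem_normalizer_iff_map_conj_eq]
      apply le_antisymm
      · rintro _ ⟨_, ⟨k, hk, rfl⟩, rfl⟩
        exact ⟨⟨c, hc⟩ * k * ⟨c, hc⟩⁻¹, hKn.conj_mem k hk _, rfl⟩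
      · rintro _ ⟨k, hk, rfl⟩
        refine ⟨_, ⟨⟨c, hc⟩⁻¹ * k * ⟨c, hc⟩⁻¹⁻¹, hKn.conj_mem k hk _, rfl⟩, ?_⟩
        simp [mul_assoc]
  · rwa [hH, card_map_of_injective C.subtype_injective]
  · refine (Subgroup.disjoint_of_coprime_natCard ?_).eq_bot
    obtain ⟨m, hm⟩ := IsPGroup.iff_card.1 P.isPGroup'
    rw [hm, hH, card_map_of_injective C.subtype_injective]
    exact ((hp.out.coprime_iff_not_dvd).2 hKcard).pow_left m

end Cfsg.Agent.FGS76
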