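import Mathlib
import Cfsg.Agent.FGS76.Basic

/-!
Frobenius' theorem on the number of solutions of `x ^ n = 1`, and related counting lemmas.
-/

set_option autoImplicit false
set_option linter.unusedSectionVars false
set_option linter.style.haveILetI false

namespace Cfsg.Agent.FGS76

open Subgroup

variable {G : Type*} [Group G] [Finite G]

/-- number of solutions of `z ^ R = 1` commuting with `y` -/
noncomputable def centCount (R : ℕ) (y : G) : ℕ :=
  Nat.card {z : G // Commute z y ∧ z ^ R = 1}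

theorem centCount_eq (R : ℕ) (y : G) :
    centCount R y = Nat.card {z : centralizer ({y} : Set G) // z ^ R = 1} :=
  Nat.card_congr ⟨fun z => ⟨⟨z.1, mem_centralizer_singleton_iff.2 z.2.1⟩, Subtype.ext z.2.2⟩,
    fun z => ⟨z.1.1, mem_centralizer_singleton_iff.1 z.1.2, congrArg Subtype.val z.2⟩,
    fun _ => rfl, fun _ => rfl⟩

theorem centCount_conj (R : ℕ) (y g : G) : centCount R (g * y * g⁻¹) = centCount R y := by
  refine (Nat.card_congr ((MulAut.conj g).toEquiv.subtypeEquiv fun z => ?_)).symm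
  simp only [MulEquiv.toEquiv_eq_coe, EquivLike.coe_coe]
  show _ ↔ Commute ((MulAut.conj g) z) ((MulAut.conj g) y) ∧ _
  rw [← map_pow, map_eq_one_iff _ (MulAut.conj g).injective]
  exact and_congr_left fun _ => ⟨fun h => h.map _,
    fun h => (MulAut.conj g).injective (by rw [map_mul, map_mul]; exact h.eq)⟩

/-- splitting `x` into two commuting parts of coprime order -/
theorem card_split {P R : ℕ} (hPR : P.Coprime R) (e : ℕ) (he1 : e ≡ 1 [MOD P])
    (he0 : e ≡ 0 [MOD R]) (Q : G → Prop) :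
    Nat.card {x : G // x ^ (P * R) = 1 ∧ Q (x ^ e)} =
      Nat.card ((y : {y : G // y ^ P = 1 ∧ Q y}) × {z : G // Commute z (y : G) ∧ z ^ R = 1}) := by
  obtain ⟨f, hf0, hf1⟩ := Nat.chineseRemainder hPR 0 1
  have hsum : e + f ≡ 1 [MOD P * R] :=
    (Nat.modEq_and_modEq_iff_modEq_mul hPR).1
      ⟨by simpa using he1.add hf0, by simpa using he0.add hf1⟩
  have hpow : ∀ (x : G) (N a b : ℕ), x ^ N = 1 → a ≡ b [MOD N] → x ^ a = x ^ b := fun x N a b hx h =>
    pow_eq_pow_iff_modEq.2 (h.of_dvd (orderOf_dvd_of_pow_eq_one hx))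
  refine Nat.card_congr ⟨fun x => ⟨⟨x.1 ^ e, ?_, x.2.2⟩,
      ⟨x.1 ^ f, Commute.pow_pow_self x.1 f e, ?_⟩⟩,
    fun yz => ⟨(yz.1 : G) * yz.2.1, ?_, ?_⟩, ?_, ?_⟩
  · rw [← pow_mul]
    obtain ⟨c, hc⟩ := (Nat.modEq_zero_iff_dvd.1 he0)
    rw [show e * P = (P * R) * c by rw [hc]; ring, pow_mul, x.2.1, one_pow]
  · rw [← pow_mul]
    obtain ⟨c, hc⟩ := (Nat.modEq_zero_iff_dvd.1 hf0)
    rw [hc, show P * c * R = (P * R) * c by ring, pow_mul, x.2.1, one_pow]
  · rw [(yz.2.2.1.symm).mul_pow, pow_mul, yz.1.2.1, one_pow, one_mul, mul_comm P R, pow_mul,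
      yz.2.2.2, one_pow]
  · rw [(yz.2.2.1.symm).mul_pow, hpow _ P e 1 yz.1.2.1 he1, hpow _ R e 0 yz.2.2.2 he0, pow_one,
      pow_zero, mul_one]
    exact yz.1.2.2
  · intro x
    apply Subtype.ext
    show x.1 ^ e * x.1 ^ f = x.1
    rw [← pow_add, hpow _ (P * R) _ 1 x.2.1 hsum, pow_one]
  · rintro ⟨⟨y, hy, hQ⟩, ⟨z, hzc, hz⟩⟩
    have h1 : (y * z) ^ e = y := by
      rw [hzc.symm.mul_pow, hpow _ P e 1 hy he1, hpow _ R e 0 hz he0, pow_one, pow_zero, mul_one]
    have h2 : (y * z) ^ f = z := by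
      rw [hzc.symm.mul_pow, hpow _ P f 0 hy hf0, hpow _ R f 1 hz hf1, pow_one, pow_zero, one_mul]
    refine Sigma.subtype_ext (Subtype.ext h1) ?_
    exact h2

/-- sums of class functions -/
theorem dvd_sum_of_conj_inv (s : Finset G) (hs : ∀ g : G, ∀ y ∈ s, g * y * g⁻¹ ∈ s) (f : G → ℕ)
    (hf : ∀ g y : G, f (g * y * g⁻¹) = f y) {d : ℕ}
    (hd : ∀ y ∈ s, d ∣ (centralizer ({y} : Set G)).index * f y) : d ∣ ∑ y ∈ s, f y := by
  classical
  haveI := Fintype.ofFinite (ConjClasses G)
  rw [← Finset.sum_fiberwise s ConjClasses.mk f]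
  refine Finset.dvd_sum fun c _ => ?_
  rcases (s.filter fun y => ConjClasses.mk y = c).eq_empty_or_nonempty with h0 | ⟨y, hy⟩
  · rw [h0, Finset.sum_empty]
    exact dvd_zero d
  rw [Finset.mem_filter] at hy
  obtain ⟨hys, rfl⟩ := hy
  have hset : ((s.filter fun x => ConjClasses.mk x = ConjClasses.mk y : Finset G) : Set G) =
      (ConjClasses.mk y).carrier := by
    ext x
    rw [Finset.coe_filter, ConjClasses.mem_carrier_iff_mk_eq]
    refine ⟨fun h => h.2, fun h => ⟨?_, h⟩⟩
    obtain ⟨g, rfl⟩ := isConj_iff.1 (ConjClasses.mk_eq_mk_iff_isConj.1 h.symm)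
    exact hs g y hys
  have hconst : ∀ x ∈ s.filter (fun x => ConjClasses.mk x = ConjClasses.mk y), f x = f y := by
    intro x hx
    rw [Finset.mem_filter] at hx
    obtain ⟨g, rfl⟩ := isConj_iff.1 (ConjClasses.mk_eq_mk_iff_isConj.1 hx.2.symm)
    exact hf g y
  rw [Finset.sum_congr rfl hconst, Finset.sum_const, smul_eq_mul, ← Set.ncard_coe_finset, hset,
    ncard_carrier]
  exact hd y hys

theorem dvd_card_split {P R : ℕ} (hPR : P.Coprime R) (e : ℕ) (he1 : e ≡ 1 [MOD P])
    (he0 : e ≡ 0 [MOD R]) (Q : G → Prop) (hQ : ∀ g y : G, Q y → Q (g * y * g⁻¹)) {d : ℕ}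
    (hd : ∀ y : G, y ^ P = 1 → Q y → d ∣ (centralizer ({y} : Set G)).index * centCount R y) :
    d ∣ Nat.card {x : G // x ^ (P * R) = 1 ∧ Q (x ^ e)} := by
  classical
  haveI := Fintype.ofFinite G
  rw [card_split hPR e he1 he0 Q, Nat.card_sigma]
  show d ∣ ∑ y : {y : G // y ^ P = 1 ∧ Q y}, centCount R (y : G)
  rw [← Finset.sum_subtype (Finset.univ.filter fun y : G => y ^ P = 1 ∧ Q y)
    (fun y => by simp) (centCount R)]
  refine dvd_sum_of_conj_inv _ ?_ _ (fun g y => centCount_conj R y g) ?_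
  · intro g y hy
    simp only [Finset.mem_filter, Finset.mem_univ, true_and] at hy ⊢
    exact ⟨by rw [conj_pow, hy.1, mul_one, mul_inv_cancel], hQ g y hy.2⟩
  · intro y hy
    simp only [Finset.mem_filter, Finset.mem_univ, true_and] at hy
    exact hd y hy.1 hy.2

/-- a set of elements closed under changing generators -/
theorem dvd_card_of_dvd_totient (Q : G → Prop)
    (hQ : ∀ x y : G, zpowers x = zpowers y → Q x → Q y) {d : ℕ}
    (hd : ∀ x, Q x → d ∣ Nat.totient (orderOf x)) : d ∣ Nat.card {x : G // Q x} := by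
  classical
  haveI := Fintype.ofFinite G
  haveI := Fintype.ofFinite (Subgroup G)
  rw [Nat.card_eq_fintype_card, Fintype.card_subtype,
    Finset.card_eq_sum_card_fiberwise (f := fun x : G => zpowers x) (t := Finset.univ)
      (fun x _ => Finset.mem_univ _)]
  refine Finset.dvd_sum fun H _ => ?_
  rcases ((Finset.univ.filter fun x => Q x).filter fun x => zpowers x = H).eq_empty_or_nonempty
    with h0 | ⟨x, hx⟩
  · rw [h0, Finset.card_empty]
    exact dvd_zero d
  simp only [Finset.mem_filter, Finset.mem_univ, true_and] at hx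
  obtain ⟨hxQ, rfl⟩ := hx
  have hcard : ((Finset.univ.filter fun y => Q y).filter fun y => zpowers y = zpowers x).card =
      Nat.totient (orderOf x) := by
    rw [← IsCyclic.card_orderOf_eq_totient (α := zpowers x)
      (by rw [Fintype.card_zpowers] : orderOf x ∣ Fintype.card (zpowers x))]
    symm
    refine Finset.card_bij (fun a _ => (a : G)) ?_ (fun a _ b _ h => Subtype.ext h) ?_
    · intro a ha
      simp only [Finset.mem_filter, Finset.mem_univ, true_and] at ha ⊢
      have h1 : zpowers (a : G) = zpowers x := by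
        refine Subgroup.eq_of_le_of_card_ge (zpowers_le.2 a.2) ?_
        rw [Nat.card_zpowers, Nat.card_zpowers, Subgroup.orderOf_coe, ha]
      exact ⟨hQ x a h1.symm hxQ, h1⟩
    · intro b hb
      simp only [Finset.mem_filter, Finset.mem_univ, true_and] at hb
      refine ⟨⟨b, hb.2 ▸ mem_zpowers b⟩, ?_, rfl⟩
      simp only [Finset.mem_filter, Finset.mem_univ, true_and]
      rw [Subgroup.orderOf_mk, ← Nat.card_zpowers, hb.2, Nat.card_zpowers]
  rw [hcard]
  exact hd x hxQ

/-- for a central element of coprime order, the solutions of `z ^ R = 1` are those of the quotient -/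
theorem card_pow_eq_one_quotient {P R : ℕ} (hPR : P.Coprime R) (N : Subgroup G) [N.Normal]
    (hN : ∀ a ∈ N, a ^ P = 1 ∧ ∀ g : G, Commute g a) :
    Nat.card {z : G // z ^ R = 1} = Nat.card {w : G ⧸ N // w ^ R = 1} := by
  obtain ⟨e, he0, he1⟩ := Nat.chineseRemainder hPR 0 1
  have hpow : ∀ (x : G) (M a b : ℕ), x ^ M = 1 → a ≡ b [MOD M] → x ^ a = x ^ b := fun x M a b hx h =>
    pow_eq_pow_iff_modEq.2 (h.of_dvd (orderOf_dvd_of_pow_eq_one hx))
  refine Nat.card_congr (Equiv.ofBijective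
    (fun z => ⟨QuotientGroup.mk' N z.1, by rw [← map_pow, z.2, map_one]⟩) ⟨?_, ?_⟩)
  · intro z z' h
    have h1 : QuotientGroup.mk' N z.1 = QuotientGroup.mk' N z'.1 := congrArg Subtype.val h
    have hn : z.1⁻¹ * z'.1 ∈ N := QuotientGroup.eq.1 h1
    obtain ⟨hnP, hnc⟩ := hN _ hn
    apply Subtype.ext
    have h2 : (z.1 * (z.1⁻¹ * z'.1)) ^ e = z'.1 ^ e := by rw [mul_inv_cancel_left]
    rw [(hnc z.1).mul_pow, hpow _ P e 0 hnP he0, pow_zero, mul_one,
      hpow _ R e 1 z.2 he1, hpow _ R e 1 z'.2 he1, pow_one, pow_one] at h2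
    exact h2
  · rintro ⟨w, hw⟩
    obtain ⟨g, rfl⟩ := QuotientGroup.mk'_surjective N w
    have hgN : g ^ R ∈ N := by
      rw [← QuotientGroup.eq_one_iff]
      exact hw
    obtain ⟨c, hc⟩ := Nat.modEq_zero_iff_dvd.1 he0
    refine ⟨⟨g ^ e, ?_⟩, Subtype.ext ?_⟩
    · rw [← pow_mul, hc, show P * c * R = R * (P * c) by ring, pow_mul, pow_mul,
        (hN _ hgN).1, one_pow]
    · show QuotientGroup.mk' N (g ^ e) = _
      rw [map_pow]
      have h3 : e ≡ 1 [MOD orderOf (QuotientGroup.mk' N g)] :=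
        he1.of_dvd (orderOf_dvd_of_pow_eq_one hw)
      rw [pow_eq_pow_iff_modEq.2 h3, pow_one]

universe u

theorem gcd_dvd_card_pow_eq_one' (N : ℕ) : ∀ (G : Type u) [Group G] [Finite G], Nat.card G = N →
    ∀ m : ℕ, Nat.gcd m (Nat.card G) ∣ Nat.card {g : G // g ^ m = 1} := by
  induction N using Nat.strong_induction_on with
  | _ N IH =>
  intro G _ _ hN
  suffices h : ∀ j n : ℕ, n ∣ Nat.card G → Nat.card G / n = j →
      n ∣ Nat.card {g : G // g ^ n = 1} by
    intro m
    have h1 := h _ (Nat.gcd m (Nat.card G)) (Nat.gcd_dvd_right _ _) rfl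
    refine h1.trans (dvd_of_eq (Nat.card_congr (Equiv.subtypeEquivRight fun g => ?_)))
    rw [pow_gcd_eq_one]
    exact ⟨fun h => h.1, fun h => ⟨h, pow_card_eq_one'⟩⟩
  intro j
  induction j using Nat.strong_induction_on with
  | _ j IHj =>
  intro n hn hj
  have hG0 : 0 < Nat.card G := Nat.card_pos
  obtain ⟨q, hq⟩ := hn
  have hn0 : 0 < n := Nat.pos_of_ne_zero fun h => by rw [h, zero_mul] at hq; omega
  have hjq : j = q := by rw [← hj, hq, Nat.mul_div_cancel_left _ hn0]
  by_cases hq1 : q = 1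
  · rw [hq1, mul_one] at hq
    rw [← hq]
    refine dvd_of_eq (Nat.card_congr ?_).symm
    exact Equiv.subtypeUnivEquiv fun g => pow_card_eq_one'
  obtain ⟨p, hp, q', rfl⟩ := Nat.exists_prime_and_dvd hq1
  haveI := Fact.mk hp
  have hq'0 : 0 < q' := Nat.pos_of_ne_zero fun h => by rw [h, mul_zero, mul_zero] at hq; omega
  have hnp : n * p ∣ Nat.card G := ⟨q', by rw [hq, mul_assoc]⟩
  have hA := IHj q' (by rw [hjq]; exact lt_mul_of_one_lt_left hq'0 hp.one_lt) (n * p) hnp
    (by rw [hq, ← mul_assoc, Nat.mul_div_cancel_left _ (Nat.mul_pos hn0 hp.pos)])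
  obtain ⟨k, r, hr, hkr⟩ := Nat.exists_eq_pow_mul_and_not_dvd hn0.ne' p hp.ne_one
  set P := p ^ (k + 1) with hP
  have hPR : P.Coprime r := ((hp.coprime_iff_not_dvd).2 hr).pow_left _
  have hnp' : n * p = P * r := by rw [hkr, hP, pow_succ]; ring
  obtain ⟨e, he1, he0⟩ := Nat.chineseRemainder hPR 1 0
  -- the new solutions
  set B := {x : G | x ^ (n * p) = 1 ∧ x ^ n ≠ 1} with hB
  have hsplit : Nat.card {g : G // g ^ (n * p) = 1} =
      Nat.card {g : G // g ^ n = 1} + B.ncard := by
    have h1 : {g : G | g ^ (n * p) = 1} = {g : G | g ^ n = 1} ∪ B := by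
      ext g
      constructor
      · intro hg
        by_cases h : g ^ n = 1
        · exact Or.inl h
        · exact Or.inr ⟨hg, h⟩
      · rintro (h | h)
        · show g ^ (n * p) = 1
          rw [pow_mul, show g ^ n = 1 from h, one_pow]
        · exact h.1
    have h2 : Disjoint {g : G | g ^ n = 1} B := Set.disjoint_left.2 fun g h h' => h'.2 h
    show ({g : G | g ^ (n * p) = 1}).ncard = ({g : G | g ^ n = 1}).ncard + _
    rw [h1, Set.ncard_union_eq h2]
  suffices hBn : n ∣ B.ncard by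
    have h3 : n ∣ Nat.card {g : G // g ^ (n * p) = 1} := (dvd_mul_right n p).trans hA
    rw [hsplit] at h3
    exact (Nat.dvd_add_left hBn).1 h3
  rw [hkr]
  refine Nat.Coprime.mul_dvd_of_dvd_of_dvd (((hp.coprime_iff_not_dvd).2 hr).pow_left k) ?_ ?_
  · show p ^ k ∣ Nat.card {x : G // x ^ (n * p) = 1 ∧ x ^ n ≠ 1}
    refine dvd_card_of_dvd_totient _ ?_ ?_
    · intro x y hxy hx
      have hdvd : orderOf y = orderOf x := by rw [← Nat.card_zpowers, ← hxy, Nat.card_zpowers]
      have hiff : ∀ i, y ^ i = 1 ↔ x ^ i = 1 := fun i => by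
        rw [← orderOf_dvd_iff_pow_eq_one, hdvd, orderOf_dvd_iff_pow_eq_one]
      exact ⟨(hiff _).2 hx.1, fun h => hx.2 ((hiff _).1 h)⟩
    · rintro x ⟨hx1, hx2⟩
      have h1 : orderOf x ∣ P * r := hnp' ▸ orderOf_dvd_of_pow_eq_one hx1
      have h2 : ¬ orderOf x ∣ p ^ k * r := fun h => hx2 (hkr ▸ orderOf_dvd_iff_pow_eq_one.1 h)
      obtain ⟨a, b, ha, hb, hab⟩ := Nat.dvd_mul.1 h1
      obtain ⟨i, hi, rfl⟩ := (Nat.dvd_prime_pow hp).1 ha
      have hik : i = k + 1 := by
        by_contra hne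
        exact h2 (hab ▸ Nat.mul_dvd_mul (pow_dvd_pow p (by omega)) hb)
      subst hik
      rw [← hab, Nat.totient_mul (Nat.Coprime.coprime_dvd_right hb hPR),
        Nat.totient_prime_pow hp (Nat.succ_pos k)]
      exact dvd_mul_of_dvd_left (dvd_mul_right _ _) _
  · have hBeq : B.ncard = Nat.card {x : G // x ^ (P * r) = 1 ∧ (x ^ e) ^ (p ^ k) ≠ 1} := by
      refine Nat.card_congr (Equiv.subtypeEquivRight fun x => ?_)
      show x ^ (n * p) = 1 ∧ x ^ n ≠ 1 ↔ _
      rw [hnp']
      refine and_congr_right fun hx => not_congr ?_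
      constructor
      · intro h
        obtain ⟨c, hc⟩ := Nat.modEq_zero_iff_dvd.1 he0
        rw [← pow_mul, hc, show r * c * p ^ k = (p ^ k * r) * c by ring, pow_mul, ← hkr, h, one_pow]
      · intro h
        have h1 : p ^ k * r * e ≡ p ^ k * r [MOD P * r] := by
          refine (Nat.modEq_and_modEq_iff_modEq_mul hPR).1 ⟨?_, ?_⟩
          · simpa using he1.mul_left (p ^ k * r)
          · exact (Nat.modEq_zero_iff_dvd.2 ((dvd_mul_left r _).mul_right e)).trans
              (Nat.modEq_zero_iff_dvd.2 (dvd_mul_left r _)).symm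
        have h2 : x ^ (p ^ k * r * e) = x ^ (p ^ k * r) :=
          pow_eq_pow_iff_modEq.2 (h1.of_dvd (orderOf_dvd_of_pow_eq_one hx))
        rw [hkr, ← h2, show p ^ k * r * e = e * p ^ k * r by ring, pow_mul, pow_mul, h, one_pow]
    rw [hBeq]
    refine dvd_card_split (G := G) hPR e he1 he0 (fun y : G => y ^ (p ^ k) ≠ 1) ?_ ?_
    · intro g y hy h
      rw [conj_pow] at h
      exact hy (conj_eq_one_iff.1 h)
    intro y hy hy'
    set C := centralizer ({y} : Set G) with hC
    have hgcd : Nat.gcd r (Nat.card C) ∣ centCount r y := by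
      by_cases htop : C = ⊤
      · have hcen : ∀ g : G, Commute g y := fun g =>
          mem_centralizer_singleton_iff.1 (show g ∈ C from htop ▸ mem_top g)
        haveI hNn : (zpowers y).Normal := by
          constructor
          intro a ha g
          obtain ⟨i, rfl⟩ := ha
          rw [((hcen g).zpow_right i).eq, mul_inv_cancel_right]
          exact zpow_mem (mem_zpowers y) i
        have hN' : ∀ a ∈ zpowers y, a ^ P = 1 ∧ ∀ g : G, Commute g a := by
          rintro a ⟨i, rfl⟩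
          refine ⟨?_, fun g => (hcen g).zpow_right i⟩
          rw [← zpow_natCast, ← zpow_mul, mul_comm, zpow_mul, zpow_natCast, hy, one_zpow]
        have hcnt : centCount r y = Nat.card {z : G // z ^ r = 1} :=
          Nat.card_congr (Equiv.subtypeEquivRight fun z => ⟨fun h => h.2, fun h => ⟨hcen z, h⟩⟩)
        have hC' : Nat.card C = Nat.card G := by rw [htop, card_top]
        rw [hcnt, card_pow_eq_one_quotient hPR (zpowers y) hN', hC']
        have hy1 : y ≠ 1 := fun h => hy' (by rw [h, one_pow])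
        have hlt : Nat.card (G ⧸ zpowers y) < Nat.card G := by
          conv_rhs => rw [card_eq_card_quotient_mul_card_subgroup (zpowers y)]
          exact lt_mul_of_one_lt_right Nat.card_pos
            ((one_lt_card_iff_ne_bot _).2 (fun h => hy1 (zpowers_eq_bot.1 h)))
        refine dvd_trans ?_ (IH _ (hN ▸ hlt) (G ⧸ zpowers y) rfl r)
        refine Nat.dvd_gcd (Nat.gcd_dvd_left _ _) ?_
        have h1 : Nat.gcd r (Nat.card G) ∣ Nat.card (G ⧸ zpowers y) * Nat.card (zpowers y) :=
          (Nat.gcd_dvd_right r (Nat.card G)).trans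
            (dvd_of_eq (card_eq_card_quotient_mul_card_subgroup (zpowers y)))
        refine Nat.Coprime.dvd_of_dvd_mul_right ?_ h1
        rw [Nat.card_zpowers]
        exact Nat.Coprime.of_dvd (Nat.gcd_dvd_left _ _) (orderOf_dvd_of_pow_eq_one hy) hPR.symm
      · rw [centCount_eq]
        have hlt : Nat.card C < Nat.card G := by
          rw [← C.card_mul_index]
          refine lt_mul_of_one_lt_right Nat.card_pos ?_
          have h1 : C.index ≠ 1 := fun h => htop (index_eq_one.1 h)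
          have h2 : C.index ≠ 0 := index_ne_zero_of_finite
          omega
        exact IH _ (hN ▸ hlt) C rfl r
    have hrG : r ∣ C.index * Nat.card C := by
      rw [mul_comm, C.card_mul_index]
      exact ((Dvd.intro_left (p ^ k) hkr.symm).trans (dvd_mul_right n p)).trans hnp
    calc r ∣ Nat.gcd (C.index * r) (C.index * Nat.card C) := Nat.dvd_gcd (dvd_mul_left _ _) hrG
      _ = C.index * Nat.gcd r (Nat.card C) := Nat.gcd_mul_left _ _ _
      _ ∣ C.index * centCount r y := Nat.mul_dvd_mul_left _ hgcd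

theorem gcd_dvd_card_pow_eq_one (G : Type*) [Group G] [Finite G] (m : ℕ) :
    Nat.gcd m (Nat.card G) ∣ Nat.card {g : G // g ^ m = 1} :=
  gcd_dvd_card_pow_eq_one' _ G rfl m

theorem dvd_index_mul_centCount {R : ℕ} (hR : R ∣ Nat.card G) (y : G) :
    R ∣ (centralizer ({y} : Set G)).index * centCount R y := by
  set C := centralizer ({y} : Set G)
  have hrG : R ∣ C.index * Nat.card C := by rwa [mul_comm, C.card_mul_index]
  calc R ∣ Nat.gcd (C.index * R) (C.index * Nat.card C) := Nat.dvd_gcd (dvd_mul_left _ _) hrG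
    _ = C.index * Nat.gcd R (Nat.card C) := Nat.gcd_mul_left _ _ _
    _ ∣ C.index * centCount R y := by
        rw [centCount_eq]
        exact Nat.mul_dvd_mul_left _ (gcd_dvd_card_pow_eq_one C R)

end Cfsg.Agent.FGS76
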