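import Cfsg.Agent.FGS76.SameOrderConj
import Cfsg.Agent.FG38.ConjAbSubgroups
import Cfsg.Agent.FG38.ConjAbQuot

/-!
Solvable groups in which `p`-subgroups of the same order are conjugate and all but one Sylow class is
cyclic: subgroups of the same order are conjugate.
-/

set_option autoImplicit false

namespace Cfsg.Agent.FGS76.AllConj

open Subgroup
open Cfsg.Agent.FG38 (SmallSylow C4Conj map_conj_mul card_map_mul card_inf_eq_gcd)
open Cfsg.Agent.FGS76.SameOrder (ConjP)

/-- Two subgroups of a cyclic Sylow subgroup: a subgroup of prime order is contained. -/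
theorem le_of_cyclic_sylow {X : Type*} [Group X] [Finite X] {q : ℕ} [Fact q.Prime]
    (hc : ∀ Q : Sylow q X, IsCyclic Q) (M : Subgroup X) [M.Normal] (hM : Nat.card M = q)
    (C : Subgroup X) (hd : q ∣ Nat.card C) : M ≤ C := by
  obtain ⟨c, hc0⟩ := exists_prime_orderOf_dvd_card' (G := C) q hd
  have hc' : Nat.card (zpowers (c : X)) = q := by rw [Nat.card_zpowers, Subgroup.orderOf_coe, hc0]
  obtain ⟨R, hR⟩ := (IsPGroup.of_card (n := 1) (hc'.trans (pow_one q).symm)).exists_le_sylow
  have hMR : M ≤ (R : Subgroup X) :=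
    (IsPGroup.of_card (n := 1) (hM.trans (pow_one q).symm)).le_sylow_of_normal R
  haveI := hc R
  have h := FG38.le_of_card_dvd_cyclic (A := M.subgroupOf (R : Subgroup X))
    (B := (zpowers (c : X)).subgroupOf (R : Subgroup X))
    (by rw [Nat.card_congr (subgroupOfEquivOfLe hMR).toEquiv,
      Nat.card_congr (subgroupOfEquivOfLe hR).toEquiv, hM, hc'])
  intro m hm
  exact (zpowers_le.mpr c.2) (h (show (⟨m, hMR hm⟩ : ↥(R : Subgroup X)) ∈ M.subgroupOf _ from hm))

theorem c4Conj_of_cyclic {X : Type*} [Group X] [Finite X] (hc : ∀ Q : Sylow 2 X, IsCyclic Q) :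
    C4Conj X := by
  intro x y hx hy
  have hp : ∀ z : X, orderOf z = 4 → IsPGroup 2 (zpowers z) := fun z hz =>
    IsPGroup.of_card (n := 2) (by rw [Nat.card_zpowers, hz]; rfl)
  obtain ⟨S, hS⟩ := (hp x hx).exists_le_sylow
  obtain ⟨T, hT⟩ := (hp y hy).exists_le_sylow
  obtain ⟨g, rfl⟩ := MulAction.exists_smul_eq X S T
  refine ⟨g, ?_⟩
  set Z := (zpowers x).map (MulAut.conj g).toMonoidHom with hZ
  have hZT : Z ≤ ((g • S : Sylow 2 X) : Subgroup X) := by
    rw [Sylow.coe_subgroup_smul]
    exact map_mono hS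
  haveI := hc (g • S)
  have hcard : Nat.card (zpowers y) = Nat.card Z := by
    rw [hZ, card_map_of_injective (MulAut.conj g).injective, Nat.card_zpowers, Nat.card_zpowers, hx, hy]
  have h := FG38.le_of_card_dvd_cyclic
    (A := (zpowers y).subgroupOf ((g • S : Sylow 2 X) : Subgroup X))
    (B := Z.subgroupOf ((g • S : Sylow 2 X) : Subgroup X))
    (by rw [Nat.card_congr (subgroupOfEquivOfLe hT).toEquiv,
      Nat.card_congr (subgroupOfEquivOfLe hZT).toEquiv, hcard])
  refine eq_of_le_of_card_ge (fun m hm => ?_) hcard.ge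
  exact h (show (⟨m, hT hm⟩ : ((g • S : Sylow 2 X) : Subgroup X)) ∈ (zpowers y).subgroupOf _ from hm)

theorem c4Conj_of_conjP {X : Type*} [Group X] (hC : ConjP 2 X) : C4Conj X := fun x y hx hy =>
  hC (zpowers x) (zpowers y) (IsPGroup.of_card (n := 2) (by rw [Nat.card_zpowers, hx]; rfl))
    (IsPGroup.of_card (n := 2) (by rw [Nat.card_zpowers, hy]; rfl))
    (by rw [Nat.card_zpowers, Nat.card_zpowers, hx, hy])

/-- The hypothesis passes to quotients. -/
theorem conjP_quotient {X : Type*} [Group X] [Finite X] (M : Subgroup X) [M.Normal] {p : ℕ}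
    [Fact p.Prime] (hC : ConjP p X) : ConjP p (X ⧸ M) := by
  have hlift : ∀ A : Subgroup (X ⧸ M), IsPGroup p A → ∃ S : Subgroup X, IsPGroup p S ∧
      Nat.card S = p ^ (Nat.card M * Nat.card A).factorization p ∧
      S.map (QuotientGroup.mk' M) = A := by
    intro A hA
    obtain ⟨T⟩ := (inferInstance : Nonempty (Sylow p (A.comap (QuotientGroup.mk' M))))
    refine ⟨(T : Subgroup (A.comap (QuotientGroup.mk' M))).map (Subgroup.subtype _),
      T.isPGroup'.map _, ?_, ?_⟩
    · rw [card_map_of_injective (subtype_injective _), T.card_eq_multiplicity,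
        Thompson.card_comap_quotient, Nat.mul_comm]
    · let f : A.comap (QuotientGroup.mk' M) →* A := (QuotientGroup.mk' M).subgroupComap A
      have hf : Function.Surjective f :=
        (QuotientGroup.mk' M).subgroupComap_surjective_of_surjective A (QuotientGroup.mk'_surjective M)
      obtain ⟨k, hk⟩ := IsPGroup.iff_card.1 hA
      have htop : (T.mapSurjective hf : Subgroup A) = ⊤ :=
        Subgroup.eq_top_of_card_eq _ (by
          rw [(T.mapSurjective hf).card_eq_multiplicity, hk, Nat.Prime.factorization_pow Fact.out]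
          simp)
      rw [Sylow.coe_mapSurjective] at htop
      rw [Subgroup.map_map, show (QuotientGroup.mk' M).comp (Subgroup.subtype _) = A.subtype.comp f from rfl,
        ← Subgroup.map_map, htop, ← MonoidHom.range_eq_map, range_subtype]
  intro A B hA hB hcard
  obtain ⟨S, hS, hSc, rfl⟩ := hlift A hA
  obtain ⟨T, hT, hTc, rfl⟩ := hlift B hB
  obtain ⟨g, hg⟩ := hC S T hS hT (by rw [hSc, hTc, hcard])
  refine ⟨QuotientGroup.mk' M g, ?_⟩
  rw [hg, Subgroup.map_map, Subgroup.map_map]
  congr 1

theorem cyclic_quotient {X : Type*} [Group X] [Finite X] (M : Subgroup X) [M.Normal] {r : ℕ}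
    (hcyc : ∀ p : ℕ, p.Prime → p ≠ r → ∀ P : Sylow p X, IsCyclic P) :
    ∀ p : ℕ, p.Prime → p ≠ r → ∀ P : Sylow p (X ⧸ M), IsCyclic P := by
  intro p hp hpr P
  haveI := Fact.mk hp
  obtain ⟨Q, rfl⟩ := Sylow.mapSurjective_surjective (QuotientGroup.mk'_surjective M) p P
  rw [Sylow.coe_mapSurjective]
  haveI := hcyc p hp hpr Q
  exact isCyclic_of_surjective ((QuotientGroup.mk' M).subgroupMap (Q : Subgroup X))
    ((QuotientGroup.mk' M).subgroupMap_surjective _)

/-- A normal Sylow subgroup: reduction to the complement. -/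
theorem conj_of_normal_sylow {X : Type*} [Group X] [Finite X] (hsol : Group.IsSolvable X) {r : ℕ}
    [Fact r.Prime] (hC : ConjP r X)
    (hcyc : ∀ p : ℕ, p.Prime → p ≠ r → ∀ P : Sylow p X, IsCyclic P) (R : Sylow r X)
    [(R : Subgroup X).Normal] (A B : Subgroup X) (h : Nat.card A = Nat.card B) :
    ∃ g : X, B = A.map (MulAut.conj g).toMonoidHom := by
  set V := (R : Subgroup X) with hV
  have hcop : (Nat.card V).Coprime V.index := R.card_coprime_index
  obtain ⟨g, hg⟩ := hC (A ⊓ V) (B ⊓ V) (R.isPGroup'.to_le inf_le_right) (R.isPGroup'.to_le inf_le_right)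
    (by rw [card_inf_eq_gcd V hcop, card_inf_eq_gcd V hcop, h])
  set A' := A.map (MulAut.conj g).toMonoidHom with hA'
  have hI : A' ⊓ V = B ⊓ V := by
    rw [hg, hA', Subgroup.map_inf _ _ _ (MulAut.conj g).injective]
    congr 1
    exact (mem_normalizer_iff_map_conj_eq.mp (by rw [normalizer_eq_top]; exact mem_top g)).symm
  suffices hD : ∀ D₁ D₂ : Subgroup X, D₁ ≤ normalizer ((A' ⊓ V : Subgroup X) : Set X) →
      D₂ ≤ normalizer ((A' ⊓ V : Subgroup X) : Set X) → Nat.card D₁ = Nat.card D₂ →
      Nat.card D₁ ∣ V.index →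
      ∃ g ∈ normalizer ((A' ⊓ V : Subgroup X) : Set X), D₂ = D₁.map (MulAut.conj g).toMonoidHom by
    obtain ⟨k, hk⟩ := FG38.conj_of_hall V hcop (A := A') (B := B)
      (by rw [hA', card_map_of_injective (MulAut.conj g).injective, h]) hI hD
    exact ⟨k * g, by rw [map_conj_mul]; exact hk⟩
  intro D₁ D₂ hD₁ hD₂ hcard hdvd
  set N := normalizer ((A' ⊓ V : Subgroup X) : Set X)
  set M := V.subgroupOf N with hM
  haveI hMn : M.Normal := by rw [hM]; infer_instance
  -- the quotient has all Sylow subgroups cyclic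
  have hNc : ∀ p : ℕ, p.Prime → ∀ P : Sylow p (N ⧸ M), IsCyclic P := by
    intro p hp P
    haveI := Fact.mk hp
    obtain ⟨Q, rfl⟩ := Sylow.mapSurjective_surjective (QuotientGroup.mk'_surjective M) p P
    rw [Sylow.coe_mapSurjective]
    by_cases hpr : p = r
    · subst hpr
      have hle : ((Q : Subgroup N).map (QuotientGroup.mk' M)) = ⊥ := by
        rw [Subgroup.map_eq_bot_iff, QuotientGroup.ker_mk']
        intro x hx
        obtain ⟨k, hk⟩ := Q.isPGroup' ⟨x, hx⟩
        have h1 : IsPGroup p (zpowers (x : X)) := by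
          obtain ⟨j, -, hj⟩ := (Nat.dvd_prime_pow hp).1 (orderOf_dvd_of_pow_eq_one
            (show (x : X) ^ p ^ k = 1 from congrArg (fun t : (Q : Subgroup N) => ((t : N) : X)) hk))
          exact IsPGroup.of_card (n := j) (by rw [Nat.card_zpowers, hj])
        obtain ⟨T, hT⟩ := h1.exists_le_sylow
        letI := Sylow.unique_of_normal R ‹V.Normal›
        rw [Subsingleton.elim T R] at hT
        exact hT (mem_zpowers (x : X))
      rw [hle]
      infer_instance
    · obtain ⟨T, hT⟩ := (Q.isPGroup'.map N.subtype).exists_le_sylow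
      haveI := hcyc p hp hpr T
      haveI : IsCyclic (Q : Subgroup N) := by
        refine isCyclic_of_injective ((Subgroup.inclusion hT).comp
          ((Q : Subgroup N).equivMapOfInjective N.subtype N.subtype_injective).toMonoidHom) ?_
        exact (inclusion_injective hT).comp (MulEquiv.injective _)
      exact isCyclic_of_surjective ((QuotientGroup.mk' M).subgroupMap (Q : Subgroup N))
        ((QuotientGroup.mk' M).subgroupMap_surjective _)
  haveI : Group.IsSolvable X := hsol
  have hMcard : ∀ D : Subgroup X, Nat.card D ∣ V.index → (Nat.card D).Coprime (Nat.card M) := by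
    intro D hD
    refine (hcop.symm.coprime_dvd_left hD).coprime_dvd_right ?_
    rw [hM, ← card_map_of_injective N.subtype_injective, subgroupOf_map_subtype]
    exact card_dvd_of_le inf_le_left
  have himg : ∀ D : Subgroup X, D ≤ N → Nat.card D ∣ V.index →
      Nat.card ((D.subgroupOf N).map (QuotientGroup.mk' M)) = Nat.card D := by
    intro D hDN hD
    have h1 := card_map_mul (QuotientGroup.mk' M) (D.subgroupOf N)
    have h2 : (D.subgroupOf N) ⊓ (QuotientGroup.mk' M).ker = ⊥ := by
      rw [QuotientGroup.ker_mk']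
      refine Subgroup.inf_eq_bot_of_coprime ?_
      rw [Nat.card_congr (subgroupOfEquivOfLe hDN).toEquiv]
      exact hMcard D hD
    rw [h2, card_bot, one_mul, Nat.card_congr (subgroupOfEquivOfLe hDN).toEquiv] at h1
    exact h1
  obtain ⟨nb, hnb⟩ := FG38.conj_of_small (X := N ⧸ M)
    (Group.isSolvable_of_surjective (QuotientGroup.mk'_surjective M))
    (fun p hp P => Or.inl (hNc p hp P)) (c4Conj_of_cyclic (hNc 2 Nat.prime_two))
    ((D₁.subgroupOf N).map (QuotientGroup.mk' M)) ((D₂.subgroupOf N).map (QuotientGroup.mk' M))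
    (by rw [himg D₁ hD₁ hdvd, himg D₂ hD₂ (hcard ▸ hdvd), hcard])
  obtain ⟨n, rfl⟩ := QuotientGroup.mk'_surjective M nb
  set D' := (D₁.subgroupOf N).map (MulAut.conj n).toMonoidHom with hD'
  have hD'c : Nat.card D' = Nat.card D₁ := by
    rw [hD', card_map_of_injective (MulAut.conj n).injective,
      Nat.card_congr (subgroupOfEquivOfLe hD₁).toEquiv]
  have hmap : D'.map (QuotientGroup.mk' M) = (D₂.subgroupOf N).map (QuotientGroup.mk' M) := by
    rw [hnb, hD', Subgroup.map_map, Subgroup.map_map]
    congr 1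
  have hle : D' ≤ M ⊔ D₂.subgroupOf N := by
    have h := le_comap_map (QuotientGroup.mk' M) D'
    rwa [hmap, comap_map_eq, QuotientGroup.ker_mk', sup_comm] at h
  obtain ⟨m, -, hm⟩ := Coprime.exists_conj_le_of_le_sup D' M (D₂.subgroupOf N)
    (by rw [normalizer_eq_top]; exact le_top) (by rw [normalizer_eq_top]; exact le_top)
    (by rw [hD'c]; exact hMcard D₁ hdvd) (Or.inl inferInstance) hle
  refine ⟨((m * n : N) : X), SetLike.coe_mem _, ?_⟩
  refine (eq_of_le_of_card_ge ?_ (by
    rw [card_map_of_injective (MulAut.conj _).injective, hcard])).symm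
  rintro _ ⟨a, ha, rfl⟩
  have h1 := hm ((MulAut.conj n) ⟨a, hD₁ ha⟩) ⟨⟨a, hD₁ ha⟩, ha, rfl⟩
  have h2 : ((m * (MulAut.conj n ⟨a, hD₁ ha⟩) * m⁻¹ : N) : X) ∈ D₂ := h1
  simpa [mul_assoc] using h2

theorem main_aux (c : ℕ) : ∀ {X : Type*} [Group X] [Finite X], Nat.card X ≤ c → Group.IsSolvable X →
    (∀ p : ℕ, p.Prime → ConjP p X) → ∀ r : ℕ,
    (∀ p : ℕ, p.Prime → p ≠ r → ∀ P : Sylow p X, IsCyclic P) →
    ∀ A B : Subgroup X, Nat.card A = Nat.card B → ∃ g : X, B = A.map (MulAut.conj g).toMonoidHom := by
  induction c with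
  | zero => intro X _ _ h; exact absurd h (Nat.not_le.mpr Nat.card_pos)
  | succ c ih =>
    intro X _ _ hle hsol hC r hcyc A B hcard
    haveI := hsol
    have hsmall : SmallSylow X →
        ∃ g : X, B = A.map (MulAut.conj g).toMonoidHom := fun hS =>
      FG38.conj_of_small hsol hS (c4Conj_of_conjP (hC 2 Nat.prime_two)) A B hcard
    by_cases hr : r.Prime
    swap
    · exact hsmall fun p hp P => Or.inl (hcyc p hp (fun h => hr (h ▸ hp)) P)
    haveI := Fact.mk hr
    obtain ⟨R⟩ := (inferInstance : Nonempty (Sylow r X))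
    have hall : IsCyclic R ∨ (r = 2 ∧ Nonempty (↥(R : Subgroup X) ≃* QuaternionGroup (2 ^ 1))) →
        ∃ g : X, B = A.map (MulAut.conj g).toMonoidHom := by
      intro hR
      refine hsmall fun p hp P => ?_
      by_cases hpr : p = r
      · subst hpr
        rcases hR with h | ⟨h2, ⟨e⟩⟩
        · haveI := h
          exact Or.inl (isCyclic_of_surjective (R.equiv P) (R.equiv P).surjective)
        · exact Or.inr ⟨h2, ⟨((R.equiv P).symm).trans e⟩⟩
      · exact Or.inl (hcyc p hp hpr P)
    have hI := SameOrder.isoOrder_sylow (hC r hr) R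
    rcases SameOrder.cases_exponent R.isPGroup' hI with hexp | h | ⟨h2, n, ⟨e⟩⟩
    swap
    · exact hall (Or.inl h)
    swap
    · have hn := SameOrder.quaternion_eight hI e
      subst hn
      exact hall (Or.inr ⟨h2, ⟨e⟩⟩)
    haveI : (pPrimeCore r X).Normal := Thompson.sSup_normal fun N hN => hN.1
    by_cases hO : pPrimeCore r X = ⊥
    · -- the Sylow `r`-subgroup is normal
      rcases subsingleton_or_nontrivial X with h | h
      · exact ⟨1, Subsingleton.elim _ _⟩
      haveI : (pCore r X).Normal := Thompson.sSup_normal fun N hN => hN.1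
      have hne : pCore r X ≠ ⊥ := by
        obtain ⟨M, hM, -⟩ := Fitting.exists_isMinNormal_le (normal_top (G := X)) top_ne_bot
        obtain ⟨q, hq, hMe⟩ := hM.exists_isElementaryAbelian_of_isSolvable
        haveI := Fact.mk hq
        have hMq := Fitting.isPGroup_of_isElementaryAbelian hMe
        by_cases hqr : q = r
        · subst hqr
          exact fun hb => hM.2.1 (le_bot_iff.1 (hb ▸ Thompson.le_pCore hM.1 hMq))
        · intro _
          obtain ⟨k, hk⟩ := IsPGroup.iff_card.1 hMq
          refine hM.2.1 (le_bot_iff.1 (hO ▸ Thompson.le_pPrimeCore hM.1 ?_))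
          rw [hk]
          exact ((Nat.coprime_primes hq hr).2 hqr).pow_left k
      haveI : Nontrivial (pCore r X) := (Subgroup.nontrivial_iff_ne_bot _).2 hne
      obtain ⟨k, hk0, hk⟩ := (Thompson.isPGroup_pCore (G := X) (p := r)).nontrivial_iff_card.1
        (inferInstance : Nontrivial (pCore r X))
      obtain ⟨m, hm⟩ := exists_prime_orderOf_dvd_card' (G := pCore r X) r (hk ▸ dvd_pow_self r hk0.ne')
      have hRle : (R : Subgroup X) ≤ pCore r X := by
        intro x hx
        by_cases hx1 : x = 1
        · exact hx1 ▸ one_mem _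
        have hxo : orderOf x = r := orderOf_eq_prime (congrArg Subtype.val (hexp ⟨x, hx⟩)) hx1
        have hmo : orderOf (m : X) = r := by rw [Subgroup.orderOf_coe, hm]
        have hpg : ∀ y : X, orderOf y = r → IsPGroup r (zpowers y) := fun y hy =>
          IsPGroup.of_card (n := 1) (by rw [Nat.card_zpowers, hy, pow_one])
        obtain ⟨g, hg⟩ := hC r hr _ _ (hpg _ hmo) (hpg _ hxo)
          (by rw [Nat.card_zpowers, Nat.card_zpowers, hmo, hxo])
        have hmem : x ∈ (zpowers (m : X)).map (MulAut.conj g).toMonoidHom := hg ▸ mem_zpowers x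
        obtain ⟨y, hy, rfl⟩ := hmem
        exact Normal.conj_mem inferInstance y (zpowers_le.2 m.2 hy) g
      haveI : (R : Subgroup X).Normal :=
        le_antisymm hRle (Thompson.pCore_le_sylow R) ▸ (inferInstance : (pCore r X).Normal)
      exact conj_of_normal_sylow hsol (hC r hr) hcyc R A B hcard
    · -- a normal subgroup of prime order different from `r`
      obtain ⟨M, hM, hMO⟩ :=
        Fitting.exists_isMinNormal_le (inferInstance : (pPrimeCore r X).Normal) hO
      haveI := hM.1
      obtain ⟨q, hq, hMe⟩ := hM.exists_isElementaryAbelian_of_isSolvable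
      haveI := Fact.mk hq
      haveI : Nontrivial M := (Subgroup.nontrivial_iff_ne_bot _).2 hM.2.1
      obtain ⟨k, hk0, hk⟩ := (Fitting.isPGroup_of_isElementaryAbelian hMe).nontrivial_iff_card.1
        (inferInstance : Nontrivial M)
      have hqr : q ≠ r := by
        intro h
        subst h
        exact (Nat.Prime.coprime_iff_not_dvd hr).1 Thompson.card_pPrimeCore_coprime.symm
          ((hk ▸ dvd_pow_self q hk0.ne' : q ∣ Nat.card M).trans (card_dvd_of_le hMO))
      have hQc : ∀ Q : Sylow q X, IsCyclic Q := hcyc q hq hqr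
      have hMq : Nat.card M = q := by
        obtain ⟨Q⟩ := (inferInstance : Nonempty (Sylow q X))
        have hMQ := (Fitting.isPGroup_of_isElementaryAbelian hMe).le_sylow_of_normal Q
        haveI := hQc Q
        obtain ⟨x, hx⟩ := (isCyclic_of_injective (inclusion hMQ) (inclusion_injective hMQ)).exists_generator
        have hx1 : x ≠ 1 := fun h => hM.2.1 ((eq_bot_iff_forall M).mpr fun y hy => by
          obtain ⟨i, hi⟩ := mem_zpowers_iff.mp (hx ⟨y, hy⟩)
          rw [h, one_zpow] at hi
          exact (congrArg Subtype.val hi).symm)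
        rw [← orderOf_eq_card_of_forall_mem_zpowers hx]
        exact orderOf_eq_prime (Subtype.ext (by simpa using hMe.2 x x.2)) hx1
      set f := QuotientGroup.mk' M with hf
      have hker : f.ker = M := QuotientGroup.ker_mk' M
      have hin : ∀ C : Subgroup X, q ∣ Nat.card C → M ≤ C := fun C hd =>
        le_of_cyclic_sylow hQc M hMq C hd
      have hinf : ∀ C : Subgroup X, Nat.card ↥(C ⊓ f.ker) = if q ∣ Nat.card C then q else 1 := by
        intro C
        rw [hker]
        split_ifs with hd
        · rw [inf_eq_right.mpr (hin C hd), hMq]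
        · rcases (Nat.dvd_prime hq).mp (hMq ▸ card_dvd_of_le (inf_le_right : C ⊓ M ≤ M)) with h | h
          · exact h
          · exact absurd (h ▸ card_dvd_of_le (inf_le_left : C ⊓ M ≤ C)) hd
      have hmapcard : Nat.card (A.map f) = Nat.card (B.map f) := by
        have e1 := card_map_mul f A
        have e2 := card_map_mul f B
        rw [hinf] at e1 e2
        rw [← hcard] at e2
        refine Nat.eq_of_mul_eq_mul_left ?_ (e1.trans e2.symm)
        split_ifs
        exacts [hq.pos, one_pos]
      have hlt : Nat.card (X ⧸ M) ≤ c := by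
        have h1 := card_mul_index M
        rw [hMq, index_eq_card] at h1
        have h3 := Nat.card_pos (α := X ⧸ M)
        have := hq.two_le
        nlinarith
      obtain ⟨gb, hgb⟩ := ih hlt (Group.isSolvable_of_surjective (QuotientGroup.mk'_surjective M))
        (fun p hp => haveI := Fact.mk hp; conjP_quotient M (hC p hp)) r (cyclic_quotient M hcyc)
        (A.map f) (B.map f) hmapcard
      obtain ⟨g, rfl⟩ := QuotientGroup.mk'_surjective M gb
      set A' := A.map (MulAut.conj g).toMonoidHom with hA'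
      have hA'map : A'.map f = B.map f := by
        rw [hgb, hA', Subgroup.map_map, Subgroup.map_map]
        congr 1
      have hA'c : Nat.card A' = Nat.card A := Subgroup.card_map_of_injective (MulAut.conj g).injective
      have hle : A' ≤ M ⊔ B := by
        have h := le_comap_map f A'
        rwa [hA'map, comap_map_eq, hker, sup_comm] at h
      by_cases hd : q ∣ Nat.card A
      · refine ⟨g, (eq_of_le_of_card_ge ?_ (by rw [hA'c, hcard])).symm⟩
        exact hle.trans (sup_le (hin B (hcard ▸ hd)) le_rfl)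
      · obtain ⟨k, -, hk⟩ := Coprime.exists_conj_le_of_le_sup A' M B
          (by rw [normalizer_eq_top]; exact le_top) (by rw [normalizer_eq_top]; exact le_top)
          (by rw [hA'c, hMq]; exact (hq.coprime_iff_not_dvd.mpr hd).symm)
          (Or.inl inferInstance) hle
        refine ⟨k * g, ?_⟩
        rw [map_conj_mul, ← hA']
        refine (eq_of_le_of_card_ge ?_ (by
          rw [Subgroup.card_map_of_injective (MulAut.conj k).injective, hA'c, hcard])).symm
        rintro _ ⟨a, ha, rfl⟩
        exact hk a ha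

end Cfsg.Agent.FGS76.AllConj
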