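import Mathlib
import Cfsg.Agent.FGS76.CountPow

/-!
The numbers of elements of each order: summation and divisibility facts.
-/

set_option autoImplicit false
set_option linter.unusedSectionVars false
set_option linter.style.haveILetI false

namespace Cfsg.Agent.FGS76

variable (G : Type*) [Group G] [Finite G]

/-- number of elements of order `m` -/
noncomputable def ordCount (m : ℕ) : ℕ := Nat.card {g : G // orderOf g = m}

/-- the set of element orders -/
noncomputable def ordSet : Finset ℕ := (Set.finite_range (orderOf : G → ℕ)).toFinset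

variable {G}

theorem mem_ordSet {m : ℕ} : m ∈ ordSet G ↔ ∃ g : G, orderOf g = m := by
  simp [ordSet]

theorem ordCount_pos {m : ℕ} (h : m ∈ ordSet G) : 0 < ordCount G m := by
  obtain ⟨g, hg⟩ := mem_ordSet.1 h
  haveI : Nonempty {g : G // orderOf g = m} := ⟨⟨g, hg⟩⟩
  exact Nat.card_pos

theorem totient_dvd_ordCount (m : ℕ) : Nat.totient m ∣ ordCount G m :=
  dvd_card_of_dvd_totient (fun g : G => orderOf g = m)
    (fun x y hxy hx => by rw [← Nat.card_zpowers, ← hxy, Nat.card_zpowers, hx])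
    (fun x hx => by rw [hx])

theorem ordSet_closed {m d : ℕ} (hm : m ∈ ordSet G) (hd : d ∣ m) : d ∈ ordSet G := by
  obtain ⟨g, hg⟩ := mem_ordSet.1 hm
  subst hg
  exact mem_ordSet.2 ⟨g ^ (orderOf g / d), orderOf_pow_orderOf_div (orderOf_pos g).ne' hd⟩

theorem card_pow_eq_one_eq_sum (N : ℕ) :
    Nat.card {g : G // g ^ N = 1} = ∑ m ∈ (ordSet G).filter (· ∣ N), ordCount G m := by
  classical
  haveI := Fintype.ofFinite G
  rw [Nat.card_eq_fintype_card, Fintype.card_subtype,
    Finset.card_eq_sum_card_fiberwise (f := fun g : G => orderOf g)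
      (t := (ordSet G).filter (· ∣ N))]
  · refine Finset.sum_congr rfl fun m hm => ?_
    rw [Finset.mem_filter] at hm
    rw [ordCount, Nat.card_eq_fintype_card, Fintype.card_subtype]
    congr 1
    ext g
    simp only [Finset.mem_filter, Finset.mem_univ, true_and]
    exact ⟨fun h => h.2, fun h => ⟨orderOf_dvd_iff_pow_eq_one.1 (h ▸ hm.2), h⟩⟩
  · intro g hg
    simp only [Finset.coe_filter, Finset.mem_univ, true_and] at hg ⊢
    exact ⟨mem_ordSet.2 ⟨g, rfl⟩, orderOf_dvd_of_pow_eq_one hg⟩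

theorem card_eq_sum_ordCount : Nat.card G = ∑ m ∈ ordSet G, ordCount G m := by
  have h1 := card_pow_eq_one_eq_sum (G := G) (Nat.card G)
  have h2 : Nat.card {g : G // g ^ Nat.card G = 1} = Nat.card G :=
    Nat.card_congr (Equiv.subtypeUnivEquiv fun g => pow_card_eq_one')
  rw [h2, Finset.filter_eq_self.2 fun m hm => ?_] at h1
  · exact h1
  · obtain ⟨g, hg⟩ := mem_ordSet.1 hm
    exact hg ▸ orderOf_dvd_natCard g

theorem dvd_sum_ordCount {N : ℕ} (hN : N ∣ Nat.card G) :
    N ∣ ∑ m ∈ (ordSet G).filter (· ∣ N), ordCount G m := by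
  rw [← card_pow_eq_one_eq_sum]
  simpa [Nat.gcd_eq_left hN] using gcd_dvd_card_pow_eq_one G N

theorem one_mem_ordSet : 1 ∈ ordSet G := mem_ordSet.2 ⟨1, orderOf_one⟩

theorem ordCount_one : ordCount G 1 = 1 :=
  Nat.card_eq_one_iff_unique.2 ⟨⟨fun a b => Subtype.ext
    ((orderOf_eq_one_iff.1 a.2).trans (orderOf_eq_one_iff.1 b.2).symm)⟩, ⟨1, orderOf_one⟩⟩

theorem even_ordCount {m : ℕ} (hm : 3 ≤ m) : 2 ∣ ordCount G m :=
  (Nat.totient_even (by omega)).two_dvd.trans (totient_dvd_ordCount m)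

theorem range_image_eq : ((fun m : ℕ => Nat.card {g : G // orderOf g = m}) '' Set.range (orderOf : G → ℕ))
    = ((ordSet G).image (ordCount G) : Set ℕ) := by
  rw [Finset.coe_image, ordSet, Set.Finite.coe_toFinset]
  rfl

end Cfsg.Agent.FGS76
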