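import Mathlib
import Cfsg.Agent.FGS76.CountTypes
import Cfsg.Agent.S0144

/-!
Groups in which the numbers of elements of each order take at most three values.
-/

set_option autoImplicit false
set_option linter.unusedSectionVars false
set_option linter.style.haveILetI false

namespace Cfsg.Agent.FGS76

variable {G : Type*} [Group G] [Finite G]

/-- on the orders `≥ 3` the counts take the values `A`, `B` only -/
def TwoVal (G : Type*) [Group G] [Finite G] (A B : ℕ) : Prop :=
  ∀ m ∈ ordSet G, 3 ≤ m → ordCount G m = A ∨ ordCount G m = B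

theorem TwoVal.symm {A B : ℕ} (h : TwoVal G A B) : TwoVal G B A :=
  fun m hm h3 => (h m hm h3).symm

theorem dvd_card_of_mem_ordSet {m : ℕ} (hm : m ∈ ordSet G) : m ∣ Nat.card G := by
  obtain ⟨g, hg⟩ := mem_ordSet.1 hm
  exact hg ▸ orderOf_dvd_natCard g

theorem ordSet_filter_eq_divisors {N : ℕ} (hN : N ∈ ordSet G) :
    (ordSet G).filter (· ∣ N) = N.divisors := by
  have hN0 : N ≠ 0 := fun h0 => by
    obtain ⟨g, hg⟩ := mem_ordSet.1 hN
    exact (orderOf_pos g).ne' (hg.trans h0)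
  ext m
  simp only [Finset.mem_filter, Nat.mem_divisors]
  exact ⟨fun h => ⟨h.2, hN0⟩, fun h => ⟨ordSet_closed hN h.1, h.1⟩⟩

theorem cast_sum_divisors_eq_zero {N p : ℕ} (hN : N ∈ ordSet G) (hp : p ∣ N) :
    ∑ d ∈ N.divisors, (ordCount G d : ZMod p) = 0 := by
  rw [← Nat.cast_sum, ZMod.natCast_eq_zero_iff, ← ordSet_filter_eq_divisors hN]
  exact hp.trans (dvd_sum_ordCount (dvd_card_of_mem_ordSet hN))

theorem sum_divisors_prime_mul {M : Type*} [AddCommMonoid M] {p m : ℕ} (hp : p.Prime)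
    (hpm : ¬ p ∣ m) (f : ℕ → M) :
    ∑ d ∈ (p * m).divisors, f d = (∑ d ∈ m.divisors, f d) + ∑ d ∈ m.divisors, f (p * d) := by
  classical
  have hm0 : m ≠ 0 := fun h => hpm (h ▸ dvd_zero p)
  have h1 : (p * m).divisors = m.divisors ∪ m.divisors.image (p * ·) := by
    ext d
    simp only [Finset.mem_union, Finset.mem_image, Nat.mem_divisors]
    constructor
    · rintro ⟨hd, -⟩
      obtain ⟨a, b, ha, hb, rfl⟩ := Nat.dvd_mul.1 hd
      rcases (Nat.dvd_prime hp).1 ha with h | h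
      · exact Or.inl ⟨by rw [h, one_mul]; exact hb, hm0⟩
      · exact Or.inr ⟨b, ⟨hb, hm0⟩, by rw [h]⟩
    · rintro (⟨hd, -⟩ | ⟨b, ⟨hb, -⟩, rfl⟩)
      · exact ⟨dvd_mul_of_dvd_right hd p, mul_ne_zero hp.ne_zero hm0⟩
      · exact ⟨Nat.mul_dvd_mul_left p hb, mul_ne_zero hp.ne_zero hm0⟩
  rw [h1, Finset.sum_union, Finset.sum_image]
  · exact fun x _ y _ h => Nat.eq_of_mul_eq_mul_left hp.pos h
  · rw [Finset.disjoint_left]
    intro d hd hd'
    obtain ⟨b, -, rfl⟩ := Finset.mem_image.1 hd'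
    exact hpm ((dvd_mul_right p b).trans (Nat.mem_divisors.1 hd).1)

/-- if no element of order `m` commutes with one of order `p`, then `p ∣ ordCount G m` -/
theorem prime_dvd_ordCount {m p : ℕ} (hp : p.Prime) (hpG : p ∣ Nat.card G) (hpm : ¬ p ∣ m)
    (h : m * p ∉ ordSet G) : p ∣ ordCount G m := by
  classical
  haveI := Fact.mk hp
  haveI := Fintype.ofFinite G
  rw [ordCount, Nat.card_eq_fintype_card, Fintype.card_subtype, Finset.card_eq_sum_ones]
  refine dvd_sum_of_conj_inv _ ?_ (fun _ => 1) (fun _ _ => rfl) ?_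
  · intro g y hy
    simp only [Finset.mem_filter, Finset.mem_univ, true_and] at hy ⊢
    rwa [← MulAut.conj_apply, MulEquiv.orderOf_eq]
  · intro y hy
    simp only [Finset.mem_filter, Finset.mem_univ, true_and] at hy
    rw [mul_one]
    by_contra hpi
    have h1 : p ∣ Nat.card (Subgroup.centralizer ({y} : Set G)) :=
      (hp.dvd_mul.1 ((Subgroup.card_mul_index (Subgroup.centralizer ({y} : Set G))).symm ▸ hpG)).resolve_right hpi
    obtain ⟨z, hz⟩ := exists_prime_orderOf_dvd_card' p h1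
    apply h
    refine mem_ordSet.2 ⟨y * (z : G), ?_⟩
    have hc : Commute (z : G) y := Subgroup.mem_centralizer_singleton_iff.1 z.2
    rw [hc.symm.orderOf_mul_eq_mul_orderOf_of_coprime (by
      rw [hy, Subgroup.orderOf_coe, hz]; exact ((hp.coprime_iff_not_dvd).2 hpm).symm),
      hy, Subgroup.orderOf_coe, hz]

theorem cast_ordCount_prime {p : ℕ} (hp : p.Prime) (hpS : p ∈ ordSet G) :
    (ordCount G p : ZMod p) = -1 := by
  have h := cast_sum_divisors_eq_zero hpS dvd_rfl
  rw [hp.divisors, Finset.sum_pair hp.ne_one.symm, ordCount_one, Nat.cast_one] at h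
  exact eq_neg_of_add_eq_zero_right h

theorem cast_sum_pq {p q r : ℕ} (hp : p.Prime) (hq : q.Prime) (hpq : p ≠ q)
    (hS : p * q ∈ ordSet G) (hr : r ∣ p * q) :
    1 + (ordCount G q : ZMod r) + (ordCount G p + ordCount G (p * q)) = 0 := by
  have h := cast_sum_divisors_eq_zero hS hr
  rw [sum_divisors_prime_mul hp (fun hd => hpq ((Nat.prime_dvd_prime_iff_eq hp hq).1 hd)),
    hq.divisors, Finset.sum_pair hq.ne_one.symm, Finset.sum_pair hq.ne_one.symm, mul_one,
    ordCount_one, Nat.cast_one] at h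
  exact h

theorem two_ne_zero_zmod {p : ℕ} (hp : p.Prime) (hp2 : p ≠ 2) : (2 : ZMod p) ≠ 0 := by
  intro h
  have h1 : ((2 : ℕ) : ZMod p) = 0 := by exact_mod_cast h
  rw [ZMod.natCast_eq_zero_iff] at h1
  exact hp2 ((Nat.prime_dvd_prime_iff_eq hp Nat.prime_two).1 h1)

theorem one_ne_zero_zmod {p : ℕ} (hp : p.Prime) : (1 : ZMod p) ≠ 0 := by
  haveI := Fact.mk hp
  exact one_ne_zero

theorem three_le_odd_prime {p : ℕ} (hp : p.Prime) (hp2 : p ≠ 2) : 3 ≤ p := by
  have := hp.two_le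
  omega

section
variable {A B : ℕ}

theorem TwoVal.same_pair (h : TwoVal G A B) {p q : ℕ} (hp : p.Prime) (hq : q.Prime) (hp2 : p ≠ 2)
    (hpq : p ≠ q) (hpS : p ∈ ordSet G) (hqS : q ∈ ordSet G)
    (hcp : ordCount G p = A) (hcq : ordCount G q = A) :
    p * q ∈ ordSet G ∧ ordCount G (p * q) = B ∧ (B : ZMod p) = 1 := by
  have hmem : p * q ∈ ordSet G := by
    by_contra hno
    have h1 := prime_dvd_ordCount hq (dvd_card_of_mem_ordSet hqS)
      (fun hd => hpq ((Nat.prime_dvd_prime_iff_eq hq hp).1 hd).symm) hno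
    rw [hcp, ← hcq, ← ZMod.natCast_eq_zero_iff, cast_ordCount_prime hq hqS, neg_eq_zero] at h1
    exact one_ne_zero_zmod hq h1
  have hA : (A : ZMod p) = -1 := hcp ▸ cast_ordCount_prime hp hpS
  have h3 : (ordCount G (p * q) : ZMod p) = 1 := by
    have := cast_sum_pq hp hq hpq hmem (dvd_mul_right p q)
    rw [hcp, hcq, hA] at this
    linear_combination this
  have hge : 3 ≤ p * q := (three_le_odd_prime hp hp2).trans (Nat.le_mul_of_pos_right p hq.pos)
  have hB : ordCount G (p * q) = B := (h _ hmem hge).resolve_left fun he => by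
    rw [he, hA] at h3
    exact two_ne_zero_zmod hp hp2 (by linear_combination (-1 : ZMod p) * h3)
  exact ⟨hmem, hB, hB ▸ h3⟩

theorem TwoVal.ne_three (h : TwoVal G A B) {p q s : ℕ} (hp : p.Prime) (hq : q.Prime) (hs : s.Prime)
    (hp2 : p ≠ 2) (hq2 : q ≠ 2) (hs2 : s ≠ 2) (hpq : p ≠ q) (hpS : p ∈ ordSet G)
    (hqS : q ∈ ordSet G) (hsS : s ∈ ordSet G) (hcp : ordCount G p = A) (hcq : ordCount G q = A) :
    ordCount G s = A := by
  by_contra hne
  have hcs : ordCount G s = B := (h s hsS (three_le_odd_prime hs hs2)).resolve_left hne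
  have hps : p ≠ s := fun e => hne (e ▸ hcp)
  have hqs : q ≠ s := fun e => hne (e ▸ hcq)
  obtain ⟨hpqS, hcpq, hBp⟩ := h.same_pair hp hq hp2 hpq hpS hqS hcp hcq
  have hBq : (B : ZMod q) = 1 := (h.same_pair hq hp hq2 hpq.symm hqS hpS hcq hcp).2.2
  have hBs : (B : ZMod s) = -1 := hcs ▸ cast_ordCount_prime hs hsS
  have key : ∀ u : ℕ, u.Prime → u ≠ 2 → u ≠ s → u ∈ ordSet G → ordCount G u = A →
      (B : ZMod u) = 1 → u * s ∈ ordSet G ∧ ordCount G (u * s) = A ∧ (A : ZMod s) + A = 0 := by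
    intro u hu hu2 hus huS hcu hBu
    have hmem : u * s ∈ ordSet G := by
      by_contra hno
      have h1 := prime_dvd_ordCount hu (dvd_card_of_mem_ordSet huS)
        (fun hd => hus ((Nat.prime_dvd_prime_iff_eq hu hs).1 hd)) (by rwa [mul_comm] at hno)
      rw [hcs, ← ZMod.natCast_eq_zero_iff, hBu] at h1
      exact one_ne_zero_zmod hu h1
    have h1 : (ordCount G (u * s) : ZMod u) = -1 := by
      have := cast_sum_pq hu hs hus hmem (dvd_mul_right u s)
      rw [hcu, hcs, hBu, ← hcu, cast_ordCount_prime hu huS] at this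
      linear_combination this
    have hge : 3 ≤ u * s := (three_le_odd_prime hu hu2).trans (Nat.le_mul_of_pos_right u hs.pos)
    have hA : ordCount G (u * s) = A := (h _ hmem hge).resolve_right fun he => by
      rw [he, hBu] at h1
      exact two_ne_zero_zmod hu hu2 (by linear_combination h1)
    refine ⟨hmem, hA, ?_⟩
    have := cast_sum_pq hu hs hus hmem (dvd_mul_left s u)
    rw [hcu, hcs, hA, hBs] at this
    linear_combination this
  obtain ⟨-, hcps, hAs⟩ := key p hp hp2 hps hpS hcp hBp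
  obtain ⟨-, hcqs, -⟩ := key q hq hq2 hqs hqS hcq hBq
  have hspq : ¬ s ∣ p * q := fun hd => by
    rcases hs.dvd_mul.1 hd with h1 | h1
    · exact hps ((Nat.prime_dvd_prime_iff_eq hs hp).1 h1).symm
    · exact hqs ((Nat.prime_dvd_prime_iff_eq hs hq).1 h1).symm
  have hmem3 : s * (p * q) ∈ ordSet G := by
    by_contra hno
    have h1 := prime_dvd_ordCount hs (dvd_card_of_mem_ordSet hsS) hspq (by rwa [mul_comm] at hno)
    rw [hcpq, ← ZMod.natCast_eq_zero_iff, hBs, neg_eq_zero] at h1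
    exact one_ne_zero_zmod hs h1
  have hsum : ∀ r : ℕ, r ∣ s * (p * q) →
      1 + (A : ZMod r) + (A + B) + (B + A + (A + ordCount G (s * (p * q)))) = 0 := by
    intro r hr
    have h1 := cast_sum_divisors_eq_zero hmem3 hr
    rw [sum_divisors_prime_mul hs hspq,
      sum_divisors_prime_mul hp (fun hd => hpq ((Nat.prime_dvd_prime_iff_eq hp hq).1 hd)),
      sum_divisors_prime_mul hp (fun hd => hpq ((Nat.prime_dvd_prime_iff_eq hp hq).1 hd)),
      hq.divisors] at h1
    simp only [Finset.sum_pair hq.ne_one.symm, mul_one, ordCount_one, Nat.cast_one, hcp, hcq, hcpq,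
      hcs, mul_comm s p, mul_comm s q, hcps, hcqs] at h1
    exact h1
  have hAp : (A : ZMod p) = -1 := hcp ▸ cast_ordCount_prime hp hpS
  have h3p : (ordCount G (s * (p * q)) : ZMod p) = 1 := by
    have := hsum p (dvd_mul_of_dvd_right (dvd_mul_right p q) s)
    rw [hAp, hBp] at this
    linear_combination this
  have hge : 3 ≤ s * (p * q) := (three_le_odd_prime hs hs2).trans
    (Nat.le_mul_of_pos_right s (Nat.mul_pos hp.pos hq.pos))
  have hc3 : ordCount G (s * (p * q)) = B := (h _ hmem3 hge).resolve_left fun he => by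
    rw [he, hAp] at h3p
    exact two_ne_zero_zmod hp hp2 (by linear_combination (-1 : ZMod p) * h3p)
  have := hsum s (dvd_mul_right s _)
  rw [hc3, hBs] at this
  exact two_ne_zero_zmod hs hs2 (by linear_combination (-1 : ZMod s) * this + 2 * hAs)

/-- with at least three odd primes all their counts agree -/
theorem TwoVal.all_same (h : TwoVal G A B) {p q s : ℕ} (hp : p.Prime) (hq : q.Prime) (hs : s.Prime)
    (hp2 : p ≠ 2) (hq2 : q ≠ 2) (hs2 : s ≠ 2) (hpq : p ≠ q) (hps : p ≠ s) (hqs : q ≠ s)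
    (hpS : p ∈ ordSet G) (hqS : q ∈ ordSet G) (hsS : s ∈ ordSet G) :
    ∃ A' B' : ℕ, TwoVal G A' B' ∧
      ∀ u : ℕ, u.Prime → u ≠ 2 → u ∈ ordSet G → ordCount G u = A' := by
  have hex : ∃ A' B' : ℕ, TwoVal G A' B' ∧ ∃ u v : ℕ, u.Prime ∧ v.Prime ∧ u ≠ 2 ∧ v ≠ 2 ∧ u ≠ v ∧
      u ∈ ordSet G ∧ v ∈ ordSet G ∧ ordCount G u = A' ∧ ordCount G v = A' := by
    rcases h p hpS (three_le_odd_prime hp hp2) with a | a <;>
      rcases h q hqS (three_le_odd_prime hq hq2) with b | b <;>
      rcases h s hsS (three_le_odd_prime hs hs2) with c | c <;>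
      first
      | exact ⟨A, B, h, p, q, hp, hq, hp2, hq2, hpq, hpS, hqS, a, b⟩
      | exact ⟨A, B, h, p, s, hp, hs, hp2, hs2, hps, hpS, hsS, a, c⟩
      | exact ⟨A, B, h, q, s, hq, hs, hq2, hs2, hqs, hqS, hsS, b, c⟩
      | exact ⟨B, A, h.symm, p, q, hp, hq, hp2, hq2, hpq, hpS, hqS, a, b⟩
      | exact ⟨B, A, h.symm, p, s, hp, hs, hp2, hs2, hps, hpS, hsS, a, c⟩
      | exact ⟨B, A, h.symm, q, s, hq, hs, hq2, hs2, hqs, hqS, hsS, b, c⟩
  obtain ⟨A', B', h', u, v, hu, hv, hu2, hv2, huv, huS, hvS, hcu, hcv⟩ := hex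
  exact ⟨A', B', h', fun w hw hw2 hwS => h'.ne_three hu hv hw hu2 hv2 hw2 huv huS hvS hwS hcu hcv⟩

theorem TwoVal.no_sq (h : TwoVal G A B) {p q : ℕ} (hp : p.Prime) (hq : q.Prime) (hp2 : p ≠ 2)
    (hpq : p ≠ q) (hpS : p ∈ ordSet G) (hqS : q ∈ ordSet G)
    (hcp : ordCount G p = A) (hcq : ordCount G q = A) : p ^ 2 ∉ ordSet G := by
  intro hS
  obtain ⟨-, -, hBp⟩ := h.same_pair hp hq hp2 hpq hpS hqS hcp hcq
  have hAp : (A : ZMod p) = -1 := hcp ▸ cast_ordCount_prime hp hpS
  have h1 := cast_sum_divisors_eq_zero hS (dvd_pow_self p two_ne_zero)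
  rw [Nat.sum_divisors_prime_pow hp, Finset.sum_range_succ, Finset.sum_range_succ,
    Finset.sum_range_one, pow_zero, pow_one, ordCount_one, hcp, Nat.cast_one, hAp] at h1
  have h3 : 3 ≤ p ^ 2 := (three_le_odd_prime hp hp2).trans (Nat.le_self_pow two_ne_zero p)
  rcases h _ hS h3 with e | e <;> rw [e] at h1
  · rw [hAp] at h1
    exact one_ne_zero_zmod hp (by linear_combination (-1 : ZMod p) * h1)
  · rw [hBp] at h1
    exact one_ne_zero_zmod hp (by linear_combination h1)

/-- if all odd primes have the same count, the odd part of the order divides it plus one -/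
theorem TwoVal.odd_dvd_succ (h : TwoVal G A B) (hall : ∀ u : ℕ, u.Prime → u ≠ 2 → u ∈ ordSet G →
    ordCount G u = A) {p q : ℕ} (hp : p.Prime) (hq : q.Prime) (hp2 : p ≠ 2) (hq2 : q ≠ 2)
    (hpq : p ≠ q) (hpS : p ∈ ordSet G) (hqS : q ∈ ordSet G) {O : ℕ} (hO : O ∣ Nat.card G)
    (hodd : ¬ 2 ∣ O) : O ∣ A + 1 := by
  have hO0 : O ≠ 0 := fun h0 => hodd (h0 ▸ dvd_zero 2)
  refine (Nat.factorization_le_iff_dvd hO0 (Nat.succ_ne_zero A)).1 fun u => ?_
  by_cases hu : u ∈ O.primeFactors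
  swap
  · rw [Finsupp.notMem_support_iff.1 (by rwa [Nat.support_factorization])]
    exact Nat.zero_le _
  have hup := Nat.prime_of_mem_primeFactors hu
  haveI := Fact.mk hup
  have hu2 : u ≠ 2 := fun e => hodd (e ▸ Nat.dvd_of_mem_primeFactors hu)
  have huS : u ∈ ordSet G := by
    obtain ⟨g, hg⟩ := exists_prime_orderOf_dvd_card' (G := G) u
      ((Nat.dvd_of_mem_primeFactors hu).trans hO)
    exact mem_ordSet.2 ⟨g, hg⟩
  have hnosq : u ^ 2 ∉ ordSet G := by
    by_cases hup' : u = p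
    · subst hup'
      exact h.no_sq hp hq hp2 hpq hpS hqS (hall u hp hp2 hpS) (hall q hq hq2 hqS)
    · exact h.no_sq hup hp hu2 hup' huS hpS (hall u hup hu2 huS) (hall p hp hp2 hpS)
  have hdv : u ^ O.factorization u ∣ Nat.card G := (Nat.ordProj_dvd O u).trans hO
  have h1 := dvd_sum_ordCount hdv
  have hv1 : 1 ≤ O.factorization u :=
    (Nat.Prime.dvd_iff_one_le_factorization hup hO0).1 (Nat.dvd_of_mem_primeFactors hu)
  have hset : (ordSet G).filter (· ∣ u ^ O.factorization u) = {1, u} := by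
    ext m
    simp only [Finset.mem_filter, Finset.mem_insert, Finset.mem_singleton]
    refine ⟨fun hm => ?_, ?_⟩
    · obtain ⟨i, -, rfl⟩ := (Nat.dvd_prime_pow hup).1 hm.2
      have hi : i ≤ 1 := by
        by_contra hi
        exact hnosq (ordSet_closed hm.1 (pow_dvd_pow u (by omega)))
      interval_cases i <;> simp
    · rintro (rfl | rfl)
      · exact ⟨one_mem_ordSet, one_dvd _⟩
      · exact ⟨huS, dvd_pow_self _ (by omega)⟩
  rw [hset, Finset.sum_pair hup.ne_one.symm, ordCount_one, hall u hup hu2 huS, add_comm] at h1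
  exact (hup.pow_dvd_iff_le_factorization (Nat.succ_ne_zero A)).1 h1

/-- the number of prime divisors of an odd group with two values -/
theorem TwoVal.odd_not_all_same (h : TwoVal G A B) (hodd : Odd (Nat.card G))
    (hall : ∀ u : ℕ, u.Prime → u ≠ 2 → u ∈ ordSet G → ordCount G u = A) {p q : ℕ} (hp : p.Prime)
    (hq : q.Prime) (hpq : p ≠ q) (hpS : p ∈ ordSet G) (hqS : q ∈ ordSet G) : False := by
  have h2 : ¬ 2 ∣ Nat.card G := hodd.not_two_dvd_nat
  have hp2 : p ≠ 2 := fun e => h2 (e ▸ dvd_card_of_mem_ordSet hpS)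
  have hq2 : q ≠ 2 := fun e => h2 (e ▸ dvd_card_of_mem_ordSet hqS)
  have h1 := h.odd_dvd_succ hall hp hq hp2 hq2 hpq hpS hqS dvd_rfl h2
  have hA0 : 0 < A := hall p hp hp2 hpS ▸ ordCount_pos hpS
  have hsub : ({1, p, q} : Finset ℕ) ⊆ ordSet G := by
    intro m hm
    simp only [Finset.mem_insert, Finset.mem_singleton] at hm
    rcases hm with rfl | rfl | rfl
    · exact one_mem_ordSet
    · exact hpS
    · exact hqS
  have h4 := Finset.sum_le_sum_of_subset (f := ordCount G) hsub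
  rw [← card_eq_sum_ordCount, Finset.sum_insert (by simp [hp.ne_one.symm, hq.ne_one.symm]),
    Finset.sum_pair hpq, ordCount_one, hall p hp hp2 hpS, hall q hq hq2 hqS] at h4
  have h5 := Nat.le_of_dvd (Nat.succ_pos A) h1
  omega

theorem TwoVal.primeFactors_le_two (h : TwoVal G A B) (hodd : Odd (Nat.card G)) :
    (Nat.card G).primeFactors.card ≤ 2 := by
  by_contra hcon
  obtain ⟨p, q, s, hp, hq, hs, hpq, hps, hqs⟩ := Finset.two_lt_card_iff.1 (not_le.1 hcon)
  have h2 : ¬ 2 ∣ Nat.card G := hodd.not_two_dvd_nat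
  have hmem : ∀ u ∈ (Nat.card G).primeFactors, u.Prime ∧ u ≠ 2 ∧ u ∈ ordSet G := fun u hu => by
    have hup := Nat.prime_of_mem_primeFactors hu
    haveI := Fact.mk hup
    refine ⟨hup, fun e => h2 (e ▸ Nat.dvd_of_mem_primeFactors hu), ?_⟩
    obtain ⟨g, hg⟩ := exists_prime_orderOf_dvd_card' (G := G) u (Nat.dvd_of_mem_primeFactors hu)
    exact mem_ordSet.2 ⟨g, hg⟩
  obtain ⟨hp', hp2, hpS⟩ := hmem p hp
  obtain ⟨hq', hq2, hqS⟩ := hmem q hq
  obtain ⟨hs', hs2, hsS⟩ := hmem s hs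
  obtain ⟨A', B', h', hall⟩ := h.all_same hp' hq' hs' hp2 hq2 hs2 hpq hps hqs hpS hqS hsS
  exact h'.odd_not_all_same hodd hall hp' hq' hpq hpS hqS

end

/-! ### a unique involution -/

/-- multiplying by the central involution -/
theorem ordCount_two_mul (h1 : ordCount G 2 = 1) {t : G} (ht : orderOf t = 2) {m : ℕ}
    (hm : ¬ 2 ∣ m) : ordCount G (2 * m) = ordCount G m := by
  haveI := (Nat.card_eq_one_iff_unique.1 h1).1
  have huni : ∀ u : G, orderOf u = 2 → u = t := fun u hu =>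
    congrArg Subtype.val (Subsingleton.elim (⟨u, hu⟩ : {g : G // orderOf g = 2}) ⟨t, ht⟩)
  have hcen : ∀ g : G, Commute t g := by
    intro g
    have h2 : g * t * g⁻¹ = t := huni _ (by rw [← MulAut.conj_apply, MulEquiv.orderOf_eq, ht])
    exact (mul_inv_eq_iff_eq_mul.1 h2).symm
  have htt : t * t = 1 := by rw [← sq, ← ht, pow_orderOf_eq_one]
  have f1 : ∀ g : G, orderOf g = m → orderOf (t * g) = 2 * m := fun g hg => by
    rw [(hcen _).orderOf_mul_eq_mul_orderOf_of_coprime (by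
      rw [ht, hg]; exact (Nat.prime_two.coprime_iff_not_dvd).2 hm), ht, hg]
  have f2 : ∀ x : G, orderOf x = 2 * m → orderOf (t * x) = m := by
    intro x hx
    have hm0 : m ≠ 0 := fun h0 => hm (h0 ▸ dvd_zero 2)
    have hxm : orderOf (x ^ m) = 2 := by
      rw [orderOf_pow, hx, Nat.gcd_mul_left_left, Nat.mul_div_cancel _ (Nat.pos_of_ne_zero hm0)]
    have htm : t ^ m = t := by
      obtain ⟨k, rfl⟩ := Nat.odd_iff.2 (Nat.two_dvd_ne_zero.1 hm)
      rw [pow_succ, pow_mul, sq, htt, one_pow, one_mul]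
    have hpow : (t * x) ^ m = 1 := by rw [(hcen x).mul_pow, htm, huni _ hxm, htt]
    have hd : orderOf (t * x) ∣ m := orderOf_dvd_of_pow_eq_one hpow
    have hx' : orderOf (t * (t * x)) = 2 * orderOf (t * x) := by
      rw [(hcen _).orderOf_mul_eq_mul_orderOf_of_coprime (by
        rw [ht]; exact (Nat.prime_two.coprime_iff_not_dvd).2 fun h2 => hm (h2.trans hd)), ht]
    rw [← mul_assoc, htt, one_mul, hx] at hx'
    exact (Nat.eq_of_mul_eq_mul_left two_pos hx').symm
  let e : {g : G // orderOf g = m} ≃ {g : G // orderOf g = 2 * m} :=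
    { toFun := fun g => ⟨t * g.1, f1 g.1 g.2⟩
      invFun := fun g => ⟨t * g.1, f2 g.1 g.2⟩
      left_inv := fun g => Subtype.ext (show t * (t * g.1) = g.1 by rw [← mul_assoc, htt, one_mul])
      right_inv := fun g => Subtype.ext (show t * (t * g.1) = g.1 by rw [← mul_assoc, htt, one_mul]) }
  exact (Nat.card_congr e).symm

theorem four_dvd_two_add (h1 : ordCount G 2 = 1) (h4 : 4 ∈ ordSet G) : 4 ∣ 2 + ordCount G 4 := by
  have h := dvd_sum_ordCount (dvd_card_of_mem_ordSet h4)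
  rw [ordSet_filter_eq_divisors h4, show (4 : ℕ).divisors = {1, 2, 4} by decide,
    Finset.sum_insert (by simp), Finset.sum_pair (by norm_num), ordCount_one, h1] at h
  rwa [← add_assoc] at h

theorem four_dvd_ordCount {m : ℕ} (h : 4 ∣ Nat.totient m) : 4 ∣ ordCount G m :=
  h.trans (totient_dvd_ordCount m)

theorem four_dvd_totient_mul {a b : ℕ} (ha : 3 ≤ a) (hb : 3 ≤ b) (hab : a.Coprime b) :
    4 ∣ Nat.totient (a * b) := by
  rw [Nat.totient_mul hab]
  exact Nat.mul_dvd_mul (Nat.totient_even (by omega)).two_dvd (Nat.totient_even (by omega)).two_dvd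

theorem sum_divisors_four_mul {p : ℕ} (hp : p.Prime) (hp2 : p ≠ 2) {M : Type*} [AddCommMonoid M]
    (f : ℕ → M) : ∑ d ∈ (p * 4).divisors, f d =
      (f 1 + (f 2 + f 4)) + (f p + (f (p * 2) + f (p * 4))) := by
  rw [sum_divisors_prime_mul hp, show (4 : ℕ).divisors = {1, 2, 4} by decide]
  · simp [mul_one]
  · intro hd
    exact hp2 ((Nat.prime_dvd_prime_iff_eq hp Nat.prime_two).1
      (hp.dvd_of_dvd_pow (show p ∣ 2 ^ 2 by norm_num; exact hd)))

section
variable {A B : ℕ}

theorem TwoVal.four_two_primes (h : TwoVal G A B) (h1 : ordCount G 2 = 1) (h4 : 4 ∈ ordSet G)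
    {p q : ℕ} (hp : p.Prime) (hq : q.Prime) (hp2 : p ≠ 2) (hq2 : q ≠ 2) (hpq : p ≠ q)
    (hpS : p ∈ ordSet G) (hqS : q ∈ ordSet G) : False := by
  obtain ⟨t, ht⟩ := mem_ordSet.1 (ordSet_closed h4 (by norm_num : 2 ∣ 4))
  -- name the value of four `A`
  wlog hc4 : ordCount G 4 = A generalizing A B
  · exact this h.symm ((h 4 h4 (by norm_num)).resolve_left hc4)
  have hA4 : ¬ 4 ∣ A := fun hd => by
    have := four_dvd_two_add h1 h4
    rw [hc4] at this
    omega
  have hB : ∀ m ∈ ordSet G, 3 ≤ m → 4 ∣ Nat.totient m → ordCount G m = B := fun m hm h3 hd =>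
    (h m hm h3).resolve_left fun e => hA4 (e ▸ four_dvd_ordCount hd)
  have hodd : ∀ {u : ℕ}, u.Prime → u ≠ 2 → ¬ 2 ∣ u := fun hu hu2 hd =>
    hu2 ((Nat.prime_dvd_prime_iff_eq Nat.prime_two hu).1 hd).symm
  have hc4u : ∀ {u : ℕ}, u.Prime → u ≠ 2 → Nat.Coprime u 4 := fun hu hu2 =>
    (hu.coprime_iff_not_dvd).2 fun hd => hu2 ((Nat.prime_dvd_prime_iff_eq hu Nat.prime_two).1
      (hu.dvd_of_dvd_pow (show _ ∣ 2 ^ 2 by norm_num; exact hd)))
  have hAp : ∀ u, u ∈ ordSet G → u.Prime → u ≠ 2 → ordCount G u = A →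
      u * 4 ∈ ordSet G ∧ ordCount G (u * 4) = B ∧ (B : ZMod u) = 1 := by
    intro u huS hu hu2 hcu
    have hA : (A : ZMod u) = -1 := hcu ▸ cast_ordCount_prime hu huS
    have hmem : u * 4 ∈ ordSet G := by
      by_contra hno
      have h' := prime_dvd_ordCount hu (dvd_card_of_mem_ordSet huS)
        ((hu.coprime_iff_not_dvd).1 (hc4u hu hu2)) (by rwa [mul_comm] at hno)
      rw [hc4, ← ZMod.natCast_eq_zero_iff, hA, neg_eq_zero] at h'
      exact one_ne_zero_zmod hu h'
    have hu3 := three_le_odd_prime hu hu2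
    have hcB := hB _ hmem (by omega) (four_dvd_totient_mul hu3 (by norm_num) (hc4u hu hu2))
    refine ⟨hmem, hcB, ?_⟩
    have hs := cast_sum_divisors_eq_zero hmem (dvd_mul_right u 4)
    rw [sum_divisors_four_mul hu hu2, ordCount_one, h1, hc4, hcu, mul_comm u 2,
      ordCount_two_mul h1 ht (hodd hu hu2), hcu, hcB, Nat.cast_one, hA] at hs
    linear_combination hs
  have hp3 := three_le_odd_prime hp hp2
  have hq3 := three_le_odd_prime hq hq2
  have hpqc : p.Coprime q := (Nat.coprime_primes hp hq).2 hpq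
  have htot : 4 ∣ Nat.totient (p * q) := four_dvd_totient_mul hp3 hq3 hpqc
  have hge : 3 ≤ p * q := hp3.trans (Nat.le_mul_of_pos_right p hq.pos)
  -- mixed values are impossible
  have hmixed : ∀ u v : ℕ, u.Prime → v.Prime → u ≠ 2 → v ≠ 2 → u ≠ v → u ∈ ordSet G →
      v ∈ ordSet G → ordCount G u = A → ordCount G v ≠ A → False := by
    intro u v hu hv hu2 hv2 huv huS hvS hcu hcv
    have hcvB : ordCount G v = B := (h v hvS (three_le_odd_prime hv hv2)).resolve_left hcv
    obtain ⟨-, -, hBu⟩ := hAp u huS hu hu2 hcu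
    have hmem : u * v ∈ ordSet G := by
      by_contra hno
      have h' := prime_dvd_ordCount hu (dvd_card_of_mem_ordSet huS)
        (fun hd => huv ((Nat.prime_dvd_prime_iff_eq hu hv).1 hd)) (by rwa [mul_comm] at hno)
      rw [hcvB, ← ZMod.natCast_eq_zero_iff, hBu] at h'
      exact one_ne_zero_zmod hu h'
    have hcm := hB _ hmem
      ((three_le_odd_prime hu hu2).trans (Nat.le_mul_of_pos_right u hv.pos))
      (four_dvd_totient_mul (three_le_odd_prime hu hu2) (three_le_odd_prime hv hv2)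
        ((Nat.coprime_primes hu hv).2 huv))
    have hs := cast_sum_pq hu hv huv hmem (dvd_mul_right u v)
    rw [hcu, hcvB, hcm, hBu, ← hcu, cast_ordCount_prime hu huS] at hs
    exact two_ne_zero_zmod hu hu2 (by linear_combination hs)
  by_cases hcp : ordCount G p = A
  · by_cases hcq : ordCount G q = A
    · obtain ⟨hpqS, hcpq, hBp⟩ := h.same_pair hp hq hp2 hpq hpS hqS hcp hcq
      obtain ⟨-, -, hBq⟩ := h.same_pair hq hp hq2 hpq.symm hqS hpS hcq hcp
      obtain ⟨hp4, hcp4, -⟩ := hAp p hpS hp hp2 hcp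
      obtain ⟨-, hcq4, -⟩ := hAp q hqS hq hq2 hcq
      have hqp4 : ¬ q ∣ p * 4 := fun hd => by
        rcases hq.dvd_mul.1 hd with h' | h'
        · exact hpq ((Nat.prime_dvd_prime_iff_eq hq hp).1 h').symm
        · exact (hq.coprime_iff_not_dvd).1 (hc4u hq hq2) h'
      have hmem : q * (p * 4) ∈ ordSet G := by
        by_contra hno
        have h' := prime_dvd_ordCount hq (dvd_card_of_mem_ordSet hqS) hqp4
          (by rwa [mul_comm] at hno)
        rw [hcp4, ← ZMod.natCast_eq_zero_iff, hBq] at h'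
        exact one_ne_zero_zmod hq h'
      have hcm : ordCount G (q * (p * 4)) = B := by
        refine hB _ hmem ?_ ?_
        · exact hq3.trans (Nat.le_mul_of_pos_right q (by omega))
        · exact four_dvd_totient_mul hq3 (by omega)
            ((hq.coprime_iff_not_dvd).2 hqp4)
      have hs := cast_sum_divisors_eq_zero hmem (dvd_mul_of_dvd_right (dvd_mul_right p 4) q)
      rw [sum_divisors_prime_mul hq hqp4, sum_divisors_four_mul hp hp2, sum_divisors_four_mul hp hp2]
        at hs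
      have e2p : ordCount G (p * 2) = A := by
        rw [mul_comm, ordCount_two_mul h1 ht (hodd hp hp2), hcp]
      have e2q : ordCount G (q * 2) = A := by
        rw [mul_comm, ordCount_two_mul h1 ht (hodd hq hq2), hcq]
      have e2pq : ordCount G (q * (p * 2)) = B := by
        rw [show q * (p * 2) = 2 * (p * q) by ring, ordCount_two_mul h1 ht
          (fun hd => (Nat.prime_two.dvd_mul.1 hd).elim (hodd hp hp2) (hodd hq hq2)), hcpq]
      rw [mul_one, mul_comm q p, hcpq, ordCount_one, h1, hc4, hcp, e2p, hcp4, hcq, e2q, hcq4, e2pq,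
        hcm, Nat.cast_one, hBp] at hs
      have hA : (A : ZMod p) = -1 := hcp ▸ cast_ordCount_prime hp hpS
      rw [hA] at hs
      exact two_ne_zero_zmod hp hp2 (by linear_combination hs)
    · exact hmixed p q hp hq hp2 hq2 hpq hpS hqS hcp hcq
  · by_cases hcq : ordCount G q = A
    · exact hmixed q p hq hp hq2 hp2 hpq.symm hqS hpS hcq hcp
    · have hcpB := (h p hpS hp3).resolve_left hcp
      have hcqB := (h q hqS hq3).resolve_left hcq
      obtain ⟨hpqS, hcpq, -⟩ := h.symm.same_pair hp hq hp2 hpq hpS hqS hcpB hcqB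
      exact hA4 (hcpq ▸ four_dvd_ordCount htot)

end

end Cfsg.Agent.FGS76
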