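import Mathlib
import Cfsg.Agent.Lib.Frobenius.Thompson

/-!
Fixed-point-free automorphisms of order 3: the group has class at most 2 if 3 does not divide its
order.
-/

set_option autoImplicit false
set_option linter.unusedSectionVars false
set_option linter.unusedSimpArgs false
set_option linter.style.haveILetI false

open scoped commutatorElement

namespace Cfsg.Agent.FGS76

variable {T : Type*} [Group T] [Finite T]

theorem fpf3_relation (φ : T ≃* T) (hφ : ∀ g, φ g = g → g = 1) (h3 : ∀ g, φ (φ (φ g)) = g)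
    (x : T) : x * φ x * φ (φ x) = 1 := by
  have hinj : Function.Injective fun y : T => y⁻¹ * φ y := by
    intro a b h
    have h1 : φ (a * b⁻¹) = a * b⁻¹ := by
      have h2 : φ a = a * (b⁻¹ * φ b) := by rw [← inv_mul_eq_iff_eq_mul]; exact h
      rw [map_mul, map_inv, h2]
      group
    exact mul_inv_eq_one.1 (hφ _ h1)
  obtain ⟨y, rfl⟩ := (Finite.injective_iff_surjective.1 hinj) x
  simp only [map_mul, map_inv, h3]
  group

theorem fpf3_commute (φ : T ≃* T) (hφ : ∀ g, φ g = g → g = 1) (h3 : ∀ g, φ (φ (φ g)) = g)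
    (x : T) : Commute x (φ x) := by
  have h1 := fpf3_relation φ hφ h3 x
  have h2 : x * φ (φ x) * φ (φ (φ (φ x))) = 1 := fpf3_relation (φ.trans φ) (fun g hg => by
    simp only [MulEquiv.trans_apply] at hg
    refine hφ g ?_
    conv_lhs => rw [← hg]
    exact h3 g) (fun g => by simp only [MulEquiv.trans_apply, h3]) x
  rw [h3] at h2
  -- `φ² x` from the first relation, inserted in the second
  have h4 : φ (φ x) = (x * φ x)⁻¹ := eq_inv_of_mul_eq_one_right h1
  rw [h4] at h2
  show x * φ x = φ x * x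
  have h5 : x * (x * φ x)⁻¹ * φ x = 1 := h2
  calc x * φ x = x * φ x * 1 := (mul_one _).symm
    _ = x * φ x * (x⁻¹ * (x * (x * φ x)⁻¹ * φ x) * x) := by rw [h5]; group
    _ = φ x * x := by group

theorem fpf3_commute_conj (φ : T ≃* T) (hφ : ∀ g, φ g = g → g = 1) (h3 : ∀ g, φ (φ (φ g)) = g)
    (x g : T) : Commute x (g * φ x * g⁻¹) := by
  have hsurj : Function.Surjective fun y : T => y * (φ y)⁻¹ := by
    refine Finite.injective_iff_surjective.1 fun a b h => ?_
    have h1 : φ (b⁻¹ * a) = b⁻¹ * a := by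
      have h2 : φ a = φ b * b⁻¹ * a := by
        rw [show φ a = (a * (φ a)⁻¹)⁻¹ * a by group,
          show a * (φ a)⁻¹ = b * (φ b)⁻¹ from h]
        group
      rw [map_mul, map_inv, h2]
      group
    exact (inv_mul_eq_one.1 (hφ _ h1)).symm
  obtain ⟨u, hu⟩ := hsurj g
  -- `conj g ∘ φ` is conjugate to `φ`
  have hu' : ∀ z, g * φ z * g⁻¹ = u * φ (u⁻¹ * z * u) * u⁻¹ := fun z => by
    simp only [← hu, map_mul, map_inv]
    group
  rw [hu' x]
  have := fpf3_commute φ hφ h3 (u⁻¹ * x * u)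
  have h4 := this.map (MulAut.conj u).toMonoidHom
  simpa [mul_assoc] using h4

/-- every element commutes with its conjugates -/
theorem fpf3_engel (φ : T ≃* T) (hφ : ∀ g, φ g = g → g = 1) (h3 : ∀ g, φ (φ (φ g)) = g)
    (x g : T) : Commute x (g * x * g⁻¹) := by
  have h1 := fpf3_commute_conj φ hφ h3 x g
  have h2 : Commute x (g * φ (φ x) * g⁻¹) := by
    have := fpf3_commute_conj (φ.trans φ) (fun z hz => by
      simp only [MulEquiv.trans_apply] at hz
      refine hφ z ?_
      conv_lhs => rw [← hz]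
      exact h3 z) (fun z => by simp only [MulEquiv.trans_apply, h3]) x g
    simpa using this
  have h4 := fpf3_relation φ hφ h3 x
  have h5 : g * x * g⁻¹ = ((g * φ x * g⁻¹) * (g * φ (φ x) * g⁻¹))⁻¹ := by
    have : x = (φ x * φ (φ x))⁻¹ := by
      rw [mul_assoc] at h4
      exact eq_inv_of_mul_eq_one_left h4
    conv_lhs => rw [this]
    group
  rw [h5]
  exact (h1.mul_right h2).inv_right

section RingIdentities
variable {R : Type*} [Ring R]

theorem ring_mul_sub_one (x y : R) : x * y - 1 = (x - 1) + (y - 1) + (x - 1) * (y - 1) := by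
  noncomm_ring

theorem ring_inv_unique (d r : R) (hd : d * d = 0) (hr : r * (1 + d) = 1) : r = 1 - d := by
  calc r = r * (1 + d) * (1 - d) + r * (d * d) := by noncomm_ring
    _ = 1 - d := by rw [hr, hd, mul_zero, add_zero, one_mul]

/-- two square-zero elements whose composite is square-zero anticommute -/
theorem ring_anticommute (a b : R) (ha : a * a = 0) (hb : b * b = 0)
    (E : (a + b + a * b) * (a + b + a * b) = 0) :
    a * b * a = 0 ∧ b * a = -(a * b) ∧
      (1 + a) * (1 + b) * (1 - a) * (1 - b) = 1 + (a * b + a * b) := by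
  have ha' : ∀ x : R, a * (a * x) = 0 := fun x => by rw [← mul_assoc, ha, zero_mul]
  have hb' : ∀ x : R, b * (b * x) = 0 := fun x => by rw [← mul_assoc, hb, zero_mul]
  have E' : a * b + b * a + a * (b * a) + b * (a * b) + a * (b * (a * b)) = 0 := by
    rw [← E]
    simp only [add_mul, mul_add, mul_assoc, ha, hb, ha', hb', mul_zero, add_zero, zero_add]
    abel
  have e1 : a * (b * a) + a * (b * (a * b)) = 0 := by
    have h := congrArg (fun x => a * x) E'
    simpa [mul_add, mul_assoc, ha, hb, ha', hb'] using h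
  have haba : a * (b * a) = 0 := by
    have h := congrArg (fun x => x * (1 - b)) e1
    simpa [add_mul, mul_sub, mul_assoc, ha, hb, ha', hb'] using h
  have habab : a * (b * (a * b)) = 0 := by rwa [haba, zero_add] at e1
  have hbab : b * (a * b) = 0 := by
    have h := congrArg (fun x => x * b) E'
    simpa [add_mul, mul_assoc, ha, hb, ha', hb', habab] using h
  have hanti : b * a = -(a * b) := by
    rw [haba, hbab, mul_zero, add_zero, add_zero, add_zero] at E'
    exact eq_neg_of_add_eq_zero_right E'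
  refine ⟨by rw [mul_assoc]; exact haba, hanti, ?_⟩
  simp only [add_mul, mul_add, sub_eq_add_neg, mul_neg, neg_mul, mul_assoc, ha, hb, ha', hb', haba,
    hbab, habab, hanti, mul_zero, zero_mul, mul_one, one_mul, neg_neg, neg_zero, add_zero, zero_add]
  abel

end RingIdentities

/-- a finite group of order prime to `3` in which each element commutes with its conjugates has
class at most `2` -/
theorem commutator_mem_center_of_engel (h : ∀ x g : T, Commute x (g * x * g⁻¹))
    (h3 : ¬ 3 ∣ Nat.card T) (a b c : T) : Commute ⁅a, b⁆ c := by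
  suffices key : ∀ a b c : T,
      ⁅b, ⁅a, c⁆⁆ = ⁅a, ⁅b, c⁆⁆⁻¹ ∧ ⁅⁅a, b⁆, c⁆ = ⁅a, ⁅b, c⁆⁆ ^ 2 ∧
        ⁅a, ⁅c, b⁆⁆ = ⁅a, ⁅b, c⁆⁆⁻¹ ∧ ⁅⁅a, b⁆, c⁆ = ⁅c, ⁅a, b⁆⁆⁻¹ by
    have e1 := (key a b c).2.1
    have e2 := (key a b c).2.2.2
    have e3 : ⁅c, ⁅a, b⁆⁆ = ⁅a, ⁅b, c⁆⁆ := by
      rw [(key a c b).1, (key a b c).2.2.1, inv_inv]
    rw [e3] at e2
    set F := ⁅a, ⁅b, c⁆⁆
    have hF : F ^ 3 = 1 := by
      rw [pow_succ, ← e1, e2, inv_mul_cancel]
    have h1 : orderOf F = 1 := by
      rcases (Nat.dvd_prime (by norm_num : Nat.Prime 3)).1 (orderOf_dvd_of_pow_eq_one hF) with h | h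
      · exact h
      · exact absurd (h ▸ orderOf_dvd_natCard F) h3
    rw [orderOf_eq_one_iff] at h1
    rw [h1, inv_one] at e2
    exact commutatorElement_eq_one_iff_commute.1 e2
  clear a b c
  intro a b c
  let A : Subgroup T := Subgroup.normalClosure {c}
  have hAm : IsMulCommutative A := by
    apply Subgroup.isMulCommutative_closure
    intro x hx y hy
    simp only [Group.conjugatesOfSet, Set.mem_singleton_iff, Set.iUnion_iUnion_eq_left] at hx hy
    obtain ⟨g, rfl⟩ := isConj_iff.1 hx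
    obtain ⟨k, rfl⟩ := isConj_iff.1 hy
    have h1 := ((h c (g⁻¹ * k)).map (MulAut.conj g).toMonoidHom).eq
    simpa [mul_assoc] using h1
  haveI := hAm
  letI : CommGroup A := { (inferInstance : Group A) with mul_comm := hAm.is_comm.comm }
  let ρ : T → AddMonoid.End (Additive A) := fun g =>
    MonoidHom.toAdditive ((MulAut.conjNormal g : MulAut A).toMonoidHom)
  have hρ : ∀ g k, ρ (g * k) = ρ g * ρ k := by
    intro g k
    apply AddMonoidHom.ext
    intro u
    show Additive.ofMul ((MulAut.conjNormal (g * k) : MulAut A) (Additive.toMul u)) = _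
    rw [map_mul]
    rfl
  have hρ1 : ρ 1 = 1 := by
    apply AddMonoidHom.ext
    intro u
    show Additive.ofMul ((MulAut.conjNormal (1 : T) : MulAut A) (Additive.toMul u)) = _
    rw [map_one]
    rfl
  let δ : T → AddMonoid.End (Additive A) := fun g => ρ g - 1
  -- the value of `δ g` is a commutator
  have hδ : ∀ (g : T) (u : A), ((Additive.toMul (δ g (Additive.ofMul u)) : A) : T) = ⁅g, (u : T)⁆ := by
    intro g u
    show ((((MulAut.conjNormal g : MulAut A) u) / u : A) : T) = _
    rw [Subgroup.coe_div, MulAut.conjNormal_apply, commutatorElement_def, div_eq_mul_inv]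
  have hsq : ∀ g, δ g * δ g = 0 := by
    intro g
    apply AddMonoidHom.ext
    intro u
    have h0 : ((Additive.toMul (δ g (δ g u)) : A) : T) = 1 := by
      rw [show δ g u = Additive.ofMul (Additive.toMul (δ g u)) from rfl, hδ,
        show δ g u = δ g (Additive.ofMul (Additive.toMul u)) from rfl, hδ]
      rw [commutatorElement_eq_one_iff_commute]
      have h1 := h g (Additive.toMul u : A)
      rw [commutatorElement_def]
      have h2 : g * ((Additive.toMul u : A) : T) * g⁻¹ * ((Additive.toMul u : A) : T)⁻¹ =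
          g * (((Additive.toMul u : A) : T) * g * ((Additive.toMul u : A) : T)⁻¹)⁻¹ := by group
      rw [h2]
      exact (Commute.refl g).mul_right h1.inv_right
    exact congrArg Additive.ofMul (Subtype.ext h0 : Additive.toMul (δ g (δ g u)) = 1)
  have hmul : ∀ g k, δ (g * k) = δ g + δ k + δ g * δ k := by
    intro g k
    show ρ (g * k) - 1 = _
    rw [hρ]
    exact ring_mul_sub_one (ρ g) (ρ k)
  have hrel : ∀ g k, δ g * δ k * δ g = 0 ∧ δ k * δ g = - (δ g * δ k) ∧
      δ ⁅g, k⁆ = δ g * δ k + δ g * δ k := by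
    intro g k
    obtain ⟨h1, h2, h4⟩ := ring_anticommute (δ g) (δ k) (hsq g) (hsq k) (by rw [← hmul]; exact hsq _)
    refine ⟨h1, h2, ?_⟩
    have hρd : ∀ z, ρ z = 1 + δ z := fun z => (add_sub_cancel (1 : AddMonoid.End (Additive A)) (ρ z)).symm
    have hinv : ∀ z, ρ z⁻¹ = 1 - δ z := fun z => by
      refine ring_inv_unique (δ z) (ρ z⁻¹) (hsq z) ?_
      rw [← hρd, ← hρ, inv_mul_cancel, hρ1]
    show ρ ⁅g, k⁆ - 1 = _
    rw [commutatorElement_def, hρ, hρ, hρ, hinv, hinv, hρd g, hρd k, h4]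
    exact add_sub_cancel_left _ _
  have hcA : c ∈ A := Subgroup.subset_normalClosure rfl
  obtain ⟨-, hanti, hcomm⟩ := hrel a b
  set u : Additive A := Additive.ofMul ⟨c, hcA⟩ with hu
  have hval : ∀ g k, ((Additive.toMul ((δ g * δ k) u) : A) : T) = ⁅g, ⁅k, c⁆⁆ := by
    intro g k
    show ((Additive.toMul (δ g (Additive.ofMul (Additive.toMul (δ k u)))) : A) : T) = _
    rw [hδ, hu, hδ]
  refine ⟨?_, ?_, ?_, ?_⟩
  · rw [← hval b a, ← hval a b, hanti]
    rfl
  · rw [← hval a b, ← hδ ⁅a, b⁆ ⟨c, hcA⟩, hcomm, ← hu, sq]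
    rfl
  · -- `⁅c, b⁆ = ⁅b, c⁆⁻¹` lies in the abelian subgroup `A`
    have hv : ⁅b, c⁆ ∈ A := by
      rw [commutatorElement_def]
      exact mul_mem ((Subgroup.normalClosure_normal).conj_mem c hcA b) (inv_mem hcA)
    rw [← commutatorElement_inv b c]
    have h1 : δ a (Additive.ofMul (⟨_, hv⟩ : A)⁻¹) = - δ a (Additive.ofMul (⟨_, hv⟩ : A)) :=
      map_neg (δ a) _
    have h2 := congrArg (fun v : Additive A => ((Additive.toMul v : A) : T)) h1
    rw [hδ] at h2
    rw [show ((Additive.toMul (-(δ a) (Additive.ofMul (⟨⁅b, c⁆, hv⟩ : A))) : A) : T) =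
      ((Additive.toMul ((δ a) (Additive.ofMul (⟨⁅b, c⁆, hv⟩ : A))) : A) : T)⁻¹ from rfl, hδ] at h2
    exact h2
  · exact (commutatorElement_inv _ _).symm

end Cfsg.Agent.FGS76
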