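import Mathlib

/-!
Normal Hall subgroups for the primes `≥ t`, detected by counting element orders.
-/

set_option autoImplicit false
set_option linter.unusedSectionVars false
set_option linter.style.haveILetI false

namespace Cfsg.Agent.FGS76

/-- all prime divisors are at least `t` -/
def Big (t n : ℕ) : Prop := ∀ r : ℕ, r.Prime → r ∣ n → t ≤ r

/-- all prime divisors are less than `t` -/
def Small (t n : ℕ) : Prop := ∀ r : ℕ, r.Prime → r ∣ n → r < t

theorem Big.dvd {t a b : ℕ} (h : Big t b) (hd : a ∣ b) : Big t a :=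
  fun r hr hra => h r hr (hra.trans hd)

theorem Small.dvd {t a b : ℕ} (h : Small t b) (hd : a ∣ b) : Small t a :=
  fun r hr hra => h r hr (hra.trans hd)

theorem Big.mul {t a b : ℕ} (ha : Big t a) (hb : Big t b) : Big t (a * b) :=
  fun r hr h => ((Nat.Prime.dvd_mul hr).1 h).elim (ha r hr) (hb r hr)

theorem Small.mul {t a b : ℕ} (ha : Small t a) (hb : Small t b) : Small t (a * b) :=
  fun r hr h => ((Nat.Prime.dvd_mul hr).1 h).elim (ha r hr) (hb r hr)

theorem big_one (t : ℕ) : Big t 1 := fun _r hr h => absurd (Nat.dvd_one.1 h) hr.ne_one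

theorem small_one (t : ℕ) : Small t 1 := fun _r hr h => absurd (Nat.dvd_one.1 h) hr.ne_one

theorem Big.coprime {t a b : ℕ} (ha : Big t a) (hb : Small t b) : a.Coprime b :=
  Nat.coprime_of_dvd fun r hr h1 h2 =>
    absurd (ha r hr h1) (by have := hb r hr h2; omega)

theorem eq_one_of_big_small {t a : ℕ} (ha : Big t a) (hb : Small t a) : a = 1 :=
  (Nat.coprime_self a).1 (ha.coprime hb)

theorem big_small_unique {t a b c d : ℕ} (ha : Big t a) (hb : Small t b) (hc : Big t c)
    (hd : Small t d) (h : a * b = c * d) : a = c := by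
  apply Nat.dvd_antisymm
  · exact (ha.coprime hd).dvd_of_dvd_mul_right (h ▸ dvd_mul_right a b)
  · exact (hc.coprime hb).dvd_of_dvd_mul_right (h.symm ▸ dvd_mul_right c d)

/-- there is a normal Hall subgroup for the primes `≥ t` -/
def HasTop (t : ℕ) (G : Type*) [Group G] : Prop :=
  ∃ M : Subgroup G, M.Normal ∧ Big t (Nat.card M) ∧ Small t M.index

section
variable {G : Type*} [Group G] [Finite G]

theorem mem_top_iff {t : ℕ} (M : Subgroup G) [M.Normal] (hb : Big t (Nat.card M))
    (hs : Small t M.index) (g : G) : g ∈ M ↔ Big t (orderOf g) := by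
  constructor
  · intro hg
    apply hb.dvd
    have : orderOf (⟨g, hg⟩ : M) = orderOf g := Subgroup.orderOf_mk g hg
    rw [← this]
    exact orderOf_dvd_natCard _
  · intro hg
    rw [← QuotientGroup.eq_one_iff, ← orderOf_eq_one_iff]
    refine eq_one_of_big_small (t := t) (hg.dvd (orderOf_map_dvd (QuotientGroup.mk' M) g))
      (hs.dvd ?_)
    rw [Subgroup.index_eq_card]
    exact orderOf_dvd_natCard _

theorem card_top {t : ℕ} (M : Subgroup G) [M.Normal] (hb : Big t (Nat.card M))
    (hs : Small t M.index) : Nat.card {g : G // Big t (orderOf g)} = Nat.card M :=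
  Nat.card_congr (Equiv.subtypeEquivRight fun g => (mem_top_iff M hb hs g).symm)

/-- a bijection preserving element orders between groups of the same order type -/
theorem exists_equiv_orderOf {H : Type*} [Group H] [Finite H]
    (hT : ∀ m : ℕ, Nat.card {g : G // orderOf g = m} = Nat.card {h : H // orderOf h = m}) :
    ∃ e : G ≃ H, ∀ g, orderOf (e g) = orderOf g := by
  have h1 : ∀ m : ℕ, Nonempty ({g : G // orderOf g = m} ≃ {h : H // orderOf h = m}) :=
    fun m => ⟨Finite.equivFinOfCardEq (hT m) |>.trans (Finite.equivFin _).symm⟩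
  exact ⟨Equiv.ofFiberEquiv fun m => (h1 m).some, fun g => Equiv.ofFiberEquiv_map _ g⟩

/-- adjoining a small central-in-the-preimage normal subgroup keeps the property -/
theorem hasTop_step {t : ℕ} (N : Subgroup G) [N.Normal] [IsMulCommutative N]
    (hN : Small t (Nat.card N)) (hA : Small t (Nat.card (MulAut N))) (h : HasTop t (G ⧸ N)) :
    HasTop t G := by
  obtain ⟨Mb, hMn, hMb, hMs⟩ := h
  set M := Mb.comap (QuotientGroup.mk' N) with hM
  have hNM : N ≤ M := by
    intro x hx
    simp [hM, (QuotientGroup.eq_one_iff x).2 hx]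
  have hMN : M.Normal := hMn.comap _
  have hMidx : M.index = Mb.index :=
    Subgroup.index_comap_of_surjective _ (QuotientGroup.mk'_surjective N)
  set N' := N.subgroupOf M with hN'
  have hN'card : Nat.card N' = Nat.card N := Nat.card_congr (Subgroup.subgroupOfEquivOfLe hNM).toEquiv
  have hN'idx : N'.index = Nat.card Mb := by
    have h1 : M.index * N'.index = N.index := by
      rw [hN']
      exact (mul_comm _ _).trans (Subgroup.relIndex_mul_index hNM)
    have h2 : Mb.index * Nat.card Mb = N.index := by
      rw [Subgroup.index_mul_card, Subgroup.index_eq_card]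
    rw [hMidx, ← h2] at h1
    exact Nat.eq_of_mul_eq_mul_left (Nat.pos_of_ne_zero Subgroup.index_ne_zero_of_finite) h1
  have hbig : Big t N'.index := hN'idx ▸ hMb
  -- N is central in M
  have hcentral : ∀ m ∈ M, ∀ n ∈ N, m * n = n * m := by
    let φ : M →* MulAut N := (MulAut.conjNormal (H := N)).comp M.subtype
    have hker : N' ≤ φ.ker := by
      intro x hx
      rw [MonoidHom.mem_ker]
      ext n
      have hcomm : (x : G) * n = n * x := by
        have h3 := (IsMulCommutative.is_comm (M := N)).comm ⟨(x : G), hx⟩ n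
        exact congrArg Subtype.val h3
      simp [φ, MulAut.conjNormal_apply, hcomm]
    have hdvd : Nat.card φ.range ∣ N'.index := by
      rw [← Subgroup.index_ker]
      exact Subgroup.index_dvd_of_le hker
    have h1 : Nat.card φ.range = 1 :=
      eq_one_of_big_small (hbig.dvd hdvd) (hA.dvd (Subgroup.card_subgroup_dvd_card _))
    have h2 : φ.range = ⊥ := Subgroup.eq_bot_of_card_eq _ h1
    intro m hm n hn
    have h3 : φ ⟨m, hm⟩ = 1 := by
      have : φ ⟨m, hm⟩ ∈ φ.range := ⟨_, rfl⟩
      rwa [h2, Subgroup.mem_bot] at this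
    have h4 := congrArg Subtype.val (congrArg (fun f : MulAut N => f ⟨n, hn⟩) h3)
    simp only [φ, MonoidHom.comp_apply, Subgroup.coe_subtype, MulAut.conjNormal_apply,
      MulAut.one_apply] at h4
    exact mul_inv_eq_iff_eq_mul.1 h4
  have hsmall : Small t (Nat.card N') := hN'card ▸ hN
  obtain ⟨K, hK⟩ := Subgroup.exists_right_complement'_of_coprime (N := N')
    ((hbig.coprime hsmall).symm)
  have hKn : K.Normal := by
    constructor
    intro k hk x
    obtain ⟨⟨⟨n, hn⟩, ⟨j, hj⟩⟩, hx⟩ := hK.2 x
    simp only at hx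
    have hc : ∀ y : M, n * y = y * n := fun y =>
      Subtype.ext (hcentral y y.2 n hn).symm
    have : x * k * x⁻¹ = j * k * j⁻¹ := by
      rw [← hx, mul_inv_rev, mul_assoc, mul_assoc, hc, ← mul_assoc, ← mul_assoc]
      group
    rw [this]
    exact K.mul_mem (K.mul_mem hj hk) (K.inv_mem hj)
  have hKb : Big t (Nat.card K) := hK.symm.index_eq_card ▸ hbig
  have hKs : Small t K.index := hK.index_eq_card.symm ▸ hsmall
  refine ⟨K.map M.subtype, ?_, ?_, ?_⟩
  · constructor
    intro x hx g
    obtain ⟨y, hy, rfl⟩ := hx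
    have hm : g * y * g⁻¹ ∈ M := hMN.conj_mem _ y.2 g
    refine ⟨⟨_, hm⟩, ?_, rfl⟩
    have := (mem_top_iff K hKb hKs y).1 hy
    apply (mem_top_iff K hKb hKs _).2
    rwa [Subgroup.orderOf_mk, ← MulAut.conj_apply, MulEquiv.orderOf_eq, Subgroup.orderOf_coe]
  · rwa [Subgroup.card_map_of_injective M.subtype_injective]
  · rw [Subgroup.index_map_subtype, hMidx]
    exact hKs.mul hMs

/-- If the numbers of elements whose orders have only primes `≥ t` are as in a group with normal
Hall subgroups for all these sets of primes (`t ≥ b`), then `G` has them as well, and the largest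
of them is solvable. -/
theorem tower_of_count {H : Type*} [Group H] [Finite H] (e : G ≃ H)
    (he : ∀ g, orderOf (e g) = orderOf g) (b : ℕ) (hG : ∀ t, b ≤ t → HasTop t G) :
    ∀ k t, b ≤ t → Nat.card H + 1 ≤ t + k → ∃ M : Subgroup H, M.Normal ∧
      Group.IsSolvable M ∧ Big t (Nat.card M) ∧ Small t M.index := by
  intro k
  induction k with
  | zero =>
    intro t _ht hk
    refine ⟨⊥, inferInstance, inferInstance, by simpa using big_one t, ?_⟩
    intro r hr hdvd
    have := Nat.le_of_dvd Nat.card_pos (Subgroup.index_bot (G := H) ▸ hdvd)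
    omega
  | succ k ih =>
    intro t ht hk
    obtain ⟨M, hMn, hMsol, hMb, hMs⟩ := ih (t + 1) (by omega) (by omega)
    have hMb' : Big t (Nat.card M) := fun r hr h => (Nat.le_succ t).trans (hMb r hr h)
    by_cases hpr : t.Prime
    swap
    · refine ⟨M, hMn, hMsol, hMb', fun r hr h => ?_⟩
      have h1 := hMs r hr h
      have h2 : r ≠ t := fun h3 => hpr (h3 ▸ hr)
      omega
    haveI : Fact t.Prime := ⟨hpr⟩
    -- the number of `π_t`-elements of `H`
    obtain ⟨A, hAn, hAb, hAs⟩ := hG t ht
    let S : Set (H ⧸ M) := {q | Big t (orderOf q)}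
    have hpre : ∀ h : H, Big t (orderOf h) ↔ (h : H ⧸ M) ∈ S := by
      intro h
      constructor
      · exact fun hh => hh.dvd (orderOf_map_dvd (QuotientGroup.mk' M) h)
      · intro hh
        have h1 : h ^ orderOf (h : H ⧸ M) ∈ M := by
          rw [← QuotientGroup.eq_one_iff]
          simp [pow_orderOf_eq_one]
        have h2 : orderOf h ∣ orderOf (h : H ⧸ M) * Nat.card M := by
          apply orderOf_dvd_of_pow_eq_one
          rw [pow_mul]
          have := congrArg Subtype.val (pow_card_eq_one' (x := (⟨_, h1⟩ : M)))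
          exact this
        exact (Big.mul hh hMb').dvd h2
    have hcard : Nat.card A = Nat.card M * Nat.card S := by
      calc Nat.card A = Nat.card {g : G // Big t (orderOf g)} := (card_top A hAb hAs).symm
        _ = Nat.card {h : H // Big t (orderOf h)} :=
            Nat.card_congr (e.subtypeEquiv fun g => by rw [he])
        _ = Nat.card (QuotientGroup.mk ⁻¹' S : Set H) :=
            Nat.card_congr (Equiv.subtypeEquivRight fun h => hpre h)
        _ = Nat.card M * Nat.card S := by
            rw [Nat.card_congr (QuotientGroup.preimageMkEquivSubgroupProdSet M S), Nat.card_prod]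
    have hSQ : Nat.card S * A.index = Nat.card (H ⧸ M) := by
      have h1 : Nat.card A * A.index = Nat.card H :=
        (Subgroup.card_mul_index A).trans (Nat.card_congr e)
      rw [hcard, ← Subgroup.card_mul_index M, Subgroup.index_eq_card M, mul_assoc] at h1
      exact Nat.eq_of_mul_eq_mul_left Nat.card_pos h1
    have hQ : Small (t + 1) (Nat.card (H ⧸ M)) := Subgroup.index_eq_card M ▸ hMs
    -- so the `t`-elements of the quotient form the unique Sylow subgroup
    obtain ⟨P⟩ := (inferInstance : Nonempty (Sylow t (H ⧸ M)))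
    obtain ⟨n, hn⟩ := IsPGroup.iff_card.1 P.isPGroup'
    have hPb : Big t (Nat.card (P : Subgroup (H ⧸ M))) := by
      intro r hr h
      rw [hn] at h
      exact ((Nat.prime_dvd_prime_iff_eq hr hpr).1 (hr.dvd_of_dvd_pow h)).ge
    have hPs : Small t (P : Subgroup (H ⧸ M)).index := by
      intro r hr h
      have h1 := hQ r hr (h.trans (Subgroup.index_dvd_card _))
      have h2 : r ≠ t := fun h3 => P.not_dvd_index (h3 ▸ h)
      omega
    have hSb : Big t (Nat.card S) := by
      have h1 : Nat.card S ∣ Nat.card A := hcard ▸ dvd_mul_left _ _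
      exact hAb.dvd h1
    have hSP : Nat.card S = Nat.card (P : Subgroup (H ⧸ M)) :=
      big_small_unique hSb hAs hPb hPs (hSQ.trans (Subgroup.card_mul_index _).symm)
    have hsub : ((P : Subgroup (H ⧸ M)) : Set (H ⧸ M)) ⊆ S := by
      intro q hq
      refine hPb.dvd ?_
      rw [← Subgroup.orderOf_mk q hq]
      exact orderOf_dvd_natCard _
    have hPS : ((P : Subgroup (H ⧸ M)) : Set (H ⧸ M)) = S := by
      refine Set.eq_of_subset_of_ncard_le hsub ?_ (Set.toFinite _)
      rw [← Nat.card_coe_set_eq, ← Nat.card_coe_set_eq, hSP]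
      rfl
    have hPn : (P : Subgroup (H ⧸ M)).Normal := by
      constructor
      intro q hq x
      have h1 : x * q * x⁻¹ ∈ S := by
        show Big t (orderOf (x * q * x⁻¹))
        rw [← MulAut.conj_apply, MulEquiv.orderOf_eq]
        exact hsub hq
      rwa [← hPS] at h1
    refine ⟨(P : Subgroup (H ⧸ M)).comap (QuotientGroup.mk' M), hPn.comap _, ?_, ?_, ?_⟩
    · set M' := (P : Subgroup (H ⧸ M)).comap (QuotientGroup.mk' M) with hM'
      haveI : Group.IsNilpotent (P : Subgroup (H ⧸ M)) := P.isPGroup'.isNilpotent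
      have hle : M ≤ M' := by
        intro x hx
        simp [hM', (QuotientGroup.eq_one_iff x).2 hx]
      let f : M' →* (P : Subgroup (H ⧸ M)) :=
        ((QuotientGroup.mk' M).comp M'.subtype).codRestrict _ fun x => x.2
      refine Group.isSolvable_of_ker_le_range (Subgroup.inclusion hle) f ?_
      intro x hx
      rw [MonoidHom.mem_ker, Subtype.ext_iff] at hx
      exact ⟨⟨x, (QuotientGroup.eq_one_iff _).1 hx⟩, rfl⟩
    · have h1 : Nat.card ((P : Subgroup (H ⧸ M)).comap (QuotientGroup.mk' M)) =
          Nat.card A := by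
        rw [hcard, hSP]
        exact (Nat.card_congr (QuotientGroup.preimageMkEquivSubgroupProdSet M
          ((P : Subgroup (H ⧸ M)) : Set (H ⧸ M)))).trans (Nat.card_prod _ _)
      rw [h1]
      exact hAb
    · rw [Subgroup.index_comap_of_surjective _ (QuotientGroup.mk'_surjective M)]
      exact hPs

end

end Cfsg.Agent.FGS76
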