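import Mathlib
import Cfsg.Prelude.Def_Solvable
import Cfsg.Agent.FGS76.OrderType
import Cfsg.Agent.Lib.Solvable.Basic
import Cfsg.Agent.Lib.Frobenius.Complement
import Cfsg.Agent.S0144

/-!
Solvable Frobenius complements and element-order statistics.
-/

set_option autoImplicit false
set_option linter.style.haveILetI false
open Cfsg

namespace Cfsg.Agent.FGS76

/-- every Sylow type: some Sylow subgroup is covered by two cosets of a cyclic group -/
def Thin (G : Type*) [Group G] : Prop :=
  ∀ p : ℕ, p.Prime → ∃ (P : Sylow p G) (c x : G),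
    ∀ g ∈ (P : Subgroup G), g ∈ Subgroup.zpowers c ∨ x * g ∈ Subgroup.zpowers c

theorem Thin.quotient {G : Type*} [Group G] [Finite G] (h : Thin G) (N : Subgroup G) [N.Normal] :
    Thin (G ⧸ N) := by
  intro p hp
  haveI := Fact.mk hp
  obtain ⟨P, c, x, hP⟩ := h p hp
  refine ⟨P.mapSurjective (QuotientGroup.mk'_surjective N), QuotientGroup.mk' N c,
    QuotientGroup.mk' N x, ?_⟩
  intro g hg
  rw [Sylow.coe_mapSurjective, Subgroup.mem_map] at hg
  obtain ⟨a, ha, rfl⟩ := hg
  rcases hP a ha with h1 | h1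
  · left
    rw [← MonoidHom.map_zpowers]
    exact ⟨a, h1, rfl⟩
  · right
    rw [← MonoidHom.map_zpowers, ← map_mul]
    exact ⟨_, h1, rfl⟩

theorem Thin.card_le {G : Type*} [Group G] [Finite G] (h : Thin G) {p : ℕ} (hp : p.Prime)
    (N : Subgroup G) [N.Normal] (hN : IsPGroup p N) (hexp : ∀ x ∈ N, x ^ p = 1) :
    Nat.card N ≤ 2 * p := by
  classical
  haveI := Fact.mk hp
  obtain ⟨P, c, x, hP⟩ := h p hp
  obtain ⟨Q, hQ⟩ := hN.exists_le_sylow
  obtain ⟨g, hg⟩ := MulAction.exists_smul_eq G Q P
  have hNP : N ≤ P := by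
    rw [← hg, Sylow.coe_subgroup_smul]
    intro y hy
    rw [Subgroup.mem_pointwise_smul_iff_inv_smul_mem]
    refine hQ ?_
    rw [← map_inv, MulAut.smul_def, MulAut.conj_apply]
    exact Subgroup.Normal.conj_mem ‹_› _ hy _
  haveI := Fintype.ofFinite (Subgroup.zpowers c)
  haveI := Fintype.ofFinite G
  have hC : ({a : G | a ∈ N ∧ a ∈ Subgroup.zpowers c} : Set G).ncard ≤ p := by
    have h1 := IsCyclic.card_pow_eq_one_le (α := Subgroup.zpowers c) (n := p) hp.pos
    refine le_trans ?_ h1
    rw [← Set.ncard_coe_finset]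
    refine Set.ncard_le_ncard_of_injOn
      (fun a => if h : a ∈ Subgroup.zpowers c then (⟨a, h⟩ : Subgroup.zpowers c) else 1) ?_ ?_
    · rintro a ⟨ha, ha'⟩
      simp only [Finset.coe_filter, Finset.mem_univ, true_and, Set.mem_setOf_eq, dif_pos ha']
      exact Subtype.ext (hexp a ha)
    · rintro a ⟨_, ha⟩ b ⟨_, hb⟩ hab
      simp only [dif_pos ha, dif_pos hb] at hab
      exact congrArg Subtype.val hab
  have hD : ({a : G | a ∈ N ∧ x * a ∈ Subgroup.zpowers c} : Set G).ncard ≤ p := by
    rcases Set.eq_empty_or_nonempty {a : G | a ∈ N ∧ x * a ∈ Subgroup.zpowers c} with h0 | h0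
    · simp [h0]
    obtain ⟨b, hb, hb'⟩ := h0
    refine le_trans (Set.ncard_le_ncard_of_injOn (fun a => b⁻¹ * a) ?_ ?_) hC
    · rintro a ⟨ha, ha'⟩
      refine ⟨mul_mem (inv_mem hb) ha, ?_⟩
      have : b⁻¹ * a = (x * b)⁻¹ * (x * a) := by group
      rw [this]
      exact mul_mem (inv_mem hb') ha'
    · intro a _ a' _ haa
      exact mul_left_cancel haa
  have hsub : (N : Set G) ⊆ {a : G | a ∈ N ∧ a ∈ Subgroup.zpowers c} ∪
      {a : G | a ∈ N ∧ x * a ∈ Subgroup.zpowers c} := by
    intro a ha
    rcases hP a (hNP ha) with h1 | h1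
    · exact Or.inl ⟨ha, h1⟩
    · exact Or.inr ⟨ha, h1⟩
  calc Nat.card N = (N : Set G).ncard := Nat.card_coe_set_eq _
    _ ≤ _ := Set.ncard_le_ncard hsub
    _ ≤ _ := Set.ncard_union_le _ _
    _ ≤ 2 * p := by omega

theorem small_card_mulAut {N : Type*} [Group N] [Finite N] {p d t : ℕ} (hp : p.Prime)
    (hcard : Nat.card N = p ^ d) (hd : 0 < d) (hle : Nat.card N ≤ 2 * p) (hpt : p < t)
    (h5 : 5 ≤ t) : Small t (Nat.card (MulAut N)) := by
  by_cases h4 : Nat.card N ≤ 4
  · have h1 : Nat.card (MulAut N) ∣ Nat.card (Equiv.Perm N) :=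
      Subgroup.card_dvd_of_injective (MulAut.toPerm N) (fun a b h => MulEquiv.ext fun x =>
        congrArg (fun f : Equiv.Perm N => f x) h)
    haveI := Fintype.ofFinite N
    classical
    rw [Nat.card_perm] at h1
    intro r hr hrd
    have := (Nat.Prime.dvd_factorial hr).1 (hrd.trans h1)
    omega
  · have hd1 : d = 1 := by
      by_contra hne
      have h2 : p * p ≤ p ^ d := by
        calc p * p = p ^ 2 := (sq p).symm
          _ ≤ p ^ d := Nat.pow_le_pow_right hp.pos (by omega)
      have h3 : p ≤ 2 := Nat.le_of_mul_le_mul_right (by omega) hp.pos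
      omega
    haveI := Fact.mk hp
    haveI : IsCyclic N := isCyclic_of_prime_card (p := p) (by simpa [hd1] using hcard)
    rw [IsCyclic.card_mulAut N, hcard, hd1, pow_one, Nat.totient_prime hp]
    intro r hr hrd
    have := Nat.le_of_dvd (by have := hp.two_le; omega) hrd
    omega

universe u

theorem Thin.hasTop (n : ℕ) : ∀ (G : Type u) [Group G] [Finite G] [Group.IsSolvable G],
    Nat.card G = n → Thin G → ∀ t, 5 ≤ t → HasTop t G := by
  induction n using Nat.strong_induction_on with
  | _ n IH =>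
  intro G _ _ _ hn hG t ht
  rcases subsingleton_or_nontrivial G with hs | hs
  · refine ⟨⊥, inferInstance, by simpa using big_one t, ?_⟩
    rw [Subgroup.index_bot, Nat.card_of_subsingleton (1 : G)]
    exact small_one t
  obtain ⟨N, p, hNn, hN0, -, hp, hNp, hNc, hexp, d, hd, hcard⟩ :=
    Solvable.exists_minimal_normal_elementary G
  have hQ : HasTop t (G ⧸ N) := by
    refine IH _ ?_ (G ⧸ N) rfl (hG.quotient N) t ht
    rw [← hn, ← Subgroup.index_eq_card, ← Subgroup.card_mul_index N]
    have h1 := Subgroup.one_lt_card_iff_ne_bot (H := N) |>.2 hN0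
    have h2 : 0 < N.index := Nat.pos_of_ne_zero Subgroup.index_ne_zero_of_finite
    nlinarith
  have hle := hG.card_le hp N hNp hexp
  by_cases hpt : p < t
  · refine hasTop_step N ?_ (small_card_mulAut hp hcard hd hle hpt ht) hQ
    intro r hr hrd
    rw [hcard] at hrd
    rwa [(Nat.prime_dvd_prime_iff_eq hr hp).1 (hr.dvd_of_dvd_pow hrd)]
  · obtain ⟨M, hMn, hMb, hMs⟩ := hQ
    refine ⟨M.comap (QuotientGroup.mk' N), hMn.comap _, ?_, ?_⟩
    · have h1 : Nat.card (M.comap (QuotientGroup.mk' N)) = Nat.card N * Nat.card M :=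
        (Nat.card_congr (QuotientGroup.preimageMkEquivSubgroupProdSet N
          (M : Set (G ⧸ N)))).trans (Nat.card_prod _ _)
      rw [h1]
      refine Big.mul ?_ hMb
      intro r hr hrd
      rw [hcard] at hrd
      rw [(Nat.prime_dvd_prime_iff_eq hr hp).1 (hr.dvd_of_dvd_pow hrd)]
      omega
    · rwa [Subgroup.index_comap_of_surjective _ (QuotientGroup.mk'_surjective N)]

theorem small_five_eq {n : ℕ} (hn : n ≠ 0) (h : Small 5 n) :
    n = 2 ^ n.factorization 2 * 3 ^ n.factorization 3 := by
  apply Nat.eq_of_factorization_eq hn (by positivity)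
  intro r
  rw [Nat.factorization_mul (by positivity) (by positivity), Nat.factorization_pow,
    Nat.factorization_pow, Finsupp.add_apply, Finsupp.smul_apply, Finsupp.smul_apply,
    Nat.Prime.factorization Nat.prime_two, Nat.Prime.factorization Nat.prime_three]
  by_cases h2 : r = 2
  · subst h2
    simp
  by_cases h3 : r = 3
  · subst h3
    simp
  simp only [Finsupp.single_eq_of_ne h2, Finsupp.single_eq_of_ne h3, smul_zero, add_zero]
  by_contra hne
  have hr : r.Prime := by
    by_contra h'
    exact hne (Nat.factorization_eq_zero_of_not_prime _ h')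
  have := h r hr (Nat.dvd_of_factorization_pos hne)
  have := hr.two_le
  interval_cases r
  all_goals first | omega | exact absurd hr (by norm_num)

/-- solvability is inherited through order type from a solvable thin group -/
theorem isSolvable_of_thin {G H : Type*} [Group G] [Finite G] [Group H] [Finite H]
    [Group.IsSolvable G] (hG : Thin G)
    (hT : ∀ m : ℕ, Nat.card {g : G // orderOf g = m} = Nat.card {h : H // orderOf h = m}) :
    Group.IsSolvable H := by
  obtain ⟨e, he⟩ := exists_equiv_orderOf hT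
  obtain ⟨M, hMn, hMsol, -, hMs⟩ := tower_of_count e he 5
    (fun t ht => Thin.hasTop _ G rfl hG t ht) (Nat.card H + 1) 5 le_rfl (by omega)
  haveI : Group.IsSolvable (H ⧸ M) :=
    S0144.result 2 3 _ _ Nat.prime_two Nat.prime_three
      ((Subgroup.index_eq_card M).symm.trans
        (small_five_eq Subgroup.index_ne_zero_of_finite hMs))
  exact Group.isSolvable_of_ker_le_range M.subtype (QuotientGroup.mk' M)
    (by rw [QuotientGroup.ker_mk', Subgroup.range_subtype])

theorem thin_of_isFPF {G : Type*} [Group G] [Finite G] {A V : Subgroup G}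
    (h : Frobenius.IsFPF A V) (hV : V ≠ ⊥) : Thin A := by
  intro p hp
  haveI := Fact.mk hp
  obtain ⟨P⟩ := (inferInstance : Nonempty (Sylow p A))
  rcases h.sylow_isCyclic_or_quaternion hV P with hc | ⟨-, n, ⟨e⟩⟩
  · obtain ⟨c, hc⟩ := hc.exists_generator
    refine ⟨P, c, 1, fun g hg => Or.inl ?_⟩
    obtain ⟨i, hi⟩ := Subgroup.mem_zpowers_iff.1 (hc ⟨g, hg⟩)
    exact ⟨i, congrArg Subtype.val hi⟩
  · refine ⟨P, (e.symm (QuaternionGroup.a 1) : A), (e.symm (QuaternionGroup.xa 0) : A),
      fun g hg => ?_⟩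
    have key : ∀ i : ZMod (2 * 2 ^ n), (e.symm (QuaternionGroup.a i) : A) ∈
        Subgroup.zpowers (e.symm (QuaternionGroup.a 1) : A) := by
      intro i
      refine ⟨(i.val : ℤ), ?_⟩
      simp only [zpow_natCast]
      rw [← SubmonoidClass.coe_pow, ← map_pow, QuaternionGroup.a_one_pow, ZMod.natCast_zmod_val]
    rcases hq : e ⟨g, hg⟩ with i | i
    · left
      have h1 : (⟨g, hg⟩ : (P : Subgroup A)) = e.symm (QuaternionGroup.a i) :=
        e.injective (by rw [hq]; exact (e.apply_symm_apply _).symm)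
      have := congrArg Subtype.val h1
      dsimp only at this
      rw [this]
      exact key i
    · right
      have h1 : (⟨g, hg⟩ : (P : Subgroup A)) = e.symm (QuaternionGroup.xa i) :=
        e.injective (by rw [hq]; exact (e.apply_symm_apply _).symm)
      have := congrArg Subtype.val h1
      dsimp only at this
      rw [this, ← MulMemClass.coe_mul, ← map_mul, QuaternionGroup.xa_mul_xa]
      exact key _

end Cfsg.Agent.FGS76
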