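import Cfsg.Agent.FGS82.LinearDerivedLength
import Cfsg.Agent.FGS76.DerivedPGroup

/-!
The derived length of linear `p`-groups, `p` odd, over a finite field of characteristic different
from `p`: at most `log_p (d / e) + 1`.
-/

set_option autoImplicit false

namespace Cfsg.Agent.FGS76.LinOdd

open Subgroup
open scoped commutatorElement
open Cfsg.Agent.FGS82.LinDL (fix mem_fix fix_invariant restrict quot eq_id_of_layers exists_fixed
  dvd_finrank smul_cancel)

universe u

/-- the bound -/
def Lp (p e d : ℕ) : ℕ := Nat.log p (d / e) + 1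

theorem Lp_mono (p e : ℕ) {a b : ℕ} (h : a ≤ b) : Lp p e a ≤ Lp p e b :=
  Nat.add_le_add_right (Nat.log_mono_right (Nat.div_le_div_right h)) 1

variable {F : Type*} [Field F] {p : ℕ} [Fact p.Prime]

/-- The powers of a fixed-point-free element of order `p` sum to zero. -/
theorem sum_pow_apply {V : Type*} [AddCommGroup V] [Module F V] {P : Type*} [Group P]
    (ρ : P →* (V ≃ₗ[F] V)) {g : P} (hg : g ^ p = 1) (hf : fix ρ g = ⊥) (w : V) :
    ∑ j : ZMod p, ρ (g ^ j.val) w = 0 := by
  haveI : NeZero p := ⟨(Fact.out : p.Prime).ne_zero⟩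
  have hm : ∑ j : ZMod p, ρ (g ^ j.val) w ∈ fix ρ g := by
    rw [mem_fix, map_sum]
    refine Fintype.sum_equiv (Equiv.addRight 1) _ _ fun j => ?_
    show ρ g (ρ (g ^ j.val) w) = ρ (g ^ (j + 1).val) w
    rw [← LinearEquiv.mul_apply, ← map_mul, ← pow_succ', ZMod.val_add, ← pow_eq_pow_mod _ hg,
      ZMod.val_one]
  rw [hf, Submodule.mem_bot] at hm
  exact hm

/-- The eigenspaces of an elementary abelian group are independent. -/
theorem eq_zero_of_sum {V : Type*} [AddCommGroup V] [Module F V] {P : Type*} [Group P]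
    (hpF : (p : F) ≠ 0) (ρ : P →* (V ≃ₗ[F] V)) {z u : P} (hzu : Commute z u) (hzo : orderOf z = p)
    (hz : fix ρ z = ⊥) (x : ZMod p → V) (hx : ∀ j, ρ (u * z ^ j.val) (x j) = x j)
    (hsum : ∑ j : ZMod p, x j = 0) (k : ZMod p) : x k = 0 := by
  classical
  haveI : NeZero p := ⟨(Fact.out : p.Prime).ne_zero⟩
  have hzp : z ^ p = 1 := by rw [← hzo, pow_orderOf_eq_one]
  have key : ∀ i j : ZMod p,
      ρ ((u * z ^ k.val) ^ i.val) (x j) = ρ ((z ^ (k - j).val) ^ i.val) (x j) := by
    intro i j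
    have e : u * z ^ k.val = u * z ^ j.val * z ^ (k - j).val := by
      rw [mul_assoc, ← pow_add, pow_eq_pow_mod (j.val + (k - j).val) hzp, ← ZMod.val_add,
        add_sub_cancel]
    have hc : Commute (u * z ^ j.val) (z ^ (k - j).val) :=
      (hzu.symm.pow_right _).mul_left (Commute.pow_pow_self z _ _)
    rw [e, hc.mul_pow, (hc.pow_pow _ _).eq, map_mul, LinearEquiv.mul_apply]
    congr 1
    generalize i.val = m
    induction m with
    | zero => simp
    | succ m ih => rw [pow_succ, map_mul, LinearEquiv.mul_apply, hx j, ih]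
  have h0 : ∑ i : ZMod p, ∑ j : ZMod p, ρ ((u * z ^ k.val) ^ i.val) (x j) = 0 :=
    Finset.sum_eq_zero fun i _ => by rw [← map_sum, hsum, map_zero]
  rw [Finset.sum_comm, Finset.sum_eq_single k] at h0
  · refine smul_cancel hpF (n := 1) ?_
    rw [Finset.sum_congr rfl (fun i _ => key i k)] at h0
    simpa using h0
  · intro j _ hj
    simp only [key]
    refine sum_pow_apply ρ (by rw [← pow_mul, mul_comm, pow_mul, hzp, one_pow]) ?_ (x j)
    rw [Submodule.eq_bot_iff]
    intro v hv
    have hne : k - j ≠ 0 := sub_ne_zero.2 (Ne.symm hj)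
    have e : z = (z ^ (k - j).val) ^ ((k - j)⁻¹).val := by
      rw [← pow_mul, pow_eq_pow_mod ((k - j).val * ((k - j)⁻¹).val) hzp, ← ZMod.val_mul,
        mul_inv_cancel₀ hne, ZMod.val_one, pow_one]
    have h1 : v ∈ fix ρ z := by
      rw [mem_fix, e]
      generalize ((k - j)⁻¹).val = m
      induction m with
      | zero => simp
      | succ m ih => rw [pow_succ, map_mul, LinearEquiv.mul_apply, mem_fix.1 hv, ih]
    rwa [hz, Submodule.mem_bot] at h1
  · simp

theorem main [Fintype F] (hpF : (p : F) ≠ 0) (hp2 : p ≠ 2) {e : ℕ}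
    (he : e = orderOf (Fintype.card F : ZMod p)) :
    ∀ (d : ℕ) {V : Type u} [AddCommGroup V] [Module F V] [FiniteDimensional F V] {P : Type u}
      [Group P] [Finite P] (ρ : P →* (V ≃ₗ[F] V)), Module.finrank F V = d → IsPGroup p P →
      ∀ g ∈ derivedSeries P (Lp p e d), ∀ v, ρ g v = v := by
  intro d
  induction d using Nat.strong_induction_on with
  | _ d IH =>
  intro V _ _ _ P _ _ ρ hd hP g hg v
  have hp' : p.Prime := Fact.out
  haveI : NeZero p := ⟨hp'.ne_zero⟩
  by_cases hred : ∃ W : Submodule F V, W ≠ ⊥ ∧ W ≠ ⊤ ∧ ∀ g, ∀ w ∈ W, ρ g w ∈ W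
  · obtain ⟨W, hW0, hW1, hW⟩ := hred
    have hlt : Module.finrank F W < d := hd ▸ Submodule.finrank_lt hW1
    have hpos : 0 < Module.finrank F W := by
      haveI : Nontrivial W := Submodule.nontrivial_iff_ne_bot.2 hW0
      exact Module.finrank_pos
    have hadd := Submodule.finrank_quotient_add_finrank W
    refine eq_id_of_layers hpF hP ρ W (fun w hw => ?_) (fun x => ?_) v
    · exact congrArg Subtype.val (IH _ hlt (restrict ρ W hW) rfl hP g
        (derivedSeries_antitone P (Lp_mono p e hlt.le) hg) ⟨w, hw⟩)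
    · rw [← Submodule.Quotient.mk_eq_zero, Submodule.Quotient.mk_sub, sub_eq_zero]
      exact IH _ (by omega) (quot ρ W hW) rfl hP g
        (derivedSeries_antitone P (Lp_mono p e (by omega)) hg) (Submodule.Quotient.mk x)
  push Not at hred
  suffices key : derivedSeries ρ.range (Lp p e d) = ⊥ by
    have h1 := map_derivedSeries_eq ρ.rangeRestrict_surjective (Lp p e d)
    have h2 : ρ.rangeRestrict g ∈ derivedSeries ρ.range (Lp p e d) := h1 ▸ mem_map_of_mem _ hg
    rw [key, mem_bot] at h2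
    have h3 : ρ g = 1 := congrArg Subtype.val h2
    rw [h3, LinearEquiv.coe_one, id_eq]
  have hQp : IsPGroup p ρ.range := hP.of_surjective ρ.rangeRestrict ρ.rangeRestrict_surjective
  haveI : Finite ρ.range := Finite.of_surjective _ ρ.rangeRestrict_surjective
  set σ : ρ.range →* (V ≃ₗ[F] V) := ρ.range.subtype
  have hirr : ∀ W : Submodule F V, (∀ g : ρ.range, ∀ w ∈ W, σ g w ∈ W) → W = ⊥ ∨ W = ⊤ := by
    intro W hW
    by_contra h
    push Not at h
    obtain ⟨g, w, hw, hgw⟩ := hred W h.1 h.2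
    exact hgw (hW (ρ.rangeRestrict g) w hw)
  by_cases hab : IsMulCommutative ρ.range
  · rw [eq_bot_iff]
    refine le_trans (derivedSeries_antitone _ (show 1 ≤ Lp p e d from Nat.le_add_left 1 _)) ?_
    rw [derivedSeries_one, _root_.commutator_def, commutator_le]
    intro a _ b _
    rw [mem_bot, commutatorElement_eq_one_iff_mul_comm]
    exact mul_comm' a b
  obtain ⟨E, hEn, hEc, hEp, hEcard⟩ := PGroup.exists_normal_elementary_sq hQp hp2 fun h =>
    hab (haveI := h; IsCyclic.commutative)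
  haveI := hEn
  obtain ⟨z, hzE, hzc, hzo⟩ := Involution.exists_central_mem_normal hQp E
    (fun h => by
      rw [h, card_bot] at hEcard
      exact absurd hEcard.symm (Nat.one_lt_pow two_ne_zero hp'.one_lt).ne')
  have hz1 : z ≠ 1 := fun h => by rw [h, orderOf_one] at hzo; exact hp'.one_lt.ne hzo
  haveI hVnt : Nontrivial V := by
    by_contra h
    rw [not_nontrivial_iff_subsingleton] at h
    exact hz1 (Subtype.ext (LinearEquiv.ext fun x => Subsingleton.elim _ _))
  have hzfix : fix σ z = ⊥ := by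
    refine (hirr (fix σ z) fun h w hw => fix_invariant ?_ hw).resolve_right fun h => hz1 ?_
    · rw [mul_assoc, ← mem_center_iff.1 hzc h, inv_mul_cancel_left]
    · refine Subtype.ext (LinearEquiv.ext fun x => ?_)
      exact mem_fix.1 (h ▸ Submodule.mem_top)
  obtain ⟨u₀, hu₀E, hu₀z⟩ : ∃ u ∈ E, u ∉ zpowers z := by
    by_contra h
    push Not at h
    have := Subgroup.card_le_of_le (show E ≤ zpowers z from h)
    rw [hEcard, Nat.card_zpowers, hzo, pow_two] at this
    have := Nat.le_of_mul_le_mul_left (this.trans_eq (mul_one p).symm) hp'.pos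
    exact absurd this (by have := hp'.one_lt; omega)
  have hcE : ∀ x ∈ E, ∀ y ∈ E, Commute x y := fun x hx y hy =>
    congrArg Subtype.val (mul_comm' (⟨x, hx⟩ : E) ⟨y, hy⟩)
  obtain ⟨i, hi⟩ := exists_fixed hpF σ (hcE z hzE u₀ hu₀E) (hEp z hzE) (hEp u₀ hu₀E) hzfix
  set u := u₀ * z ^ i with hudef
  have huE : u ∈ E := mul_mem hu₀E (pow_mem hzE i)
  have huz : u ∉ zpowers z := fun h =>
    hu₀z ((Subgroup.mul_mem_cancel_right (zpowers z) (pow_mem (mem_zpowers z) i)).1 h)
  have hu1 : u ≠ 1 := fun h => huz (h ▸ one_mem _)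
  set W := fix σ u
  have hWtop : W ≠ ⊤ := fun h => hu1 (Subtype.ext (LinearEquiv.ext fun x =>
    mem_fix.1 (h ▸ Submodule.mem_top)))
  have hcomm : ∀ g : ρ.range, g * u * g⁻¹ * u⁻¹ ∈ zpowers z := by
    intro g
    haveI : (zpowers z).Normal := ⟨fun x hx g => by
      obtain ⟨i, rfl⟩ := mem_zpowers_iff.1 hx
      rw [mem_center_iff.1 (zpow_mem hzc i) g, mul_inv_cancel_right]; exact hx⟩
    let π := QuotientGroup.mk' (zpowers z)
    haveI : (E.map π).Normal := hEn.map π (QuotientGroup.mk'_surjective _)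
    have hcard : Nat.card (E.map π) = p := by
      rw [← Thompson.relIndex_eq_card_map_mk']
      have h2 := ((zpowers z).subgroupOf E).card_mul_index
      rw [Nat.card_congr (subgroupOfEquivOfLe (zpowers_le.2 hzE)).toEquiv, Nat.card_zpowers, hzo,
        hEcard, pow_two] at h2
      exact Nat.eq_of_mul_eq_mul_left hp'.pos h2
    have h3 : π u ∈ center _ :=
      PGroup.le_center_of_card_eq_prime (hQp.to_quotient _) hcard (mem_map_of_mem π huE)
    rw [← QuotientGroup.eq_one_iff]
    show π (g * u * g⁻¹ * u⁻¹) = 1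
    rw [map_mul, map_mul, map_mul, map_inv, map_inv, mem_center_iff.1 h3 (π g)]; group
  set N : Subgroup ρ.range := centralizer ({u} : Set ρ.range)
  let κ : ρ.range →* ρ.range :=
    { toFun := fun g => g * u * g⁻¹ * u⁻¹
      map_one' := by group
      map_mul' := fun a b => by
        obtain ⟨j, hj⟩ := mem_zpowers_iff.1 (hcomm b)
        calc a * b * u * (a * b)⁻¹ * u⁻¹ = a * (b * u * b⁻¹ * u⁻¹) * (u * a⁻¹ * u⁻¹) := by group
          _ = (b * u * b⁻¹ * u⁻¹) * a * (u * a⁻¹ * u⁻¹) := by
            rw [← hj, mem_center_iff.1 (zpow_mem hzc j) a]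
          _ = (b * u * b⁻¹ * u⁻¹) * (a * u * a⁻¹ * u⁻¹) := by group
          _ = (a * u * a⁻¹ * u⁻¹) * (b * u * b⁻¹ * u⁻¹) := by
            rw [← hj, mem_center_iff.1 (zpow_mem hzc j) _] }
  have hκ : κ.ker = N := by
    ext g
    rw [MonoidHom.mem_ker, mem_centralizer_singleton_iff]
    show g * u * g⁻¹ * u⁻¹ = 1 ↔ _
    rw [mul_inv_eq_one, mul_inv_eq_iff_eq_mul]
  have hNc : commutator ρ.range ≤ N := by
    rw [← hκ, _root_.commutator_def, commutator_le]
    intro a _ b _
    rw [MonoidHom.mem_ker, map_commutatorElement, commutatorElement_eq_one_iff_mul_comm]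
    obtain ⟨j, hj⟩ := mem_zpowers_iff.1 (hcomm a)
    show κ a * κ b = κ b * κ a
    have hja : κ a = z ^ j := hj.symm
    rw [hja, mem_center_iff.1 (zpow_mem hzc j) (κ b)]
  have hWinv : ∀ n : N, ∀ w ∈ W, σ (n : ρ.range) w ∈ W := fun n w hw => fix_invariant (by
    rw [mul_assoc, ← mem_centralizer_singleton_iff.1 n.2, inv_mul_cancel_left]) hw
  obtain ⟨g₁, hg₁⟩ : ∃ g₁, g₁ ∉ N := by
    by_contra hcon
    push Not at hcon
    rcases hirr W (fun g w hw => hWinv ⟨g, hcon g⟩ w hw) with h | h
    · exact hi h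
    · exact hWtop h
  -- every `z ^ j` is a commutator with `u`
  have hκtop : zpowers z ≤ κ.range := by
    have hne : κ g₁ ≠ 1 := fun h => hg₁ (hκ ▸ MonoidHom.mem_ker.2 h)
    have hle : zpowers (κ g₁) ≤ zpowers z := zpowers_le.2 (hcomm g₁)
    have hoj : orderOf (κ g₁) = p := by
      refine orderOf_eq_prime (orderOf_dvd_iff_pow_eq_one.1 ?_) hne
      have := Subgroup.orderOf_dvd_natCard (zpowers z) (hcomm g₁)
      rwa [Nat.card_zpowers, hzo] at this
    rw [← Subgroup.eq_of_le_of_card_ge hle (by rw [Nat.card_zpowers, Nat.card_zpowers, hzo, hoj]),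
      zpowers_le]
    exact ⟨g₁, rfl⟩
  choose c hc using fun j : ZMod p => hκtop (pow_mem (mem_zpowers z) j.val)
  have hzu : Commute z u := hcE z hzE u huE
  have hconj : ∀ j, c j * u = (u * z ^ j.val) * c j := fun j => by
    have h : c j * u * (c j)⁻¹ * u⁻¹ = z ^ j.val := hc j
    rw [mul_inv_eq_iff_eq_mul, mul_inv_eq_iff_eq_mul] at h
    rw [h, (hzu.pow_left _).eq]
  let Φ : (ZMod p → W) →ₗ[F] V := ∑ j : ZMod p,
    ((σ (c j) : V →ₗ[F] V).comp W.subtype).comp (LinearMap.proj j)
  have hΦ : Function.Injective Φ := by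
    rw [injective_iff_map_eq_zero]
    intro f hf
    funext k
    have hs : ∑ j : ZMod p, σ (c j) (f j : V) = 0 := by simpa [Φ] using hf
    have h := eq_zero_of_sum hpF σ hzu hzo hzfix (fun j => σ (c j) (f j : V)) (fun j => by
      rw [← LinearEquiv.mul_apply, ← map_mul, ← hconj j, map_mul, LinearEquiv.mul_apply,
        mem_fix.1 (f j).2]) hs k
    exact Subtype.ext ((map_eq_zero_iff (σ (c k)) (σ (c k)).injective).1 h)
  have hdW : p * Module.finrank F W ≤ d := by
    have h := LinearMap.finrank_le_finrank_of_injective hΦ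
    rw [Module.finrank_pi_fintype, hd, Finset.sum_const, Finset.card_univ, ZMod.card,
      smul_eq_mul] at h
    exact h
  have hWe : e ∣ Module.finrank F W := by
    have hzN : z ∈ N := mem_centralizer_singleton_iff.2 (mem_center_iff.1 hzc u).symm
    refine dvd_finrank (restrict (σ.comp N.subtype) W hWinv) (z := ⟨z, hzN⟩)
      (by rw [Subgroup.orderOf_mk]; exact hzo) ?_ he
    rw [Submodule.eq_bot_iff]
    intro x hx
    have h1 : σ z (x : V) = x := congrArg Subtype.val (mem_fix.1 hx)
    have h2 : (x : V) ∈ fix σ z := mem_fix.2 h1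
    rw [hzfix, Submodule.mem_bot] at h2
    exact Subtype.ext h2
  have he0 : 0 < Module.finrank F W := by
    haveI : Nontrivial W := Submodule.nontrivial_iff_ne_bot.2 hi
    exact Module.finrank_pos
  have hepos : 0 < e := Nat.pos_of_ne_zero fun h => by rw [h, zero_dvd_iff] at hWe; omega
  have hWlt : Module.finrank F W < d := by nlinarith [hp'.two_le]
  have hsucc : Lp p e (Module.finrank F W) + 1 ≤ Lp p e d := by
    obtain ⟨t, ht⟩ := hWe
    have ht0 : t ≠ 0 := fun h => by rw [h, mul_zero] at ht; omega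
    have h1 : Module.finrank F W / e = t := by rw [ht, Nat.mul_div_cancel_left _ hepos]
    have h2 : t * p ≤ d / e := by
      rw [Nat.le_div_iff_mul_le hepos]
      calc t * p * e = p * Module.finrank F W := by rw [ht]; ring
        _ ≤ d := hdW
    have h3 := Nat.log_mono_right (b := p) h2
    rw [Nat.log_mul_base hp'.one_lt ht0] at h3
    unfold Lp
    rw [h1]
    omega
  set D := derivedSeries ρ.range (Lp p e d)
  have hDW : ∀ x ∈ D, ∀ w ∈ W, σ x w = w := by
    intro x hx w hw
    obtain ⟨y, hy, rfl⟩ := DerivedP.derived_succ_le_map hNc _ (derivedSeries_antitone _ hsucc hx)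
    exact congrArg Subtype.val (IH (Module.finrank F W) hWlt
      (restrict (σ.comp N.subtype) W hWinv) rfl (hQp.to_subgroup N) y hy ⟨w, hw⟩)
  let U : Submodule F V := ⨅ x : D, fix σ (x : ρ.range)
  have hU : ∀ g : ρ.range, ∀ w ∈ U, σ g w ∈ U := by
    intro g w hw
    simp only [U, Submodule.mem_iInf, mem_fix] at hw ⊢
    intro x
    have hDn : D.Normal := derivedSeries_normal _ _
    have h := hw ⟨g⁻¹ * (x : ρ.range) * g, by simpa using hDn.conj_mem _ x.2 g⁻¹⟩
    calc σ (x : ρ.range) (σ g w) = σ g (σ (g⁻¹ * (x : ρ.range) * g) w) := by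
          rw [← LinearEquiv.mul_apply, ← LinearEquiv.mul_apply, ← map_mul, ← map_mul]
          congr 2; group
      _ = σ g w := by rw [h]
  have hWU : W ≤ U := fun w hw => by
    simp only [U, Submodule.mem_iInf, mem_fix]
    exact fun x => hDW x x.2 w hw
  rcases hirr U hU with h | h
  · exact absurd (le_bot_iff.1 (h ▸ hWU)) hi
  · rw [eq_bot_iff]
    intro x hx
    rw [mem_bot]
    refine Subtype.ext (LinearEquiv.ext fun y => ?_)
    have hy : y ∈ U := h ▸ Submodule.mem_top
    simp only [U, Submodule.mem_iInf, mem_fix] at hy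
    exact hy ⟨x, hx⟩

end Cfsg.Agent.FGS76.LinOdd
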