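import Cfsg.Agent.FG72.IteratedCommutator
import Cfsg.Agent.Lib.Solvable.Basic

/-!
The order of a `p`-group of given derived length (Mann's bound `n + 2 ≥ 2 ^ k + 2 k`).
-/

set_option autoImplicit false
set_option linter.unusedSectionVars false

namespace Cfsg.Agent.FGS76.Mann

open scoped commutatorElement
open Subgroup FG72

variable {G : Type*} [Group G] [Finite G] {p : ℕ} [Fact p.Prime]

/-- If the generators commute modulo a normal subgroup, so does what they generate. -/
theorem commutator_le_of_gen {X : Set G} {N S : Subgroup G} [S.Normal] (hN : N ≤ closure X)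
    (hX : ∀ x ∈ X, ∀ y ∈ X, ⁅x, y⁆ ∈ S) : ⁅N, N⁆ ≤ S := by
  refine (commutator_mono hN hN).trans ?_
  rw [commutator_le]
  have hS : ∀ a b : G, ⁅a, b⁆ ∈ S ↔
      QuotientGroup.mk' S a * QuotientGroup.mk' S b = QuotientGroup.mk' S b * QuotientGroup.mk' S a := by
    intro a b
    rw [← commutatorElement_eq_one_iff_mul_comm, ← map_commutatorElement]
    exact (QuotientGroup.eq_one_iff _).symm
  have h1 : ∀ b ∈ closure X, ∀ x ∈ X, ⁅x, b⁆ ∈ S := by
    intro b hb x hx
    have hle : closure X ≤ (centralizer {QuotientGroup.mk' S x}).comap (QuotientGroup.mk' S) :=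
      (closure_le _).2 fun y hy => mem_centralizer_singleton_iff.2 ((hS x y).1 (hX x hx y hy)).symm
    exact (hS x b).2 (mem_centralizer_singleton_iff.1 (hle hb)).symm
  intro a ha b hb
  have hle : closure X ≤ (centralizer {QuotientGroup.mk' S b}).comap (QuotientGroup.mk' S) :=
    (closure_le _).2 fun y hy => mem_centralizer_singleton_iff.2 ((hS y b).1 (h1 b hb y hy))
  exact (hS a b).2 (mem_centralizer_singleton_iff.1 (hle ha))

theorem commutator_lcs (a b : ℕ) :
    ⁅(⊤ : Subgroup G).lowerCentralSeries a, (⊤ : Subgroup G).lowerCentralSeries b⁆ ≤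
      (⊤ : Subgroup G).lowerCentralSeries (a + b + 1) := by
  refine (commutator_lowerCentralSeries_le b _).trans ?_
  have h : ∀ k, iterComm ((⊤ : Subgroup G).lowerCentralSeries a) k ≤
      (⊤ : Subgroup G).lowerCentralSeries (a + k) := by
    intro k
    induction k with
    | zero => exact le_rfl
    | succ k ih => exact commutator_mono ih le_rfl
  exact h (b + 1)

theorem eq_bot_of_le_commutator (hG : IsPGroup p G) {D : Subgroup G} (h : D ≤ ⁅D, ⊤⁆) : D = ⊥ := by
  obtain ⟨c, hc⟩ := (Subgroup.nilpotent_iff_lowerCentralSeries).mp hG.isNilpotent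
  have h3 : ∀ k, D ≤ iterComm D k := by
    intro k
    induction k with
    | zero => exact le_rfl
    | succ k ih => exact h.trans (commutator_mono ih le_rfl)
  exact eq_bot_iff.2 ((h3 c).trans ((iterComm_le_lowerCentralSeries D c).trans hc.le))

theorem sup_zpowers_eq (hG : IsPGroup p G) {A N : Subgroup G} (hAN : A ≤ N)
    (hlt : A.relIndex N < p ^ 2) {a : G} (ha : a ∈ N) (haA : a ∉ A) : A ⊔ zpowers a = N := by
  have hle : A ⊔ zpowers a ≤ N := sup_le hAN (zpowers_le.2 ha)
  refine le_antisymm hle (relIndex_eq_one.1 ?_)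
  obtain ⟨i, hi⟩ : ∃ i, A.relIndex (A ⊔ zpowers a) = p ^ i :=
    (hG.to_subgroup _).index (A.subgroupOf (A ⊔ zpowers a))
  obtain ⟨j, hj⟩ : ∃ j, (A ⊔ zpowers a).relIndex N = p ^ j :=
    (hG.to_subgroup N).index ((A ⊔ zpowers a).subgroupOf N)
  rw [← relIndex_mul_relIndex A (A ⊔ zpowers a) N le_sup_left hle, hi, hj, ← pow_add] at hlt
  have h1 := (Nat.pow_lt_pow_iff_right (Fact.out : p.Prime).one_lt).1 hlt
  rcases i with _ | i
  · exact absurd (relIndex_eq_one.1 (hi.trans (pow_zero p)) (mem_sup_right (mem_zpowers a))) haA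
  · rw [hj, show j = 0 by omega, pow_zero]

/-- At most two generators modulo `A` when the index is at most `p ^ 2`. -/
theorem two_gen (hG : IsPGroup p G) {A N : Subgroup G} (hAN : A ≤ N)
    (hlt : A.relIndex N < p ^ 3) : ∃ a ∈ N, ∃ b ∈ N, N ≤ closure {a, b} ⊔ A := by
  have h1 : ∀ a b : G, zpowers a ≤ closure ({a, b} : Set G) := fun a b =>
    zpowers_le.2 (subset_closure (Set.mem_insert a {b}))
  by_cases hA : N ≤ A
  · exact ⟨1, one_mem _, 1, one_mem _, hA.trans le_sup_right⟩
  obtain ⟨a, ha, haA⟩ := SetLike.not_le_iff_exists.1 hA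
  by_cases h2 : N ≤ A ⊔ zpowers a
  · exact ⟨a, ha, a, ha, h2.trans (sup_le le_sup_right ((h1 a a).trans le_sup_left))⟩
  obtain ⟨b, hb, hbA⟩ := SetLike.not_le_iff_exists.1 h2
  have hle : A ⊔ zpowers a ≤ N := sup_le hAN (zpowers_le.2 ha)
  have hlt' : (A ⊔ zpowers a).relIndex N < p ^ 2 := by
    obtain ⟨i, hi⟩ : ∃ i, A.relIndex (A ⊔ zpowers a) = p ^ i :=
      (hG.to_subgroup _).index (A.subgroupOf (A ⊔ zpowers a))
    rw [← relIndex_mul_relIndex A (A ⊔ zpowers a) N le_sup_left hle, hi, pow_succ' p 2] at hlt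
    rcases i with _ | i
    · exact absurd (relIndex_eq_one.1 (hi.trans (pow_zero p)) (mem_sup_right (mem_zpowers a))) haA
    · exact Nat.lt_of_mul_lt_mul_left (lt_of_le_of_lt
        (Nat.mul_le_mul_right _ (Nat.le_self_pow (Nat.succ_ne_zero i) p)) hlt)
  refine ⟨a, ha, b, hb, ?_⟩
  rw [← sup_zpowers_eq hG hle hlt' hb hbA]
  refine sup_le (sup_le le_sup_right ((h1 a b).trans le_sup_left)) ?_
  exact (zpowers_le.2 (subset_closure (Set.mem_insert_of_mem a (Set.mem_singleton b)) :
    b ∈ closure ({a, b} : Set G))).trans le_sup_left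

/-- The derived factor of a non-abelian normal subgroup deep in the lower central series. -/
theorem derived_factor (hG : IsPGroup p G) {N : Subgroup G} [N.Normal] {τ : ℕ}
    (hN : N ≤ (⊤ : Subgroup G).lowerCentralSeries τ) (hne : ⁅N, N⁆ ≠ ⊥) :
    p ^ (τ + 2) ≤ (⁅N, N⁆ : Subgroup G).relIndex N ∧
    ((∀ a ∈ N, ∀ b ∈ N, ¬ N ≤ closure {a, b} ⊔ (⊤ : Subgroup G).lowerCentralSeries (τ + 1)) →
      p ^ (τ + 3) ≤ (⁅N, N⁆ : Subgroup G).relIndex N) := by
  set D : Subgroup G := ⁅N, N⁆ with hD
  haveI : D.Normal := commutator_normal N N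
  have hDN : D ≤ N := commutator_le_left N N
  have hiter : D ≤ iterComm N (τ + 1) :=
    (commutator_mono le_rfl hN).trans (commutator_lowerCentralSeries_le τ N)
  set A := ⁅N, ⊤⁆ ⊔ D with hA
  haveI : A.Normal := inferInstance
  have hAN : A ≤ N := sup_le (commutator_le_left N ⊤) hDN
  have hmul := relIndex_mul_relIndex D A N le_sup_right hAN
  obtain ⟨i, hi⟩ : ∃ i, D.relIndex A = p ^ i := (hG.to_subgroup A).index (D.subgroupOf A)
  obtain ⟨j, hj⟩ : ∃ j, A.relIndex N = p ^ j := (hG.to_subgroup N).index (A.subgroupOf N)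
  have hp1 := (Fact.out : p.Prime).one_lt
  -- the factor below the top one
  have hlow : τ ≤ i := by
    by_contra hlt
    obtain ⟨m, rfl⟩ : ∃ m, τ = m + 1 := ⟨τ - 1, by omega⟩
    have h1 : iterComm A m ≤ D := iterComm_le_of_relIndex_lt hG m A D le_sup_right
      (hi ▸ Nat.pow_lt_pow_right hp1 (not_le.1 hlt))
    have h2 : iterComm N (m + 1) ≤ D := by
      refine le_trans ?_ h1
      rw [Nat.add_comm m 1, ← iterComm_add]
      exact iterComm_mono le_sup_left m
    exact hne (eq_bot_of_le_commutator hG (hiter.trans (commutator_mono h2 le_rfl)))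
  rw [← hmul, hi, hj, ← pow_add]
  refine ⟨Nat.pow_le_pow_right hp1.le ?_, fun htwo => Nat.pow_le_pow_right hp1.le ?_⟩
  · rcases (show j = 0 ∨ j = 1 ∨ 2 ≤ j by omega) with rfl | rfl | h
    · exfalso
      have h1 : N ≤ A := relIndex_eq_one.1 (hj.trans (pow_zero p))
      refine hne (eq_bot_of_le_commutator hG ?_)
      -- `N = [N, G] D`
      have h4 : ∀ k, N ≤ iterComm N k ⊔ D := by
        intro k
        induction k with
        | zero => exact le_sup_left
        | succ k ih =>
          refine h1.trans (sup_le ?_ le_sup_right)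
          rw [commutator_le]
          intro x hx g hg
          haveI := iterComm_normal N k
          obtain ⟨u, hu, v, hv, rfl⟩ := mem_sup_of_normal_right.mp (ih hx)
          rw [commutatorElement_mul_left_eq]
          exact mul_mem (mem_sup_right (Normal.conj_mem ‹D.Normal› _
              (commutator_le_left D ⊤ (commutator_mem_commutator hv hg)) u))
            (mem_sup_left (commutator_mem_commutator hu hg))
      obtain ⟨c, hc⟩ := (Subgroup.nilpotent_iff_lowerCentralSeries).mp hG.isNilpotent
      have hND : N ≤ D := (h4 c).trans (sup_le (((iterComm_le_lowerCentralSeries N c).trans hc.le).trans bot_le) le_rfl)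
      calc D = ⁅N, N⁆ := hD
        _ ≤ ⁅D, ⊤⁆ := commutator_mono hND le_top
    · by_contra hlt
      obtain ⟨a, ha, haA⟩ : ∃ a ∈ N, a ∉ A := SetLike.not_le_iff_exists.1 fun h => by
        rw [relIndex_eq_one.2 h, pow_one] at hj
        exact hp1.ne hj
      have hsup := sup_zpowers_eq hG hAN (hj ▸ Nat.pow_lt_pow_right hp1 (by norm_num)) ha haA
      have hrel : D.relIndex N < p ^ (τ + 1 + 1) := by
        rw [← hmul, hi, hj, ← pow_add]
        exact Nat.pow_lt_pow_right hp1 (by omega)
      have h1 : iterComm N (τ + 1) ≤ D := iterComm_le_of_relIndex_lt hG (τ + 1) N D hDN hrel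
      refine hne (eq_bot_of_le_commutator hG ?_)
      haveI : (⁅D, (⊤ : Subgroup G)⁆ : Subgroup G).Normal := commutator_normal D ⊤
      have hkey : ∀ x ∈ A, ∀ y ∈ N, ⁅x, y⁆ ∈ ⁅D, (⊤ : Subgroup G)⁆ := by
        intro x hx y hy
        obtain ⟨u, hu, v, hv, rfl⟩ := mem_sup_of_normal_right.mp hx
        rw [commutatorElement_mul_left_eq]
        refine mul_mem (Normal.conj_mem inferInstance _
          (commutator_mem_commutator hv (mem_top y)) u) ?_
        haveI : (⁅N, (⊤ : Subgroup G)⁆ : Subgroup G).Normal := commutator_normal N ⊤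
        have h2 := commutator_lowerCentralSeries_le τ ⁅N, (⊤ : Subgroup G)⁆
          (commutator_mem_commutator hu (hN hy))
        rw [show (⁅N, ⊤⁆ : Subgroup G) = iterComm N 1 from rfl, iterComm_add, Nat.add_comm 1] at h2
        exact commutator_mono h1 le_rfl h2
      refine commutator_le_of_gen (X := insert a (A : Set G)) ?_ ?_
      · rw [← hsup]
        exact sup_le (fun x hx => subset_closure (Set.mem_insert_of_mem _ hx))
          (zpowers_le.2 (subset_closure (Set.mem_insert _ _)))
      · rintro x (rfl | hx) y (rfl | hy)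
        · rw [commutatorElement_self]; exact one_mem _
        · rw [← commutatorElement_inv]; exact inv_mem (hkey y hy x ha)
        · exact hkey x hx y ha
        · exact hkey x hx y (hAN hy)
    · omega
  · by_contra hlt
    obtain ⟨a, ha, b, hb, hab⟩ := two_gen hG hAN
      (hj ▸ Nat.pow_lt_pow_right hp1 (by omega))
    refine htwo a ha b hb (hab.trans (sup_le_sup_left (sup_le ?_ ?_) _))
    · exact (commutator_mono hN le_rfl).trans le_rfl
    · exact (commutator_mono hN hN).trans ((commutator_lcs τ τ).trans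
        (Subgroup.lowerCentralSeries_antitone _ (by omega)))

/-- The derived series reaches below the expected term of the lower central series. -/
def Low (G : Type*) [Group G] (j : ℕ) : Prop :=
  derivedSeries G j ≤ (⊤ : Subgroup G).lowerCentralSeries (2 ^ j)

/-- The derived series has at most two generators modulo the next term. -/
def TwoGen (G : Type*) [Group G] (j : ℕ) : Prop :=
  ∃ a ∈ derivedSeries G j, ∃ b ∈ derivedSeries G j,
    derivedSeries G j ≤ closure {a, b} ⊔ (⊤ : Subgroup G).lowerCentralSeries (2 ^ j)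

theorem derived_le_lcs : ∀ j, derivedSeries G j ≤ (⊤ : Subgroup G).lowerCentralSeries (2 ^ j - 1)
  | 0 => le_top
  | j + 1 => by
    rw [derivedSeries_succ]
    refine (commutator_mono (derived_le_lcs j) (derived_le_lcs j)).trans
      ((commutator_lcs _ _).trans (Subgroup.lowerCentralSeries_antitone _ ?_))
    have h1 : 1 ≤ 2 ^ j := Nat.one_le_two_pow
    rw [pow_succ]
    omega

theorem low_succ {j : ℕ} (h : Low G j) : Low G (j + 1) := by
  unfold Low at h ⊢
  rw [derivedSeries_succ]
  refine (commutator_mono h h).trans ((commutator_lcs _ _).trans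
    (Subgroup.lowerCentralSeries_antitone _ ?_))
  rw [pow_succ]
  omega

theorem low_add_two {j : ℕ} (h : TwoGen G j) : Low G (j + 2) := by
  obtain ⟨a, ha, b, hb, hab⟩ := h
  set R := (⊤ : Subgroup G).lowerCentralSeries (2 ^ j) with hR
  set R' := (⊤ : Subgroup G).lowerCentralSeries (2 ^ (j + 1)) with hR'
  have h1 : 1 ≤ 2 ^ j := Nat.one_le_two_pow
  have e : 2 ^ (j + 1) = 2 ^ j + 2 ^ j := by rw [pow_succ]; omega
  set c := ⁅a, b⁆
  haveI hS : (R' ⊔ zpowers c).Normal := by
    refine ⟨fun x hx g => ?_⟩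
    obtain ⟨r, hr, z, hz, rfl⟩ := mem_sup_of_normal_left.mp hx
    obtain ⟨i, rfl⟩ := mem_zpowers_iff.1 hz
    have e1 : g * (r * c ^ i) * g⁻¹ = (g * r * g⁻¹) * (g * c * g⁻¹) ^ i := by
      rw [conj_zpow]; group
    have hc : ⁅g, c⁆ ∈ R' := by
      rw [← commutatorElement_inv]
      refine inv_mem ?_
      have hcm : c ∈ (⊤ : Subgroup G).lowerCentralSeries (2 ^ (j + 1) - 1) :=
        derived_le_lcs (j + 1) (by rw [derivedSeries_succ]; exact commutator_mem_commutator ha hb)
      have h2 : ⁅c, g⁆ ∈ (⊤ : Subgroup G).lowerCentralSeries (2 ^ (j + 1) - 1 + 1) := by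
        rw [Subgroup.lowerCentralSeries_succ]
        exact commutator_mem_commutator hcm (mem_top g)
      rwa [show 2 ^ (j + 1) - 1 + 1 = 2 ^ (j + 1) by omega] at h2
    have e2 : g * c * g⁻¹ = ⁅g, c⁆ * c := by rw [commutatorElement_def]; group
    rw [e1]
    exact mul_mem (mem_sup_left (Normal.conj_mem inferInstance r hr g))
      (zpow_mem (e2 ▸ mul_mem (mem_sup_left hc) (mem_sup_right (mem_zpowers c))) i)
  have hnext : derivedSeries G (j + 1) ≤ R' ⊔ zpowers c := by
    rw [derivedSeries_succ]
    refine commutator_le_of_gen (X := insert a (insert b (R : Set G))) ?_ ?_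
    · refine hab.trans (sup_le ((closure_le _).2 ?_) fun x hx => subset_closure ?_)
      · rintro x (rfl | rfl)
        · exact subset_closure (Set.mem_insert _ _)
        · exact subset_closure (Set.mem_insert_of_mem _ (Set.mem_insert _ _))
      · exact Set.mem_insert_of_mem _ (Set.mem_insert_of_mem _ hx)
    · have hkey : ∀ x ∈ R, ∀ y ∈ (⊤ : Subgroup G).lowerCentralSeries (2 ^ j - 1),
          ⁅x, y⁆ ∈ R' ⊔ zpowers c := fun x hx y hy => mem_sup_left (by
        refine Subgroup.lowerCentralSeries_antitone _ ?_ (commutator_lcs _ _ (commutator_mem_commutator hx hy))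
        omega)
      have hkey' : ∀ x ∈ R, ∀ y ∈ (⊤ : Subgroup G).lowerCentralSeries (2 ^ j - 1),
          ⁅y, x⁆ ∈ R' ⊔ zpowers c := fun x hx y hy => by
        rw [← commutatorElement_inv]; exact inv_mem (hkey x hx y hy)
      have hR1 : R ≤ (⊤ : Subgroup G).lowerCentralSeries (2 ^ j - 1) :=
        Subgroup.lowerCentralSeries_antitone _ (by omega)
      rintro x (rfl | rfl | hx) y (rfl | rfl | hy)
      · rw [commutatorElement_self]; exact one_mem _
      · exact mem_sup_right (mem_zpowers _)
      · exact hkey' y hy _ (derived_le_lcs j ha)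
      · rw [← commutatorElement_inv]; exact inv_mem (mem_sup_right (mem_zpowers _))
      · rw [commutatorElement_self]; exact one_mem _
      · exact hkey' y hy _ (derived_le_lcs j hb)
      · exact hkey x hx _ (derived_le_lcs j ha)
      · exact hkey x hx _ (derived_le_lcs j hb)
      · exact hkey x hx y (hR1 hy)
  show derivedSeries G (j + 2) ≤ _
  rw [show j + 2 = (j + 1) + 1 from rfl, derivedSeries_succ]
  refine commutator_le_of_gen (X := insert c (R' : Set G)) ?_ ?_
  · exact hnext.trans (sup_le (fun x hx => subset_closure (Set.mem_insert_of_mem _ hx))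
      (zpowers_le.2 (subset_closure (Set.mem_insert _ _))))
  · have hcm : c ∈ (⊤ : Subgroup G).lowerCentralSeries (2 ^ (j + 1) - 1) :=
      derived_le_lcs (j + 1) (by rw [derivedSeries_succ]; exact commutator_mem_commutator ha hb)
    have hkey : ∀ x ∈ R', ∀ y ∈ (⊤ : Subgroup G).lowerCentralSeries (2 ^ (j + 1) - 1),
        ⁅x, y⁆ ∈ (⊤ : Subgroup G).lowerCentralSeries (2 ^ (j + 1 + 1)) := fun x hx y hy => by
      refine Subgroup.lowerCentralSeries_antitone _ ?_ (commutator_lcs _ _ (commutator_mem_commutator hx hy))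
      rw [pow_succ 2 (j + 1)]
      omega
    rintro x (rfl | hx) y (rfl | hy)
    · rw [commutatorElement_self]; exact one_mem _
    · rw [← commutatorElement_inv]; exact inv_mem (hkey y hy _ hcm)
    · exact hkey x hx _ hcm
    · exact hkey x hx y (Subgroup.lowerCentralSeries_antitone _ (by omega) hy)

/-- The exceptional indices. -/
def Exc (G : Type*) [Group G] (j : ℕ) : Prop := TwoGen G j ∧ ¬ Low G j

open scoped Classical in
theorem card_exc_le (k : ℕ) : ((Finset.range k).filter (Exc G)).card ≤ 2 := by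
  classical
  rcases ((Finset.range k).filter (Exc G)).eq_empty_or_nonempty with e | hne
  · rw [e]; simp
  · set i := ((Finset.range k).filter (Exc G)).min' hne with hi
    have himem := Finset.min'_mem _ hne
    rw [← hi, Finset.mem_filter] at himem
    refine le_trans (Finset.card_le_card (t := {i, i + 1}) fun l hl => ?_) Finset.card_le_two
    have h1 : i ≤ l := Finset.min'_le _ _ hl
    rw [Finset.mem_insert, Finset.mem_singleton]
    by_contra hcon
    push Not at hcon
    obtain ⟨d, rfl⟩ : ∃ d, l = i + 2 + d := ⟨l - i - 2, by omega⟩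
    refine (Finset.mem_filter.1 hl).2.2 ?_
    clear hl h1 hcon
    induction d with
    | zero => exact low_add_two himem.2.1
    | succ d ih => exact low_succ ih

open scoped Classical in
theorem card_bound (hG : IsPGroup p G) (j : ℕ) (hne : derivedSeries G j ≠ ⊥) :
    ∃ e : ℕ, p ^ e * Nat.card (derivedSeries G j) ≤ Nat.card G ∧
      2 ^ j + 2 * j ≤ e + 1 + ((Finset.range j).filter (Exc G)).card := by
  induction j with
  | zero => exact ⟨0, by rw [derivedSeries_zero]; simp [card_top], by simp⟩
  | succ j ih =>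
    have hne' : derivedSeries G j ≠ ⊥ := fun e => hne (by
      rw [derivedSeries_succ, e]; exact commutator_bot_left _)
    obtain ⟨e, he, hb⟩ := ih hne'
    haveI : (derivedSeries G j).Normal := derivedSeries_normal G j
    have hne2 : ⁅derivedSeries G j, derivedSeries G j⁆ ≠ ⊥ := by
      rw [← derivedSeries_succ]; exact hne
    have h1 : 1 ≤ 2 ^ j := Nat.one_le_two_pow
    have hf := derived_factor hG (derived_le_lcs j) hne2
    rw [show 2 ^ j - 1 + 1 = 2 ^ j by omega, show 2 ^ j - 1 + 2 = 2 ^ j + 1 by omega,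
      show 2 ^ j - 1 + 3 = 2 ^ j + 2 by omega] at hf
    have hmul : Nat.card (derivedSeries G (j + 1)) *
        (⁅derivedSeries G j, derivedSeries G j⁆ : Subgroup G).relIndex (derivedSeries G j) =
        Nat.card (derivedSeries G j) := by
      rw [derivedSeries_succ]
      exact Solvable.card_mul_relIndex (commutator_le_left _ _)
    rw [Finset.range_add_one, Finset.filter_insert]
    by_cases hE : Exc G j
    · rw [if_pos hE, Finset.card_insert_of_notMem (by simp)]
      refine ⟨e + (2 ^ j + 1), ?_, by rw [pow_succ]; omega⟩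
      refine le_trans ?_ he
      rw [pow_add, mul_assoc, ← hmul, mul_comm (Nat.card _)]
      exact Nat.mul_le_mul_left _ (Nat.mul_le_mul_right _ hf.1)
    · rw [if_neg hE]
      refine ⟨e + (2 ^ j + 2), ?_, by rw [pow_succ]; omega⟩
      refine le_trans ?_ he
      rw [pow_add, mul_assoc, ← hmul, mul_comm (Nat.card _)]
      refine Nat.mul_le_mul_left _ (Nat.mul_le_mul_right _ ?_)
      by_cases hL : Low G j
      · have h := (derived_factor hG hL hne2).1
        exact h
      · refine hf.2 fun a ha b hb hab => hE ⟨⟨a, ha, b, hb, hab⟩, hL⟩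

end Cfsg.Agent.FGS76.Mann
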