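import Mathlib
import Cfsg.Agent.FGS76.CountPow
import Cfsg.Agent.Lib.PGroup.NormalRankTwo
import Cfsg.Agent.Lib.Solvable.Basic

/-!
Miller's theorem: the number of elements of order `p ^ s`, `s ≥ 2`, when a Sylow `p`-subgroup is not
cyclic (`p` odd).
-/

set_option autoImplicit false
set_option linter.unusedSectionVars false
set_option linter.style.haveILetI false
open scoped Pointwise

namespace Cfsg.Agent.FGS76

open Subgroup

variable {G : Type*} [Group G] [Finite G]

theorem pow_mul_of_central {x e c : G} (hc : ∀ g : G, Commute g c) (h : x * e = c * e * x) (n : ℕ) :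
    x ^ n * e = c ^ n * e * x ^ n := by
  induction n with
  | zero => simp
  | succ n ih =>
    calc x ^ (n + 1) * e = x ^ n * (x * e) := by rw [pow_succ, mul_assoc]
      _ = x ^ n * (c * e * x) := by rw [h]
      _ = c * (x ^ n * e) * x := by
          rw [mul_assoc c e x, ← mul_assoc (x ^ n) c (e * x), (hc (x ^ n)).eq]; group
      _ = c ^ (n + 1) * e * x ^ (n + 1) := by
          rw [ih, pow_succ' c, pow_succ x, mul_assoc, mul_assoc, mul_assoc, mul_assoc, mul_assoc]

theorem mul_pow_of_central {x e c : G} (hc : ∀ g : G, Commute g c) (h : x * e = c * e * x) (n : ℕ) :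
    (e * x) ^ n = c ^ n.choose 2 * e ^ n * x ^ n := by
  induction n with
  | zero => simp
  | succ n ih =>
    have h2 : (n + 1).choose 2 = n + n.choose 2 := by
      rw [Nat.choose_succ_succ, Nat.choose_one_right]
    calc (e * x) ^ (n + 1) = c ^ n.choose 2 * e ^ n * x ^ n * (e * x) := by rw [pow_succ, ih]
      _ = c ^ n.choose 2 * e ^ n * (x ^ n * e) * x := by group
      _ = c ^ n.choose 2 * (e ^ n * c ^ n) * e * x ^ n * x := by
          rw [pow_mul_of_central hc h n]; group
      _ = c ^ n.choose 2 * (c ^ n * e ^ n) * e * x ^ n * x := by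
          rw [((hc (e ^ n)).pow_right n).eq]
      _ = c ^ (n + 1).choose 2 * e ^ (n + 1) * x ^ (n + 1) := by
          rw [h2, add_comm n (n.choose 2), pow_add, pow_succ, pow_succ]
          group

/-- multiplication by the normal elementary abelian subgroup does not change `p`-th powers -/
theorem mul_pow_prime_eq {p : ℕ} [hp : Fact p.Prime] (hG : IsPGroup p G) (hp2 : p ≠ 2)
    (E : Subgroup G) [E.Normal] (hexp : ∀ e ∈ E, e ^ p = 1) (hcard : Nat.card E = p ^ 2)
    (x e : G) (he : e ∈ E) : (x * e) ^ p = x ^ p := by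
  obtain ⟨N, hNE, hNn, hNc⟩ := PGroup.exists_normal_le_card hG E 1 hcard (by norm_num)
  rw [pow_one] at hNc
  haveI := hNn
  have hNcen := PGroup.le_center_of_card_eq_prime hG hNc
  -- the image of `E` in `G ⧸ N` is central
  have hEbar : Nat.card (E.map (QuotientGroup.mk' N)) = p := by
    have h1 : (N.subgroupOf E).index = p := by
      have h2 := Subgroup.card_mul_index (N.subgroupOf E)
      rw [Nat.card_congr (subgroupOfEquivOfLe hNE).toEquiv, hNc, hcard, sq] at h2
      exact Nat.eq_of_mul_eq_mul_left hp.out.pos h2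
    have h3 : ((QuotientGroup.mk' N).comp E.subtype).ker = N.subgroupOf E := by
      rw [← MonoidHom.comap_ker, QuotientGroup.ker_mk']
      rfl
    rw [show E.map (QuotientGroup.mk' N) = ((QuotientGroup.mk' N).comp E.subtype).range by
      rw [MonoidHom.range_comp, Subgroup.range_subtype], ← index_ker, h3, h1]
  haveI : (E.map (QuotientGroup.mk' N)).Normal :=
    Subgroup.Normal.map inferInstance _ (QuotientGroup.mk'_surjective N)
  have hcen := PGroup.le_center_of_card_eq_prime (hG.to_quotient N) hEbar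
  set c := x * e * x⁻¹ * e⁻¹ with hc
  have hcN : c ∈ N := by
    rw [← QuotientGroup.eq_one_iff]
    have h1 : (QuotientGroup.mk' N e) ∈ center (G ⧸ N) := hcen ⟨e, he, rfl⟩
    have h2 := Subgroup.mem_center_iff.1 h1 (QuotientGroup.mk' N x)
    show QuotientGroup.mk' N (x * e * x⁻¹ * e⁻¹) = 1
    rw [map_mul, map_mul, map_mul, h2, map_inv, map_inv, mul_inv_cancel_right, mul_inv_cancel]
  have hcc : ∀ g : G, Commute g c := fun g => Subgroup.mem_center_iff.1 (hNcen hcN) g
  have hcp : c ^ p = 1 := by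
    have h1 := hexp c (hNE hcN)
    exact h1
  have hrel : x * e = c * e * x := by rw [hc]; group
  have h1 := mul_pow_of_central hcc hrel p
  obtain ⟨d, hd⟩ := hp.out.dvd_choose_self (k := 2) (by norm_num)
    (lt_of_le_of_ne hp.out.two_le (Ne.symm hp2))
  rw [hd, pow_mul, hcp, one_pow, hexp e he, one_mul, one_mul] at h1
  have h2 : x * e = x * (e * x) * x⁻¹ := by group
  rw [h2, conj_pow, h1]
  group

/-- Miller's theorem for a noncyclic `p`-group -/
theorem miller_pGroup {p : ℕ} [hp : Fact p.Prime] (hG : IsPGroup p G) (hp2 : p ≠ 2)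
    (hnc : ¬ IsCyclic G) (t : ℕ) :
    p ^ (t + 2) ∣ Nat.card {x : G // orderOf x = p ^ (t + 2)} := by
  classical
  obtain ⟨E, hEn, hEc, hexp, hcard⟩ := PGroup.exists_normal_elementary_sq hG hp2 hnc
  haveI := hEn
  haveI := Fintype.ofFinite G
  haveI := Fintype.ofFinite (Subgroup G)
  rw [Nat.card_eq_fintype_card, Fintype.card_subtype,
    Finset.card_eq_sum_card_fiberwise (f := fun x : G => zpowers x ⊔ E) (t := Finset.univ)
      (fun x _ => Finset.mem_univ _)]
  refine Finset.dvd_sum fun H _ => ?_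
  rcases ((Finset.univ.filter fun x : G => orderOf x = p ^ (t + 2)).filter
    fun x => zpowers x ⊔ E = H).eq_empty_or_nonempty with h0 | ⟨x, hx⟩
  · rw [h0, Finset.card_empty]
    exact dvd_zero _
  simp only [Finset.mem_filter, Finset.mem_univ, true_and] at hx
  obtain ⟨hxo, rfl⟩ := hx
  set H := zpowers x ⊔ E
  set F := zpowers (x ^ p) ⊔ E with hF
  have hFH : F ≤ H := sup_le_sup_right (zpowers_le.2 (pow_mem (mem_zpowers x) p)) E
  have hnotpow : ∀ i : ℤ, ¬ (p : ℤ) ∣ i → zpowers (x ^ i) = zpowers x := by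
    intro i hi
    refine eq_of_le_of_card_ge (zpowers_le.2 (zpow_mem (mem_zpowers x) i)) ?_
    rw [Nat.card_zpowers, Nat.card_zpowers]
    have hcop : IsCoprime i ((p ^ (t + 2) : ℕ) : ℤ) := by
      push_cast
      refine IsCoprime.pow_right ?_
      exact ((Nat.prime_iff_prime_int.1 hp.out).coprime_iff_not_dvd.2 hi).symm
    obtain ⟨u, v, huv⟩ := hcop
    have : x = (x ^ i) ^ u := by
      rw [← zpow_mul]
      conv_lhs => rw [← zpow_one x, ← huv]
      rw [zpow_add, mul_comm v, zpow_mul x (((p ^ (t + 2) : ℕ) : ℤ)) v, zpow_natCast, ← hxo,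
        pow_orderOf_eq_one, one_zpow, mul_one, mul_comm u i]
    apply Nat.le_of_dvd (orderOf_pos _)
    conv_lhs => rw [this]
    exact orderOf_dvd_of_pow_eq_one (by
      rw [← zpow_natCast, ← zpow_mul, mul_comm, zpow_mul, zpow_natCast, pow_orderOf_eq_one,
        one_zpow])
  have hxF : x ∉ F := by
    intro hxF
    obtain ⟨a, ha, e, he, hae⟩ := Subgroup.mem_sup_of_normal_right.1 hxF
    obtain ⟨j, rfl⟩ := mem_zpowers_iff.1 ha
    have he' : e = x ^ (1 - (p : ℤ) * j) := by
      rw [zpow_sub, zpow_one, zpow_mul, zpow_natCast]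
      rw [← inv_mul_eq_iff_eq_mul.2 hae.symm]
      exact (((Commute.refl x).pow_right p).zpow_right j).inv_right.eq.symm
    have h1 : orderOf e = p ^ (t + 2) := by
      rw [← Nat.card_zpowers, he', hnotpow _ ?_, Nat.card_zpowers, hxo]
      intro hdvd
      have : (p : ℤ) ∣ 1 := by
        have h2 := dvd_add hdvd (dvd_mul_right (p : ℤ) j)
        simpa using h2
      exact hp.out.ne_one (by exact_mod_cast Int.eq_one_of_dvd_one (by positivity) this)
    have h2 := orderOf_dvd_of_pow_eq_one (hexp e he)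
    rw [h1] at h2
    have := (Nat.pow_dvd_pow_iff_le_right hp.out.one_lt).1 (h2.trans (pow_one p).symm.dvd)
    omega
  have hfib : ((Finset.univ.filter fun y : G => orderOf y = p ^ (t + 2)).filter
      fun y => zpowers y ⊔ E = H) = (H : Set G).toFinset \ (F : Set G).toFinset := by
    ext y
    simp only [Finset.mem_filter, Finset.mem_univ, true_and, Finset.mem_sdiff, Set.mem_toFinset,
      SetLike.mem_coe]
    constructor
    · rintro ⟨-, hyH⟩
      refine ⟨hyH ▸ mem_sup_left (mem_zpowers y), fun hyF => hxF ?_⟩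
      have : zpowers y ⊔ E ≤ F := sup_le (zpowers_le.2 hyF) le_sup_right
      rw [hyH] at this
      exact this (mem_sup_left (mem_zpowers x))
    · rintro ⟨hyH, hyF⟩
      obtain ⟨a, ha, e, he, rfl⟩ := Subgroup.mem_sup_of_normal_right.1 hyH
      obtain ⟨i, rfl⟩ := mem_zpowers_iff.1 ha
      have hi : ¬ (p : ℤ) ∣ i := by
        rintro ⟨j, rfl⟩
        refine hyF (mul_mem (mem_sup_left ⟨j, ?_⟩) (mem_sup_right he))
        simp only [zpow_mul, zpow_natCast]
      have hpow : (x ^ i * e) ^ p = (x ^ i) ^ p := mul_pow_prime_eq hG hp2 E hexp hcard _ e he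
      have hxi : orderOf (x ^ i) = p ^ (t + 2) := by
        rw [← Nat.card_zpowers, hnotpow i hi, Nat.card_zpowers, hxo]
      have hord : orderOf (x ^ i * e) = p ^ (t + 2) := by
        refine orderOf_eq_prime_pow ?_ ?_
        · rw [pow_succ' p t, pow_mul, hpow, ← pow_mul, ← pow_succ']
          intro h
          have h1 := Nat.le_of_dvd (pow_pos hp.out.pos _) (orderOf_dvd_of_pow_eq_one h)
          rw [hxi] at h1
          exact absurd h1 (not_le.2 (Nat.pow_lt_pow_right hp.out.one_lt (Nat.lt_succ_self _)))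
        · rw [pow_succ' p (t + 1), pow_mul, hpow, ← pow_mul, ← pow_succ', show t + 1 + 1 = t + 2 from
            rfl, ← hxi, pow_orderOf_eq_one]
      refine ⟨hord, le_antisymm (sup_le (zpowers_le.2 hyH) le_sup_right) (sup_le ?_ le_sup_right)⟩
      rw [← hnotpow i hi, zpowers_le]
      exact (mul_mem_cancel_right (mem_sup_right he)).1 (mem_sup_left (mem_zpowers (x ^ i * e)))
  rw [hfib, Finset.card_sdiff_of_subset (Set.toFinset_subset_toFinset.2 hFH), Set.toFinset_card,
    Set.toFinset_card, ← Nat.card_eq_fintype_card, ← Nat.card_eq_fintype_card]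
  show p ^ (t + 2) ∣ Nat.card H - Nat.card F
  obtain ⟨j, hj⟩ := PGroup.exists_card_eq_pow hG H
  obtain ⟨i, hi⟩ := PGroup.exists_card_eq_pow hG F
  have hEle : ¬ E ≤ zpowers x := by
    intro hle
    haveI := Fintype.ofFinite (zpowers x)
    have h1 := IsCyclic.card_pow_eq_one_le (α := zpowers x) (n := p) hp.out.pos
    have h2 : Nat.card E ≤ (Finset.univ.filter fun a : zpowers x => a ^ p = 1).card := by
      rw [Nat.card_eq_fintype_card, ← Finset.card_univ]
      refine Finset.card_le_card_of_injOn (fun a => ⟨a.1, hle a.2⟩) ?_ ?_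
      · intro a _
        simp only [Finset.coe_filter, Finset.mem_univ, true_and, Set.mem_setOf_eq]
        exact Subtype.ext (hexp a.1 a.2)
      · intro a _ b _ hab
        exact Subtype.ext (by simpa using hab)
    rw [hcard] at h2
    have h3 : p ^ 2 ≤ p ^ 1 := by rw [pow_one]; exact h2.trans h1
    exact absurd ((Nat.pow_le_pow_iff_right hp.out.one_lt).1 h3) (by norm_num)
  have hjlt : t + 2 < j := by
    rw [← Nat.pow_lt_pow_iff_right hp.out.one_lt, ← hj, ← hxo, ← Nat.card_zpowers]
    refine lt_of_le_of_ne (card_le_of_le le_sup_left) fun h => hEle ?_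
    exact (eq_of_le_of_card_ge (show zpowers x ≤ H from le_sup_left) h.ge).symm ▸
      (le_sup_right : E ≤ H)
  have hij : j ≤ i + 1 := by
    have h1 := Solvable.card_sup_mul_card_inf (zpowers x) E
    have h2 := Solvable.card_sup_mul_card_inf (zpowers (x ^ p)) E
    change Nat.card H * _ = _ at h1
    change Nat.card F * _ = _ at h2
    have h3 : Nat.card (zpowers (x ^ p) ⊓ E : Subgroup G) ≤ Nat.card (zpowers x ⊓ E : Subgroup G) :=
      card_le_of_le (inf_le_inf_right E (zpowers_le.2 (pow_mem (mem_zpowers x) p)))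
    have hxp : Nat.card (zpowers (x ^ p)) = p ^ (t + 1) := by
      rw [Nat.card_zpowers, orderOf_pow, hxo, Nat.gcd_eq_right (dvd_pow_self p (by omega)),
        pow_succ, Nat.mul_div_cancel _ hp.out.pos]
    rw [hj, Nat.card_zpowers, hxo, hcard] at h1
    rw [hi, hxp, hcard] at h2
    have hpos : 0 < Nat.card (zpowers x ⊓ E : Subgroup G) := Nat.card_pos
    rw [← Nat.pow_le_pow_iff_right hp.out.one_lt, ← mul_le_mul_iff_of_pos_right hpos, h1]
    calc p ^ (t + 2) * p ^ 2 = p * (p ^ (t + 1) * p ^ 2) := by ring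
      _ = p * (p ^ i * Nat.card (zpowers (x ^ p) ⊓ E : Subgroup G)) := by rw [h2]
      _ ≤ p * (p ^ i * Nat.card (zpowers x ⊓ E : Subgroup G)) :=
          Nat.mul_le_mul_left _ (Nat.mul_le_mul_left _ h3)
      _ = p ^ (i + 1) * _ := by ring
  rw [hj, hi]
  exact Nat.dvd_sub (pow_dvd_pow p (by omega)) (pow_dvd_pow p (by omega))

/-- elements of a given order and the cyclic subgroups they generate -/
theorem card_orderOf_eq_mul (n : ℕ) (T : Subgroup G) :
    Nat.card {x : G // orderOf x = n ∧ x ∈ T} =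
      Nat.card {H : Subgroup G // IsCyclic H ∧ Nat.card H = n ∧ H ≤ T} * Nat.totient n := by
  classical
  haveI := Fintype.ofFinite G
  haveI := Fintype.ofFinite (Subgroup G)
  rw [Nat.card_eq_fintype_card, Fintype.card_subtype, Nat.card_eq_fintype_card,
    Fintype.card_subtype, ← smul_eq_mul, ← Finset.sum_const,
    Finset.card_eq_sum_card_fiberwise (f := fun x : G => zpowers x)
      (t := Finset.univ.filter fun H : Subgroup G => IsCyclic H ∧ Nat.card H = n ∧ H ≤ T)
      (fun x hx => by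
        simp only [Finset.coe_filter, Finset.mem_univ, true_and, Set.mem_setOf_eq] at hx ⊢
        exact ⟨inferInstance, (Nat.card_zpowers x).trans hx.1, zpowers_le.2 hx.2⟩)]
  refine Finset.sum_congr rfl fun H hH => ?_
  simp only [Finset.mem_filter, Finset.mem_univ, true_and] at hH
  obtain ⟨hHc, hHn, hHT⟩ := hH
  subst hHn
  rw [← IsCyclic.card_orderOf_eq_totient (α := H) (d := Nat.card H)
    (by rw [Nat.card_eq_fintype_card])]
  symm
  refine Finset.card_bij (fun a _ => (a : G)) ?_ (fun a _ b _ h => Subtype.ext h) ?_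
  · intro a ha
    simp only [Finset.mem_filter, Finset.mem_univ, true_and] at ha ⊢
    refine ⟨⟨by rwa [Subgroup.orderOf_coe], hHT a.2⟩, eq_of_le_of_card_ge (zpowers_le.2 a.2) ?_⟩
    rw [Nat.card_zpowers, Subgroup.orderOf_coe, ha]
  · intro b hb
    simp only [Finset.mem_filter, Finset.mem_univ, true_and] at hb
    refine ⟨⟨b, hb.2 ▸ mem_zpowers b⟩, ?_, rfl⟩
    simp only [Finset.mem_filter, Finset.mem_univ, true_and]
    rw [Subgroup.orderOf_mk, hb.1.1]

theorem miller {p : ℕ} [hp : Fact p.Prime] (hp2 : p ≠ 2) (P : Sylow p G) (hnc : ¬ IsCyclic P)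
    (t : ℕ) : p ^ (t + 2) ∣ Nat.card {x : G // orderOf x = p ^ (t + 2)} := by
  classical
  set n := p ^ (t + 2) with hn
  have hphi : Nat.totient n = p ^ (t + 1) * (p - 1) := Nat.totient_prime_pow_succ hp.out _
  let Q : Subgroup (ConjAct G) := (P : Subgroup G).map ConjAct.toConjAct.toMonoidHom
  have hQ : IsPGroup p Q := P.2.map _
  have hmemQ : ∀ g : Q, ConjAct.ofConjAct (g : ConjAct G) ∈ (P : Subgroup G) := by
    rintro ⟨g, a, ha, rfl⟩
    exact ha
  have hcyc : ∀ (g : ConjAct G) (H : Subgroup G), IsCyclic H → IsCyclic (g • H : Subgroup G) :=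
    fun g H hH => (Subgroup.equivSMul g H).isCyclic.1 hH
  have hcardsmul : ∀ (g : ConjAct G) (H : Subgroup G),
      Nat.card (g • H : Subgroup G) = Nat.card H := fun g H =>
    (Nat.card_congr (Subgroup.equivSMul g H).toEquiv).symm
  let X : SubMulAction Q (Subgroup G) :=
    { carrier := {H | IsCyclic H ∧ Nat.card H = n}
      smul_mem' := fun g H hH => ⟨hcyc _ H hH.1, (hcardsmul _ H).trans hH.2⟩ }
  let X' : SubMulAction Q (Subgroup G) :=
    { carrier := {H | IsCyclic H ∧ Nat.card H = n ∧ H ≤ P}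
      smul_mem' := fun g H hH => ⟨hcyc _ H hH.1, (hcardsmul _ H).trans hH.2.1, fun x hx => by
        change x ∈ ((g : ConjAct G) • H : Subgroup G) at hx
        rw [Subgroup.mem_smul_pointwise_iff_exists] at hx
        obtain ⟨h, hh, rfl⟩ := hx
        rw [ConjAct.smul_def]
        exact mul_mem (mul_mem (hmemQ g) (hH.2.2 hh)) (inv_mem (hmemQ g))⟩ }
  have hfix : Nat.card (MulAction.fixedPoints Q X) = Nat.card (MulAction.fixedPoints Q X') := by
    refine Nat.card_congr ⟨fun H => ⟨⟨H.1.1, H.1.2.1, H.1.2.2, ?_⟩,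
        fun g => Subtype.ext (congrArg (fun K : X => (K : Subgroup G)) (H.2 g) :)⟩,
      fun H => ⟨⟨H.1.1, H.1.2.1, H.1.2.2.1⟩,
        fun g => Subtype.ext (congrArg (fun K : X' => (K : Subgroup G)) (H.2 g) :)⟩,
      fun H => rfl, fun H => rfl⟩
    have hPN : (P : Subgroup G) ≤ normalizer ((H.1.1 : Subgroup G) : Set G) := by
      intro a ha
      have h1 : (ConjAct.toConjAct a • H.1.1 : Subgroup G) = H.1.1 :=
        congrArg (fun K : X => (K : Subgroup G)) (H.2 ⟨ConjAct.toConjAct a, a, ha, rfl⟩)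
      rw [Subgroup.mem_normalizer_iff]
      intro h
      conv_rhs => rw [← h1]
      rw [Subgroup.mem_smul_pointwise_iff_exists]
      constructor
      · intro hh
        exact ⟨h, hh, by rw [ConjAct.smul_def, ConjAct.ofConjAct_toConjAct]⟩
      · rintro ⟨k, hk, hke⟩
        rw [ConjAct.smul_def, ConjAct.ofConjAct_toConjAct] at hke
        exact mul_left_cancel (mul_right_cancel hke) ▸ hk
    have hH : IsPGroup p H.1.1 := IsPGroup.of_card (n := t + 2) H.1.2.2
    have hsup := hH.to_sup_of_normal_left' P.2 hPN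
    have h2 := P.3 hsup le_sup_right
    exact h2 ▸ le_sup_left
  have h1 : Nat.card X ≡ Nat.card X' [MOD p] := by
    have a := hQ.card_modEq_card_fixedPoints (α := X)
    have b := hQ.card_modEq_card_fixedPoints (α := X')
    rw [hfix] at a
    exact a.trans b.symm
  have h2 : Nat.card {x : G // orderOf x = n ∧ x ∈ (P : Subgroup G)} =
      Nat.card {x : (P : Subgroup G) // orderOf x = n} :=
    Nat.card_congr ⟨fun x => ⟨⟨x.1, x.2.2⟩, by rw [Subgroup.orderOf_mk]; exact x.2.1⟩,
      fun x => ⟨x.1.1, by rw [Subgroup.orderOf_coe]; exact x.2, x.1.2⟩, fun _ => rfl, fun _ => rfl⟩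
  have h3 : p ^ (t + 2) ∣ Nat.card X' * Nat.totient n := by
    have := miller_pGroup P.2 hp2 hnc t
    rw [← h2, card_orderOf_eq_mul] at this
    exact this
  have h4 : p ∣ Nat.card X' := by
    rw [hphi, pow_succ p (t + 1), mul_left_comm] at h3
    have h5 := Nat.dvd_of_mul_dvd_mul_left (pow_pos hp.out.pos (t + 1)) h3
    refine (hp.out.dvd_mul.1 h5).resolve_right fun h => ?_
    have hle := Nat.le_of_dvd (by have := hp.out.two_le; omega) h
    have := hp.out.two_le
    omega
  have h5 : p ∣ Nat.card X := (h1.dvd_iff dvd_rfl).2 h4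
  have h6 : Nat.card {x : G // orderOf x = n} = Nat.card X * Nat.totient n := by
    have := card_orderOf_eq_mul n (⊤ : Subgroup G)
    rw [Nat.card_congr (Equiv.subtypeEquivRight fun x => (and_iff_left (mem_top x)))] at this
    rw [this]
    congr 1
    exact Nat.card_congr (Equiv.subtypeEquivRight fun H => ⟨fun h => ⟨h.1, h.2.1⟩, fun h => ⟨h.1, h.2, le_top⟩⟩)
  rw [h6, hphi, hn, pow_succ' p (t + 1), ← mul_assoc]
  exact Nat.mul_dvd_mul h5 dvd_rfl |>.trans (dvd_mul_right _ _)

theorem card_orderOf_split {a b : ℕ} (hab : a.Coprime b) :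
    Nat.card {x : G // orderOf x = a * b} = Nat.card
      ((y : {y : G // orderOf y = a}) × {z : G // Commute z (y : G) ∧ orderOf z = b}) := by
  obtain ⟨e, he1, he0⟩ := Nat.chineseRemainder hab 1 0
  obtain ⟨f, hf0, hf1⟩ := Nat.chineseRemainder hab 0 1
  have hgcd : ∀ u v w : ℕ, u.Coprime v → w ≡ 1 [MOD u] → w ≡ 0 [MOD v] → Nat.gcd (u * v) w = v := by
    intro u v w huv hw1 hw0
    have h1 : u.Coprime w := by
      have := hw1.gcd_eq
      rw [Nat.gcd_one_left] at this
      exact Nat.Coprime.symm this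
    rw [Nat.Coprime.gcd_mul_left_cancel v h1]
    exact Nat.gcd_eq_left (Nat.modEq_zero_iff_dvd.1 hw0)
  have hsum : e + f ≡ 1 [MOD a * b] :=
    (Nat.modEq_and_modEq_iff_modEq_mul hab).1
      ⟨by simpa using he1.add hf0, by simpa using he0.add hf1⟩
  have hpow : ∀ (x : G) (c d : ℕ), c ≡ d [MOD orderOf x] → x ^ c = x ^ d := fun x c d h =>
    pow_eq_pow_iff_modEq.2 h
  refine Nat.card_congr ⟨fun x => ⟨⟨x.1 ^ e, ?_⟩, ⟨x.1 ^ f, Commute.pow_pow_self x.1 f e, ?_⟩⟩,
    fun yz => ⟨(yz.1 : G) * yz.2.1, ?_⟩, ?_, ?_⟩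
  · have h0 : 0 < a * b := x.2 ▸ orderOf_pos x.1
    rw [orderOf_pow, x.2, hgcd a b e hab he1 he0, Nat.mul_div_cancel _ (Nat.pos_of_mul_pos_left h0)]
  · have h0 : 0 < b * a := mul_comm a b ▸ x.2 ▸ orderOf_pos x.1
    rw [orderOf_pow, x.2, mul_comm a b, hgcd b a f hab.symm hf1 hf0,
      Nat.mul_div_cancel _ (Nat.pos_of_mul_pos_left h0)]
  · rw [Commute.orderOf_mul_eq_mul_orderOf_of_coprime yz.2.2.1.symm (by rw [yz.1.2, yz.2.2.2]; exact hab),
      yz.1.2, yz.2.2.2]
  · intro x
    apply Subtype.ext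
    show x.1 ^ e * x.1 ^ f = x.1
    rw [← pow_add, hpow x.1 (e + f) 1 (x.2.symm ▸ hsum), pow_one]
  · rintro ⟨⟨y, hy⟩, ⟨z, hzc, hz⟩⟩
    have h1 : (y * z) ^ e = y := by
      rw [hzc.symm.mul_pow, hpow y e 1 (hy.symm ▸ he1), hpow z e 0 (hz.symm ▸ he0), pow_one,
        pow_zero, mul_one]
    have h2 : (y * z) ^ f = z := by
      rw [hzc.symm.mul_pow, hpow y f 0 (hy.symm ▸ hf0), hpow z f 1 (hz.symm ▸ hf1), pow_one,
        pow_zero, one_mul]
    exact Sigma.subtype_ext (Subtype.ext h1) h2

end Cfsg.Agent.FGS76
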