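import Cfsg.Agent.Lib.Transfer.Frobenius
import Cfsg.Agent.Lib.Coprime.Action
import Cfsg.Agent.Lib.Thompson.Cores

/-!
Groups in which `p` divides the order of every subgroup of order divisible by `q` that is not a
`q`-group: coprime actions on `q`-subgroups and the case without such actions.
-/

set_option autoImplicit false

namespace Cfsg.Agent.FGS76.Mix

open Subgroup
open scoped Pointwise

/-- Every subgroup of order divisible by `q` but not by `p` is a `q`-group. -/
def Mix (q p : ℕ) (G : Type*) [Group G] : Prop :=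
  ∀ H : Subgroup G, q ∣ Nat.card H → ¬ p ∣ Nat.card H → IsPGroup q H

/-- Every `p`-element normalizing a `q`-subgroup centralizes it. -/
def Control (q p : ℕ) (G : Type*) [Group G] : Prop :=
  ∀ V : Subgroup G, IsPGroup q V → ∀ g ∈ normalizer (V : Set G), (∃ k : ℕ, orderOf g = p ^ k) →
    g ∈ centralizer (V : Set G)

variable {G : Type*} [Group G] [Finite G] {p q : ℕ}

omit [Finite G] in
theorem Mix.sub (h : Mix q p G) (L : Subgroup G) : Mix q p L := by
  intro H h1 h2
  have e : Nat.card (H.map L.subtype) = Nat.card H := card_map_of_injective L.subtype_injective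
  exact (h (H.map L.subtype) (e ▸ h1) (e ▸ h2)).of_equiv
    (H.equivMapOfInjective _ L.subtype_injective).symm

theorem card_sup_dvd {X Y : Subgroup G} (h : X ≤ normalizer (Y : Set G)) :
    Nat.card ↥(X ⊔ Y) ∣ Nat.card X * Nat.card Y := by
  set L := normalizer (Y : Set G) with hL
  have hY : Y ≤ L := le_normalizer
  have h1 := Thompson.card_sup_dvd_mul (G := L) (X.subgroupOf L) (Y.subgroupOf L)
  rw [← subgroupOf_sup h hY, Nat.card_congr (subgroupOfEquivOfLe (sup_le h hY)).toEquiv,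
    Nat.card_congr (subgroupOfEquivOfLe h).toEquiv, Nat.card_congr (subgroupOfEquivOfLe hY).toEquiv] at h1
  exact h1

/-- No mixed `{q, r}`-subgroup. -/
theorem noNorm [Fact p.Prime] [Fact q.Prime] (hm : Mix q p G) (hpq : p ≠ q) {r : ℕ} [Fact r.Prime]
    (hrp : r ≠ p) (hrq : r ≠ q) {V R : Subgroup G} (hV : IsPGroup q V) (hV0 : V ≠ ⊥)
    (hR : IsPGroup r R)
    (h : R ≤ normalizer (V : Set G) ∨ V ≤ normalizer (R : Set G)) : R = ⊥ := by
  have hdvd : Nat.card ↥(V ⊔ R) ∣ Nat.card V * Nat.card R := by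
    rcases h with h | h
    · rw [sup_comm, mul_comm]; exact card_sup_dvd h
    · exact card_sup_dvd h
  obtain ⟨a, ha⟩ := IsPGroup.iff_card.1 hV
  obtain ⟨b, hb⟩ := IsPGroup.iff_card.1 hR
  have hqd : q ∣ Nat.card ↥(V ⊔ R) := by
    refine dvd_trans ?_ (card_dvd_of_le (le_sup_left : V ≤ V ⊔ R))
    haveI : Nontrivial V := (Subgroup.nontrivial_iff_ne_bot _).2 hV0
    obtain ⟨n, hn0, hn⟩ := hV.nontrivial_iff_card.1 ‹Nontrivial V›
    exact hn ▸ dvd_pow_self q hn0.ne'
  have hpd : ¬ p ∣ Nat.card ↥(V ⊔ R) := by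
    intro hd
    have h1 := hd.trans hdvd
    rw [ha, hb] at h1
    rcases (Nat.Prime.dvd_mul Fact.out).1 h1 with h2 | h2
    · exact hpq ((Nat.prime_dvd_prime_iff_eq Fact.out Fact.out).1
        ((Fact.out : p.Prime).dvd_of_dvd_pow h2))
    · exact hrp ((Nat.prime_dvd_prime_iff_eq Fact.out Fact.out).1
        ((Fact.out : p.Prime).dvd_of_dvd_pow h2)).symm
  exact disjoint_self.mp (IsPGroup.disjoint_of_ne r q hrq R R hR
    ((hm _ hqd hpd).to_le le_sup_right))

/-- A nontrivial action of a `p`-element on a `q`-subgroup. -/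
theorem act [hpf : Fact p.Prime] [Fact q.Prime] {V : Subgroup G}
    (hV : IsPGroup q V) {g : G} (hg : g ∈ normalizer (V : Set G))
    (hgp : ∃ k : ℕ, orderOf g = p ^ k) (hgc : g ∉ centralizer (V : Set G)) :
    ∃ n : ℕ, Nat.card V = q ^ n ∧ p + 1 ≤ q ^ n ∧ (q ^ n ≤ p + 1 →
      ∀ u ∈ V, u ≠ 1 → ∀ v ∈ V, v ≠ 1 → ∃ i : ℤ, g ^ i * u * (g ^ i)⁻¹ = v) := by
  have hp : p.Prime := hpf.out
  obtain ⟨n, hn⟩ := IsPGroup.iff_card.1 hV
  obtain ⟨k, hk⟩ := hgp
  set K : Subgroup (ConjAct G) := zpowers (ConjAct.toConjAct g) with hK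
  have hKp : IsPGroup p K := IsPGroup.of_card (n := k) (by
    rw [Nat.card_zpowers, MulEquiv.orderOf_eq]
    exact hk)
  have hmem : ∀ x : G, x ∈ V → x ≠ 1 → ∀ y ∈ MulAction.orbit K x, y ∈ V ∧ y ≠ 1 := by
    rintro x hx hx1 y ⟨⟨c, hc⟩, rfl⟩
    obtain ⟨i, rfl⟩ := mem_zpowers_iff.1 hc
    show ConjAct.toConjAct g ^ i • x ∈ V ∧ ConjAct.toConjAct g ^ i • x ≠ 1
    rw [← map_zpow, ConjAct.toConjAct_smul]
    exact ⟨(mem_normalizer_iff.1 (zpow_mem hg i) x).1 hx, by simpa using hx1⟩
  obtain ⟨x, hx, hxg⟩ : ∃ x ∈ V, g * x * g⁻¹ ≠ x := by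
    by_contra h
    push Not at h
    exact hgc (mem_centralizer_iff.2 fun x hx => (mul_inv_eq_iff_eq_mul.1 (h x hx)).symm)
  have hx1 : x ≠ 1 := fun h => hxg (by rw [h]; group)
  obtain ⟨j, hj⟩ := hKp.card_orbit x
  have hj0 : j ≠ 0 := by
    intro h
    rw [h, pow_zero] at hj
    have hs := (Nat.card_eq_one_iff_unique.1 hj).1
    have hgm : ConjAct.toConjAct g • x ∈ MulAction.orbit K x :=
      ⟨⟨_, mem_zpowers _⟩, rfl⟩
    have h2 : (⟨_, hgm⟩ : MulAction.orbit K x) = ⟨x, MulAction.mem_orbit_self x⟩ :=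
      @Subsingleton.elim _ hs _ _
    exact hxg (by rw [← ConjAct.toConjAct_smul]; exact congrArg Subtype.val h2)
  let T : Set G := {y | y ∈ V ∧ y ≠ 1}
  have hT : T.ncard + 1 = q ^ n := by
    have h1 : insert (1 : G) T = (V : Set G) := by
      ext y
      simp only [Set.mem_insert_iff, T, Set.mem_setOf_eq, SetLike.mem_coe]
      constructor
      · rintro (rfl | h)
        exacts [one_mem V, h.1]
      · intro hy
        by_cases h : y = 1
        exacts [Or.inl h, Or.inr ⟨hy, h⟩]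
    rw [← hn, ← SetLike.coe_sort_coe, Nat.card_coe_set_eq, ← h1,
      Set.ncard_insert_of_notMem (by simp [T]) (Set.toFinite _)]
  have hsub : MulAction.orbit K x ⊆ T := fun y hy => hmem x hx hx1 y hy
  have hle := Set.ncard_le_ncard hsub (Set.toFinite _)
  rw [← Nat.card_coe_set_eq (MulAction.orbit K x), hj] at hle
  have hpj : p ≤ p ^ j := Nat.le_self_pow hj0 p
  refine ⟨n, hn, by omega, fun hle' u hu hu1 v hv hv1 => ?_⟩
  have heq : MulAction.orbit K x = T := Set.eq_of_subset_of_ncard_le hsub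
    (by rw [← Nat.card_coe_set_eq (MulAction.orbit K x), hj]; omega) (Set.toFinite _)
  have hu' : u ∈ MulAction.orbit K x := heq ▸ (⟨hu, hu1⟩ : u ∈ T)
  have hv' : v ∈ MulAction.orbit K u := by
    rw [MulAction.orbit_eq_iff.2 hu', heq]
    exact ⟨hv, hv1⟩
  obtain ⟨⟨c, hc⟩, hcv⟩ := hv'
  obtain ⟨i, rfl⟩ := mem_zpowers_iff.1 hc
  refine ⟨i, ?_⟩
  rw [← ConjAct.toConjAct_smul, map_zpow]
  exact hcv

/-- Small `q`-subgroups are centralized by the `p`-elements normalizing them. -/
theorem mem_centralizer_of_small [Fact p.Prime] [Fact q.Prime] {V : Subgroup G} (hV : IsPGroup q V)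
    (hsmall : Nat.card V < p + 1) {g : G} (hg : g ∈ normalizer (V : Set G))
    (hgp : ∃ k : ℕ, orderOf g = p ^ k) : g ∈ centralizer (V : Set G) := by
  by_contra hc
  obtain ⟨n, hn, hle, -⟩ := act hV hg hgp hc
  omega

/-- Without actions: a normal Sylow `p`-subgroup and no further primes. -/
theorem of_control [Fact p.Prime] [Fact q.Prime] (hm : Mix q p G) (hpq : p ≠ q)
    (hc : Control q p G) (hq : q ∣ Nat.card G) :
    (∀ r : ℕ, r.Prime → r ∣ Nat.card G → r = p ∨ r = q) ∧
      ∀ P : Sylow p G, (P : Subgroup G).Normal := by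
  have hp : p.Prime := Fact.out
  have hq' : q.Prime := Fact.out
  obtain ⟨Q₀⟩ := (inferInstance : Nonempty (Sylow q G))
  have hN : HasNormalPComplement q G := by
    refine Transfer.hasNormalPComplement_of_normalizer_centralizer Q₀ fun V hV hV0 g hg hgq => ?_
    have hVq : IsPGroup q V := Q₀.isPGroup'.to_le hV
    let C : Subgroup (zpowers g) := (centralizer (V : Set G)).subgroupOf (zpowers g)
    have hC : C = ⊤ := by
      refine Transfer.eq_top_of_prime_pow_orderOf_mem fun s hs h ⟨k, hk⟩ => ?_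
      have hhN : (h : G) ∈ normalizer (V : Set G) := zpowers_le.2 hg h.2
      show (h : G) ∈ centralizer (V : Set G)
      rcases Nat.eq_zero_or_pos k with h0 | h0
      · rw [h0, pow_zero, orderOf_eq_one_iff] at hk
        rw [hk]; exact one_mem _
      have hsq : s ≠ q := by
        intro h'
        subst h'
        have hd : orderOf h ∣ orderOf g := by
          have := orderOf_dvd_natCard h
          rwa [Nat.card_zpowers] at this
        exact hs.ne_one (Nat.eq_one_of_dvd_coprimes hgq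
          ((hk ▸ dvd_pow_self s h0.ne' : s ∣ orderOf h).trans hd) dvd_rfl)
      by_cases hsp : s = p
      · exact hc V hVq _ hhN ⟨k, by rw [Subgroup.orderOf_coe, hk, hsp]⟩
      · haveI := Fact.mk hs
        have hR := noNorm hm hpq hsp hsq hVq hV0 (R := zpowers (h : G))
          (IsPGroup.of_card (n := k) (by rw [Nat.card_zpowers, Subgroup.orderOf_coe, hk]))
          (Or.inl (zpowers_le.2 hhN))
        have : (h : G) = 1 := by
          rw [← mem_bot, ← hR]; exact mem_zpowers _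
        rw [this]; exact one_mem _
    exact show (⟨g, mem_zpowers g⟩ : zpowers g) ∈ C from hC ▸ mem_top _
  obtain ⟨Q, K, hKn, hKc⟩ := hN
  haveI := hKn
  have hcop : (Nat.card Q).Coprime (Nat.card K) := by
    have h := Q.card_coprime_index
    rwa [hKc.index_eq_card] at h
  have hQ0 : (Q : Subgroup G) ≠ ⊥ := fun h => by
    have := Q.dvd_card_of_dvd_card hq
    rw [h, card_bot, Nat.dvd_one] at this
    exact hq'.ne_one this
  have hKp : ∀ r : ℕ, r.Prime → r ∣ Nat.card K → r = p := by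
    intro r hr hd
    by_contra hrp
    haveI := Fact.mk hr
    have hrq : r ≠ q := by
      rintro rfl
      exact hr.ne_one (Nat.eq_one_of_dvd_coprimes hcop
        ((Q.dvd_card_of_dvd_card hq)) hd)
    obtain ⟨R, hR⟩ := Coprime.exists_invariant_sylow (Q : Subgroup G) K
      (by rw [normalizer_eq_top]; exact le_top) hcop
      (Or.inl (haveI := Q.isPGroup'.isNilpotent; inferInstance)) r
    have h0 := noNorm hm hpq hrp hrq Q.isPGroup' hQ0 (R.isPGroup'.map K.subtype) (Or.inr hR)
    rw [map_eq_bot_iff_of_injective _ K.subtype_injective] at h0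
    have := R.dvd_card_of_dvd_card hd
    rw [h0, card_bot, Nat.dvd_one] at this
    exact hr.ne_one this
  refine ⟨fun r hr hd => ?_, fun P => ?_⟩
  · rw [← hKc.card_mul_card] at hd
    rcases hr.dvd_mul.1 hd with h | h
    · exact Or.inl (hKp r hr h)
    · obtain ⟨a, ha⟩ := IsPGroup.iff_card.1 Q.isPGroup'
      rw [ha] at h
      exact Or.inr ((Nat.prime_dvd_prime_iff_eq hr hq').1 (hr.dvd_of_dvd_pow h))
  · have hKg : IsPGroup p K :=
      IsPGroup.of_card (n := _) (Nat.eq_prime_pow_of_unique_prime_dvd Nat.card_pos.ne'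
        fun {r} hr hd => hKp r hr hd)
    have hKP : K ≤ (P : Subgroup G) := hKg.le_sylow_of_normal P
    obtain ⟨a, ha⟩ := IsPGroup.iff_card.1 Q.isPGroup'
    obtain ⟨b, hb⟩ := IsPGroup.iff_card.1 P.isPGroup'
    have hd : Nat.card P ∣ Nat.card K := by
      have h1 := card_subgroup_dvd_card (P : Subgroup G)
      rw [← hKc.card_mul_card, ha] at h1
      refine Nat.Coprime.dvd_of_dvd_mul_right ?_ h1
      rw [hb]
      exact Nat.Coprime.pow _ _ ((Nat.coprime_primes hp hq').2 hpq)
    rw [← eq_of_le_of_card_ge hKP (Nat.le_of_dvd Nat.card_pos hd)]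
    exact hKn

end Cfsg.Agent.FGS76.Mix
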