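import Cfsg.Agent.FGS76.MixSetup

/-!
The minimal counterexample: centralizers of involutions.
-/

set_option autoImplicit false

namespace Cfsg.Agent.FGS76.Mix.Bad

open Subgroup

universe u

variable {p : ℕ} {G : Type u} [Group G] [Finite G] [hpf : Fact p.Prime]

theorem sylow_le_centralizer (h : Bad p G) (P : Sylow p G) {x : G} (hx : x ∈ (P : Subgroup G)) :
    (P : Subgroup G) ≤ centralizer ({x} : Set G) :=
  fun _ hy => mem_centralizer_singleton_iff.2 (h.comm_p P.isPGroup' hy hx)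

theorem two_mem_of_normalizer (Q : Sylow 2 G) {v : G} (hv : orderOf v = 2)
    (hN : v ∈ normalizer ((Q : Subgroup G) : Set G)) : v ∈ (Q : Subgroup G) :=
  mem_of_normalizer_sylow Q hN ⟨1, by rw [hv, pow_one]⟩

/-- A Sylow `p`- and a Sylow `2`-subgroup normalizing each other commute. -/
theorem commute_of_normalizers (h : Bad p G) (P : Sylow p G) (Q : Sylow 2 G)
    {x v : G} (hx : x ∈ (P : Subgroup G)) (hxQ : x ∈ normalizer ((Q : Subgroup G) : Set G))
    (hv : v ∈ (Q : Subgroup G)) (hvP : v ∈ normalizer ((P : Subgroup G) : Set G)) :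
    x * v = v * x := by
  have h1 : x * v * x⁻¹ * v⁻¹ ∈ (P : Subgroup G) := by
    have := mul_mem hx ((mem_normalizer_iff.1 hvP _).1 (inv_mem hx))
    rwa [show x * (v * x⁻¹ * v⁻¹) = x * v * x⁻¹ * v⁻¹ by group] at this
  have h2 : x * v * x⁻¹ * v⁻¹ ∈ (Q : Subgroup G) :=
    mul_mem ((mem_normalizer_iff.1 hxQ _).1 hv) (inv_mem hv)
  have h3 : x * v * x⁻¹ * v⁻¹ = 1 := by
    rw [← mem_bot, ← (IsPGroup.disjoint_of_ne p 2 h.ne_two (P : Subgroup G) Q P.isPGroup'
      Q.isPGroup').eq_bot]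
    exact ⟨h1, h2⟩
  rw [mul_inv_eq_one, mul_inv_eq_iff_eq_mul] at h3
  exact h3

/-- A subgroup of even order with primes `p`, `2` is generated by a Sylow `p`- and a full `2`-subgroup. -/
theorem sup_eq_top (h : Bad p G) {L : Subgroup G} (hL : L ≠ ⊤) (h2 : 2 ∣ Nat.card L)
    (R : Sylow p L) (Q : Sylow 2 G) (hQ : (Q : Subgroup G) ≤ L) :
    (R : Subgroup L) ⊔ (Q : Subgroup G).subgroupOf L = ⊤ := by
  set S : Subgroup L := (R : Subgroup L) ⊔ (Q : Subgroup G).subgroupOf L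
  refine Subgroup.eq_top_of_card_eq S (Nat.dvd_antisymm (card_subgroup_dvd_card S) ?_)
  rw [Nat.dvd_iff_prime_pow_dvd_dvd]
  intro r k hr hk
  rcases Nat.eq_zero_or_pos k with hk0 | hk0
  · rw [hk0, pow_zero]; exact one_dvd _
  rcases h.ih L hL h2 r hr ((dvd_pow_self r hk0.ne').trans hk) with e | e
  · subst e
    exact (R.pow_dvd_card_of_pow_dvd_card hk).trans (card_dvd_of_le le_sup_left)
  · subst e
    have h1 := Q.pow_dvd_card_of_pow_dvd_card (hk.trans (card_subgroup_dvd_card L))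
    rw [← Nat.card_congr (subgroupOfEquivOfLe hQ).toEquiv] at h1
    exact h1.trans (card_dvd_of_le le_sup_right)

/-- The centralizer of an involution has a normal Sylow `p`-subgroup. -/
theorem centralizer_normal (h : Bad p G) {t : G} (ht : orderOf t = 2)
    (R : Sylow p (centralizer ({t} : Set G))) : (R : Subgroup (centralizer ({t} : Set G))).Normal := by
  revert R
  set L := centralizer ({t} : Set G) with hLdef
  intro R
  have hL : L ≠ ⊤ := h.centralizer_ne_top (Involution.ne_one_of_orderOf ht)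
  have htL : t ∈ L := mem_centralizer_singleton_iff.2 rfl
  have h2 := two_dvd_of_mem ht htL
  rcases h.dichotomy hL h2 R with hn | ⟨Q, hQL, hLQ⟩
  · exact hn
  have htQ : t ∈ (Q : Subgroup G) := two_mem_of_normalizer Q ht (hLQ htL)
  have hRQ : ∀ x ∈ (R : Subgroup L), (x : G) ∈ centralizer ((Q : Subgroup G) : Set G) := by
    intro x hx
    obtain ⟨k, hk⟩ := IsPGroup.iff_orderOf.mp R.isPGroup' ⟨x, hx⟩
    exact h.fixed Q (hLQ x.2) ⟨k, by rw [Subgroup.orderOf_coe]; rwa [Subgroup.orderOf_mk] at hk⟩ htQ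
      (Involution.ne_one_of_orderOf ht) (mem_centralizer_singleton_iff.1 x.2)
  rw [← normalizer_eq_top_iff, eq_top_iff, ← h.sup_eq_top hL h2 R Q hQL]
  refine sup_le le_normalizer fun v hv => ?_
  refine centralizer_le_normalizer _ ?_
  exact mem_centralizer_iff.2 fun x hx => Subtype.ext
    (mem_centralizer_iff.1 (hRQ x hx) v (mem_subgroupOf.1 hv)).symm

/-- The normal Sylow `p`-subgroup `W t` of the centralizer of an involution. -/
theorem exists_W (h : Bad p G) {t : G} (ht : orderOf t = 2) :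
    ∃ W : Subgroup G, IsPGroup p W ∧ W ≤ centralizer ({t} : Set G) ∧
      (∀ x, x * t = t * x → (∃ k, orderOf x = p ^ k) → x ∈ W) ∧
      ∀ g, g * t = t * g → ∀ w ∈ W, g * w * g⁻¹ ∈ W := by
  obtain ⟨R⟩ := (inferInstance : Nonempty (Sylow p (centralizer ({t} : Set G))))
  haveI := h.centralizer_normal ht R
  refine ⟨(R : Subgroup (centralizer ({t} : Set G))).map (Subgroup.subtype _), R.isPGroup'.map _,
    map_subtype_le _, fun x hx ⟨k, hk⟩ => ?_, fun g hg w hw => ?_⟩
  · exact ⟨⟨x, mem_centralizer_singleton_iff.2 hx⟩,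
      mem_of_normal_sylow R ⟨k, by rw [Subgroup.orderOf_mk]; exact hk⟩, rfl⟩
  · obtain ⟨w', hw', rfl⟩ := hw
    exact ⟨⟨g, mem_centralizer_singleton_iff.2 hg⟩ * w' * (⟨g, mem_centralizer_singleton_iff.2 hg⟩)⁻¹,
      Subgroup.Normal.conj_mem inferInstance w' hw' _, rfl⟩

theorem orderOf_of_mem {R : Subgroup G} (hR : IsPGroup p R) {x : G} (hx : x ∈ R) :
    ∃ k, orderOf x = p ^ k := by
  obtain ⟨k, hk⟩ := IsPGroup.iff_orderOf.mp hR ⟨x, hx⟩
  exact ⟨k, by rwa [Subgroup.orderOf_mk] at hk⟩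

theorem eq_one_of_sq (h : Bad p G) {R : Subgroup G} (hR : IsPGroup p R) {x : G} (hx : x ∈ R)
    (h2 : x * x = 1) : x = 1 := by
  obtain ⟨k, hk⟩ := orderOf_of_mem hR hx
  rcases (Nat.dvd_prime Nat.prime_two).1
    (orderOf_dvd_of_pow_eq_one (show x ^ 2 = 1 by rw [pow_two, h2])) with h3 | h3
  · exact orderOf_eq_one_iff.1 h3
  · exact absurd ((Nat.prime_dvd_prime_iff_eq Nat.prime_two hpf.out).1
      (Nat.prime_two.dvd_of_dvd_pow (show 2 ∣ p ^ k by rw [← hk, h3]))).symm h.ne_two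

theorem inv_conj {v x : G} (hv : orderOf v = 2) : v * (v * x * v⁻¹) * v⁻¹ = x := by
  rw [Involution.inv_of_orderOf hv]
  calc v * (v * x * v) * v = (v * v) * x * (v * v) := by group
    _ = x := by rw [Involution.mul_self_of_orderOf hv, one_mul, mul_one]

/-- In a Sylow `p`-subgroup normalized by an involution: a fixed point or inversion. -/
theorem fixed_or_inverted (h : Bad p G) (P : Sylow p G) {v x : G} (hv : orderOf v = 2)
    (hN : v ∈ normalizer ((P : Subgroup G) : Set G)) (hx : x ∈ (P : Subgroup G)) :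
    (x * (v * x * v⁻¹) ∈ (P : Subgroup G) ∧
      v * (x * (v * x * v⁻¹)) = (x * (v * x * v⁻¹)) * v) ∧
    (x * (v * x * v⁻¹) = 1 → v * x * v⁻¹ = x⁻¹) := by
  have hc : v * x * v⁻¹ ∈ (P : Subgroup G) := (mem_normalizer_iff.1 hN x).1 hx
  refine ⟨⟨mul_mem hx hc, ?_⟩, fun e => eq_inv_of_mul_eq_one_right e⟩
  rw [← mul_inv_eq_iff_eq_mul]
  calc v * (x * (v * x * v⁻¹)) * v⁻¹ = (v * x * v⁻¹) * (v * (v * x * v⁻¹) * v⁻¹) := by group
    _ = (v * x * v⁻¹) * x := by rw [inv_conj hv]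
    _ = x * (v * x * v⁻¹) := h.comm_p P.isPGroup' hc hx

/-- The centralizers of nontrivial `p`-elements commuting with involutions normalize the Sylow
`p`-subgroups containing them. -/
theorem centralizer_le (h : Bad p G) {y t : G} (P : Sylow p G) (hy1 : y ≠ 1)
    (hyP : y ∈ (P : Subgroup G)) (ht : orderOf t = 2) (hty : y * t = t * y) :
    centralizer ({y} : Set G) ≤ normalizer ((P : Subgroup G) : Set G) := by
  by_contra hbad
  have hPy : (P : Subgroup G) ≤ centralizer ({y} : Set G) := h.sylow_le_centralizer P hyP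
  rcases h.dichotomy_le (h.centralizer_ne_top hy1) ht
    (mem_centralizer_singleton_iff.2 hty.symm) P hPy with hn | ⟨Q, hQy, hyQ⟩
  · exact hbad hn
  have htQ : t ∈ (Q : Subgroup G) :=
    two_mem_of_normalizer Q ht (hyQ (mem_centralizer_singleton_iff.2 hty.symm))
  have hPQ : (P : Subgroup G) ≤ normalizer ((Q : Subgroup G) : Set G) := hPy.trans hyQ
  -- `P` does not centralize `Q`
  have hnc : ¬ (P : Subgroup G) ≤ centralizer ((Q : Subgroup G) : Set G) := by
    intro hc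
    apply hbad
    intro g hg
    have hL := h.centralizer_ne_top hy1
    have h2 := two_dvd_of_mem ht (mem_centralizer_singleton_iff.2 hty.symm :
      t ∈ centralizer ({y} : Set G))
    have htop := h.sup_eq_top hL h2 (P.subtype hPy) Q hQy
    have hle : (⊤ : Subgroup (centralizer ({y} : Set G))) ≤
        (normalizer ((P : Subgroup G) : Set G)).subgroupOf (centralizer ({y} : Set G)) := by
      rw [← htop]
      refine sup_le (fun a ha => mem_subgroupOf.2 (le_normalizer (mem_subgroupOf.1 ha))) ?_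
      intro a ha
      refine mem_subgroupOf.2 (centralizer_le_normalizer _ ?_)
      exact mem_centralizer_iff.2 fun b hb =>
        (mem_centralizer_iff.1 (hc hb) a (mem_subgroupOf.1 ha)).symm
    exact mem_subgroupOf.1 (hle (mem_top ⟨g, hg⟩))
  -- fixed points of `P` on `Q`
  have hfix : ∀ x ∈ (P : Subgroup G), ∀ v ∈ (Q : Subgroup G), v ≠ 1 → x * v = v * x →
      x ∈ centralizer ((Q : Subgroup G) : Set G) := fun x hx v hv hv1 hc =>
    h.fixed Q (hPQ hx) (orderOf_of_mem P.isPGroup' hx) hv hv1 hc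
  -- an involution in `N(P)`
  obtain ⟨v, hv, hvP⟩ : ∃ v : G, orderOf v = 2 ∧ v ∈ normalizer ((P : Subgroup G) : Set G) := by
    obtain ⟨s₀, t₀, hs₀, ht₀, hne⟩ := h.exists_not_comm
    obtain ⟨x, hxo, hsx, -, -⟩ := h.exists_inverted_of_not_comm hs₀ ht₀ hne
    obtain ⟨P₁, hP₁⟩ := (IsPGroup.of_card (n := 1)
      (by rw [Nat.card_zpowers, hxo, pow_one] : Nat.card (zpowers x) = p ^ 1)).exists_le_sylow
    have hs₁ := h.inv_normalizes hs₀ (fun e => by rw [e, orderOf_one] at hxo; exact hpf.out.ne_one hxo.symm)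
      hsx P₁ (hP₁ (mem_zpowers x))
    obtain ⟨g, rfl⟩ := MulAction.exists_smul_eq G P₁ P
    refine ⟨MulAut.conj g s₀, by rw [MulEquiv.orderOf_eq, hs₀], ?_⟩
    rw [Sylow.coe_subgroup_smul]
    exact le_normalizer_map _ ⟨s₀, hs₁, rfl⟩
  -- `v` is not in `N(Q)`
  have hvQ : v ∉ normalizer ((Q : Subgroup G) : Set G) := by
    intro hN
    have hvQ := two_mem_of_normalizer Q hv hN
    exact hnc fun x hx => hfix x hx v hvQ (Involution.ne_one_of_orderOf hv)
      (h.commute_of_normalizers P Q hx (hPQ hx) hvQ hvP)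
  have hcy : ∀ {g : G}, (g * y * g⁻¹ = y ∨ g * y * g⁻¹ = y⁻¹) →
      g ∈ normalizer ((Q : Subgroup G) : Set G) := by
    intro g hg
    refine mem_normalizer_iff_map_conj_eq.2 (eq_of_le_of_card_ge ?_
      (card_map_of_injective (MulAut.conj g).injective).ge)
    rintro _ ⟨q, hq, rfl⟩
    have hgq : g * q * g⁻¹ ∈ centralizer ({y} : Set G) := by
      have h1 : q * y = y * q := mem_centralizer_singleton_iff.1 (hQy hq)
      have h2 : g * q * g⁻¹ * (g * y * g⁻¹) = g * y * g⁻¹ * (g * q * g⁻¹) := by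
        calc g * q * g⁻¹ * (g * y * g⁻¹) = g * (q * y) * g⁻¹ := by group
          _ = g * (y * q) * g⁻¹ := by rw [h1]
          _ = g * y * g⁻¹ * (g * q * g⁻¹) := by group
      rw [mem_centralizer_singleton_iff]
      rcases hg with e | e
      · rwa [e] at h2
      · rw [e] at h2
        exact (Commute.inv_right_iff.1 h2)
    refine mem_of_normalizer_sylow Q (hyQ hgq) ?_
    obtain ⟨k, hk⟩ := orderOf_of_mem Q.isPGroup' hq
    exact ⟨k, (MulEquiv.orderOf_eq (MulAut.conj g) q).trans hk⟩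
  -- a nontrivial fixed point of `v` on `P`
  obtain ⟨z, hzP, hz1, hzv⟩ : ∃ z ∈ (P : Subgroup G), z ≠ 1 ∧ v * z = z * v := by
    obtain ⟨⟨h1, h2⟩, h3⟩ := h.fixed_or_inverted P hv hvP hyP
    by_cases e : y * (v * y * v⁻¹) = 1
    · exact absurd (hcy (Or.inr (h3 e))) hvQ
    · exact ⟨_, h1, e, h2⟩
  -- a conjugate configuration at `v`
  obtain ⟨h0, hh0⟩ := h.conj_inv ht hv
  set Qv := h0 • Q with hQv
  have hvQv : v ∈ (Qv : Subgroup G) := by
    rw [hQv, Sylow.coe_subgroup_smul]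
    exact ⟨t, htQ, hh0⟩
  set y3 := h0 * y * h0⁻¹ with hy3
  have hy3Q : ∀ g : G, g * y3 = y3 * g → g ∈ normalizer ((Qv : Subgroup G) : Set G) := by
    intro g hg
    have hN := hyQ (mem_centralizer_singleton_iff.2 (show h0⁻¹ * g * h0 * y = y * (h0⁻¹ * g * h0) by
      calc h0⁻¹ * g * h0 * y = h0⁻¹ * (g * y3) * h0 := by rw [hy3]; group
        _ = h0⁻¹ * (y3 * g) * h0 := by rw [hg]
        _ = y * (h0⁻¹ * g * h0) := by rw [hy3]; group))
    rw [hQv, Sylow.coe_subgroup_smul]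
    exact le_normalizer_map _ ⟨_, hN, show h0 * (h0⁻¹ * g * h0) * h0⁻¹ = g by group⟩
  obtain ⟨W, hW, hWc, hWmem, -⟩ := h.exists_W hv
  have hy3v : y3 * v = v * y3 := by
    rw [hy3, ← hh0]
    calc h0 * y * h0⁻¹ * (h0 * t * h0⁻¹) = h0 * (y * t) * h0⁻¹ := by group
      _ = h0 * (t * y) * h0⁻¹ := by rw [hty]
      _ = h0 * t * h0⁻¹ * (h0 * y * h0⁻¹) := by group
  have hy3W : y3 ∈ W := hWmem _ hy3v (by
    obtain ⟨k, hk⟩ := orderOf_of_mem P.isPGroup' hyP
    exact ⟨k, by rw [hy3, show h0 * y * h0⁻¹ = MulAut.conj h0 y from rfl, MulEquiv.orderOf_eq, hk]⟩)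
  -- fixed points of `v` in `P` are fixed by all of `Qv`
  have hallfix : ∀ z' ∈ (P : Subgroup G), v * z' = z' * v →
      ∀ u ∈ (Qv : Subgroup G), u * z' = z' * u := by
    intro z' hz' hz'v u hu
    have hz'W : z' ∈ W := hWmem _ hz'v.symm (orderOf_of_mem P.isPGroup' hz')
    have hN := hy3Q z' (h.comm_p hW hz'W hy3W)
    exact mem_centralizer_iff.1 (h.fixed Qv hN (orderOf_of_mem P.isPGroup' hz') hvQv
      (Involution.ne_one_of_orderOf hv) hz'v.symm) u hu
  -- `Qv` normalizes `P`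
  have hCz : centralizer ({z} : Set G) ≤ normalizer ((P : Subgroup G) : Set G) := by
    rcases h.dichotomy_le (h.centralizer_ne_top hz1) hv
      (mem_centralizer_singleton_iff.2 hzv) P (h.sylow_le_centralizer P hzP) with hn | ⟨Q', hQ', hQ'N⟩
    · exact hn
    exfalso
    have hvQ' := two_mem_of_normalizer Q' hv (hQ'N (mem_centralizer_singleton_iff.2 hzv))
    have hvc : ∀ x ∈ (P : Subgroup G), x * v = v * x := fun x hx =>
      h.commute_of_normalizers P Q' hx (hQ'N (h.sylow_le_centralizer P hzP hx)) hvQ' hvP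
    exact hvQ (hcy (Or.inl (by rw [← hvc y hyP, mul_inv_cancel_right])))
  have hQvP : (Qv : Subgroup G) ≤ normalizer ((P : Subgroup G) : Set G) := fun u hu =>
    hCz (mem_centralizer_singleton_iff.2 (hallfix z hzP hzv u hu))
  obtain ⟨u, hu, hu1, huv⟩ : ∃ u ∈ (Qv : Subgroup G), u ≠ 1 ∧ u ≠ v := by
    by_contra hcon
    push Not at hcon
    have hle : (Qv : Subgroup G) ≤ zpowers v := fun u hu => by
      by_cases h1 : u = 1
      · rw [h1]; exact one_mem _
      · rw [hcon u hu h1]; exact mem_zpowers v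
    have := card_le_of_le hle
    rw [h.card_sylow, Nat.card_zpowers, hv] at this
    have := h.three_le
    omega
  have hu2 := h.orderOf_two Qv hu hu1
  have huvc := h.comm_two Qv hu hvQv
  -- fixed points of `u` and `u * v` are fixed by `v`
  have hfixall : ∀ w ∈ (Qv : Subgroup G), w ≠ 1 → ∀ x ∈ (P : Subgroup G), w * x = x * w →
      v * x = x * v := by
    intro w hw hw1 x hx hwx
    by_cases hx1 : x = 1
    · rw [hx1, mul_one, one_mul]
    have hw2 := h.orderOf_two Qv hw hw1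
    obtain ⟨g, hg⟩ := h.conj_inv ht hw2
    obtain ⟨W', hW', -, hW'mem, -⟩ := h.exists_W hw2
    have hy3w : y3 * w = w * y3 :=
      (mem_centralizer_iff.1 (h.fixed Qv (hy3Q _ rfl) (orderOf_of_mem hW hy3W) hvQv
        (Involution.ne_one_of_orderOf hv) hy3v) w hw).symm
    have h3 : y3 ∈ W' := hW'mem _ hy3w (orderOf_of_mem hW hy3W)
    have hxW : x ∈ W' := hW'mem _ hwx.symm (orderOf_of_mem P.isPGroup' hx)
    have hN := hy3Q x (h.comm_p hW' hxW h3)
    exact (mem_centralizer_iff.1 (h.fixed Qv hN (orderOf_of_mem P.isPGroup' hx) hw hw1 hwx.symm) v hvQv)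
  -- an element inverted by `v`
  obtain ⟨x, hxP, hx1, hxv⟩ : ∃ x ∈ (P : Subgroup G), x ≠ 1 ∧ v * x * v⁻¹ = x⁻¹ := by
    have hc : v * y * v⁻¹ ∈ (P : Subgroup G) := (mem_normalizer_iff.1 hvP y).1 hyP
    refine ⟨y * (v * y * v⁻¹)⁻¹, mul_mem hyP (inv_mem hc), ?_, ?_⟩
    · intro e
      rw [mul_inv_eq_one] at e
      exact hvQ (hcy (Or.inl e.symm))
    · calc v * (y * (v * y * v⁻¹)⁻¹) * v⁻¹
          = (v * y * v⁻¹) * (v * (v * y * v⁻¹) * v⁻¹)⁻¹ := by group
        _ = (v * y * v⁻¹) * y⁻¹ := by rw [inv_conj hv]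
        _ = (y * (v * y * v⁻¹)⁻¹)⁻¹ := by group
  have hux : u * x * u⁻¹ = x⁻¹ := by
    obtain ⟨⟨h1, h2⟩, h3⟩ := h.fixed_or_inverted P hu2 (hQvP hu) hxP
    refine h3 ?_
    have hfx := hfixall u hu hu1 _ h1 h2
    have hinv : v * (x * (u * x * u⁻¹)) * v⁻¹ = (x * (u * x * u⁻¹))⁻¹ := by
      have hcu : v * u = u * v := huvc.symm
      have e : v * (u * x * u⁻¹) * v⁻¹ = (u * x * u⁻¹)⁻¹ := by
        calc v * (u * x * u⁻¹) * v⁻¹ = (v * u) * x * (v * u)⁻¹ := by group
          _ = (u * v) * x * (u * v)⁻¹ := by rw [hcu]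
          _ = u * (v * x * v⁻¹) * u⁻¹ := by group
          _ = (u * x * u⁻¹)⁻¹ := by rw [hxv]; group
      have hcc := h.comm_p P.isPGroup' hxP ((mem_normalizer_iff.1 (hQvP hu) x).1 hxP)
      calc v * (x * (u * x * u⁻¹)) * v⁻¹ = (v * x * v⁻¹) * (v * (u * x * u⁻¹) * v⁻¹) := by group
        _ = x⁻¹ * (u * x * u⁻¹)⁻¹ := by rw [hxv, e]
        _ = ((u * x * u⁻¹) * x)⁻¹ := by group
        _ = (x * (u * x * u⁻¹))⁻¹ := by rw [hcc]
    rw [hfx, mul_inv_cancel_right, eq_inv_iff_mul_eq_one] at hinv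
    exact h.eq_one_of_sq P.isPGroup' h1 hinv
  have huv1 : u * v ≠ 1 := fun e => huv (by
    rw [mul_eq_one_iff_eq_inv, Involution.inv_of_orderOf hv] at e; exact e)
  have hfx := hfixall (u * v) (mul_mem hu hvQv) huv1 x hxP (by
    rw [← mul_inv_eq_iff_eq_mul]
    calc u * v * x * (u * v)⁻¹ = u * (v * x * v⁻¹) * u⁻¹ := by group
      _ = (u * x * u⁻¹)⁻¹ := by rw [hxv]; group
      _ = x := by rw [hux, inv_inv])
  rw [hfx, mul_inv_cancel_right, eq_inv_iff_mul_eq_one] at hxv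
  exact hx1 (h.eq_one_of_sq P.isPGroup' hxP hxv)

/-- An element inverted or fixed by every involution of a finite set acting on an abelian group. -/
theorem exists_eigen (h : Bad p G) (P : Sylow p G) (Q : Sylow 2 G) {W : Subgroup G}
    (hWP : W ≤ (P : Subgroup G)) (hW : W ≠ ⊥)
    (hQW : ∀ u ∈ (Q : Subgroup G), ∀ w ∈ W, u * w * u⁻¹ ∈ W) :
    ∃ y ∈ W, y ≠ 1 ∧ ∀ u ∈ (Q : Subgroup G), u * y * u⁻¹ = y ∨ u * y * u⁻¹ = y⁻¹ := by
  classical
  haveI : Fintype G := Fintype.ofFinite G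
  suffices key : ∀ S : Finset G, (∀ u ∈ S, u ∈ (Q : Subgroup G)) →
      ∃ y ∈ W, y ≠ 1 ∧ ∀ u ∈ S, u * y * u⁻¹ = y ∨ u * y * u⁻¹ = y⁻¹ by
    obtain ⟨y, h1, h2, h3⟩ := key (Finset.univ.filter (· ∈ (Q : Subgroup G))) (by simp)
    exact ⟨y, h1, h2, fun u hu => h3 u (by simp [hu])⟩
  intro S
  induction S using Finset.induction_on with
  | empty =>
    intro _
    obtain ⟨y, hy, hy1⟩ := (Subgroup.bot_or_exists_ne_one W).resolve_left hW
    exact ⟨y, hy, hy1, by simp⟩
  | insert a S ha ih =>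
    intro hS
    obtain ⟨y, hy, hy1, hyS⟩ := ih fun u hu => hS u (Finset.mem_insert_of_mem hu)
    have haQ := hS a (Finset.mem_insert_self a S)
    have haa : a * a = 1 := h.sq_eq Q haQ
    have hay := hQW a haQ y hy
    by_cases e : y * (a * y * a⁻¹) = 1
    · refine ⟨y, hy, hy1, fun u hu => ?_⟩
      rcases Finset.mem_insert.1 hu with rfl | hu
      · exact Or.inr (eq_inv_of_mul_eq_one_right e)
      · exact hyS u hu
    refine ⟨_, mul_mem hy hay, e, fun u hu => ?_⟩
    have hpc : y * (a * y * a⁻¹) = (a * y * a⁻¹) * y := h.comm_p P.isPGroup' (hWP hy) (hWP hay)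
    rcases Finset.mem_insert.1 hu with rfl | hu
    · left
      have hu' : u⁻¹ = u := inv_eq_of_mul_eq_one_right haa
      calc u * (y * (u * y * u⁻¹)) * u⁻¹ = (u * y * u⁻¹) * ((u * u) * y * (u * u)⁻¹) := by group
        _ = (u * y * u⁻¹) * y := by rw [haa, inv_one, mul_one, one_mul]
        _ = y * (u * y * u⁻¹) := hpc.symm
    · have hua : u * a = a * u := h.comm_two Q (hS u (Finset.mem_insert_of_mem hu)) haQ
      have e2 : u * (y * (a * y * a⁻¹)) * u⁻¹ = (u * y * u⁻¹) * (a * (u * y * u⁻¹) * a⁻¹) := by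
        calc u * (y * (a * y * a⁻¹)) * u⁻¹ = (u * y * u⁻¹) * ((u * a) * y * (u * a)⁻¹) := by group
          _ = (u * y * u⁻¹) * ((a * u) * y * (a * u)⁻¹) := by rw [hua]
          _ = _ := by group
      rcases hyS u hu with e1 | e1
      · left; rw [e2, e1]
      · right
        rw [e2, e1]
        calc y⁻¹ * (a * y⁻¹ * a⁻¹) = ((a * y * a⁻¹) * y)⁻¹ := by group
          _ = _ := by rw [hpc]

/-- The configuration at an involution commuting with a nontrivial `p`-element. -/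
theorem config (h : Bad p G) {t : G} (ht : orderOf t = 2)
    (hy : ∃ y : G, y ≠ 1 ∧ (∃ k, orderOf y = p ^ k) ∧ y * t = t * y) :
    ∃ (P : Sylow p G) (Q : Sylow 2 G), t ∈ (Q : Subgroup G) ∧ Nat.card Q = 4 ∧
      (P : Subgroup G) ≤ centralizer ({t} : Set G) ∧
      (Q : Subgroup G) ≤ normalizer ((P : Subgroup G) : Set G) ∧
      (∀ u ∈ (Q : Subgroup G), u ≠ 1 → u ≠ t → ∀ x ∈ (P : Subgroup G), u * x * u⁻¹ = x⁻¹) ∧
      (P : Subgroup G) ≠ ⊥ := by
  classical
  obtain ⟨y, hy1, hyo, hyt⟩ := hy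
  obtain ⟨W, hW, hWc, hWmem, hWn⟩ := h.exists_W ht
  obtain ⟨P, hWP⟩ := hW.exists_le_sylow
  have hyW : y ∈ W := hWmem _ hyt hyo
  have hW0 : W ≠ ⊥ := fun e => hy1 (by rw [e] at hyW; exact hyW)
  obtain ⟨Q, htQ, hQc⟩ := h.sylow_two_normalizes_conj ht
  have hQW : ∀ u ∈ (Q : Subgroup G), ∀ w ∈ W, u * w * u⁻¹ ∈ W := fun u hu =>
    hWn u (mem_centralizer_singleton_iff.1 (hQc hu))
  obtain ⟨y1, hy1W, hy11, heig⟩ := h.exists_eigen P Q hWP hW0 hQW
  have hy1t : y1 * t = t * y1 := mem_centralizer_singleton_iff.1 (hWc hy1W)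
  have hCy1 := h.centralizer_le P hy11 (hWP hy1W) ht hy1t
  have hQP : (Q : Subgroup G) ≤ normalizer ((P : Subgroup G) : Set G) := by
    intro u hu
    refine mem_normalizer_iff_map_conj_eq.2 (eq_of_le_of_card_ge ?_
      (card_map_of_injective (MulAut.conj u).injective).ge)
    rintro _ ⟨x, hx, rfl⟩
    have hxy : x * y1 = y1 * x := h.comm_p P.isPGroup' hx (hWP hy1W)
    have hmem : u * x * u⁻¹ ∈ centralizer ({y1} : Set G) := by
      have e : u * x * u⁻¹ * (u * y1 * u⁻¹) = u * y1 * u⁻¹ * (u * x * u⁻¹) := by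
        calc u * x * u⁻¹ * (u * y1 * u⁻¹) = u * (x * y1) * u⁻¹ := by group
          _ = u * (y1 * x) * u⁻¹ := by rw [hxy]
          _ = _ := by group
      rw [mem_centralizer_singleton_iff]
      rcases heig u hu with e1 | e1
      · rwa [e1] at e
      · rw [e1] at e; exact Commute.inv_right_iff.1 e
    refine mem_of_normalizer_sylow P (hCy1 hmem) ?_
    obtain ⟨k, hk⟩ := orderOf_of_mem P.isPGroup' hx
    exact ⟨k, (MulEquiv.orderOf_eq (MulAut.conj u) x).trans hk⟩
  let T : Set G := {u | u ∈ (Q : Subgroup G) ∧ u ≠ 1 ∧ ∃ x ∈ (P : Subgroup G), x ≠ 1 ∧ u * x = x * u}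
  have htT : t ∈ T := ⟨htQ, Involution.ne_one_of_orderOf ht, y1, hWP hy1W, hy11, hy1t.symm⟩
  -- `T` is the singleton of `t`
  have huniq : ∀ u ∈ T, u = t := by
    rintro u ⟨huQ, hu1, x, hxP, hx1, hux⟩
    by_contra hne
    obtain ⟨a, haN, hao, htr⟩ := h.trans Q
    obtain ⟨i, hi⟩ := htr t htQ (Involution.ne_one_of_orderOf ht) u huQ hu1
    set g := a ^ i with hg
    have hgo : ∃ k, orderOf g = p ^ k := by
      obtain ⟨k, hk⟩ := hao
      obtain ⟨j, -, hj⟩ := (Nat.dvd_prime_pow hpf.out).1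
        (hk ▸ (orderOf_dvd_of_mem_zpowers (zpow_mem_zpowers a i)) : orderOf g ∣ p ^ k)
      exact ⟨j, hj⟩
    have hu2 := h.orderOf_two Q huQ hu1
    obtain ⟨W', hW', -, hW'mem, -⟩ := h.exists_W hu2
    have hxW : x ∈ W' := hW'mem _ hux.symm (orderOf_of_mem P.isPGroup' hxP)
    have hW'P : W' ≤ (P : Subgroup G) := fun w hw => mem_of_normalizer_sylow P
      (h.centralizer_le P hx1 hxP hu2 hux.symm (mem_centralizer_singleton_iff.2 (h.comm_p hW' hw hxW)))
      (orderOf_of_mem hW' hw)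
    set z := g * y1 * g⁻¹ with hz
    have hzu : z * u = u * z := by
      rw [hz, ← hi]
      calc g * y1 * g⁻¹ * (g * t * g⁻¹) = g * (y1 * t) * g⁻¹ := by group
        _ = g * (t * y1) * g⁻¹ := by rw [hy1t]
        _ = _ := by group
    have hzo : ∃ k, orderOf z = p ^ k := by
      obtain ⟨k, hk⟩ := orderOf_of_mem P.isPGroup' (hWP hy1W)
      exact ⟨k, by rw [hz, show g * y1 * g⁻¹ = MulAut.conj g y1 from rfl, MulEquiv.orderOf_eq, hk]⟩
    have hz1 : z ≠ 1 := fun e => hy11 (conj_eq_one_iff.1 e)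
    have hzP : z ∈ (P : Subgroup G) := hW'P (hW'mem _ hzu hzo)
    have hgP : g ∈ normalizer ((P : Subgroup G) : Set G) := by
      refine mem_normalizer_iff_map_conj_eq.2 (eq_of_le_of_card_ge ?_
        (card_map_of_injective (MulAut.conj g).injective).ge)
      rintro _ ⟨w, hw, rfl⟩
      refine mem_of_normalizer_sylow P (h.centralizer_le P hz1 hzP hu2 hzu
        (mem_centralizer_singleton_iff.2 ?_)) ?_
      · show g * w * g⁻¹ * z = z * (g * w * g⁻¹)
        rw [hz]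
        calc g * w * g⁻¹ * (g * y1 * g⁻¹) = g * (w * y1) * g⁻¹ := by group
          _ = g * (y1 * w) * g⁻¹ := by rw [h.comm_p P.isPGroup' hw (hWP hy1W)]
          _ = _ := by group
      · obtain ⟨k, hk⟩ := orderOf_of_mem P.isPGroup' hw
        exact ⟨k, (MulEquiv.orderOf_eq (MulAut.conj g) w).trans hk⟩
    have hc := h.commute_of_normalizers P Q (mem_of_normalizer_sylow P hgP hgo)
      (zpow_mem haN i) htQ (hQP htQ)
    exact hne (by rw [← hi, hc, mul_inv_cancel_right])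
  -- the others invert `P`
  have hinv : ∀ u ∈ (Q : Subgroup G), u ≠ 1 → u ≠ t → ∀ x ∈ (P : Subgroup G), u * x * u⁻¹ = x⁻¹ := by
    intro u hu hu1 hut x hx
    obtain ⟨⟨h1, h2⟩, h3⟩ := h.fixed_or_inverted P (h.orderOf_two Q hu hu1) (hQP hu) hx
    refine h3 ?_
    by_contra hne
    exact hut (huniq u ⟨hu, hu1, _, h1, hne, h2⟩)
  have hP0 : (P : Subgroup G) ≠ ⊥ := fun e => hy11 (by
    have := hWP hy1W
    rwa [e, mem_bot] at this)
  obtain ⟨u, huQ, hu1, hut⟩ : ∃ u ∈ (Q : Subgroup G), u ≠ 1 ∧ u ≠ t := by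
    by_contra hcon
    push Not at hcon
    have hle : (Q : Subgroup G) ≤ zpowers t := fun u hu => by
      by_cases h1 : u = 1
      · rw [h1]; exact one_mem _
      · rw [hcon u hu h1]; exact mem_zpowers t
    have := card_le_of_le hle
    rw [h.card_sylow, Nat.card_zpowers, ht] at this
    have := h.three_le
    omega
  -- products of two inverting involutions centralize `P`
  have hprod : ∀ a ∈ (Q : Subgroup G), ∀ b ∈ (Q : Subgroup G), a ≠ 1 → a ≠ t → b ≠ 1 → b ≠ t →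
      ∀ x ∈ (P : Subgroup G), a * b * x = x * (a * b) := by
    intro a ha b hb ha1 hat hb1 hbt x hx
    rw [← mul_inv_eq_iff_eq_mul]
    calc a * b * x * (a * b)⁻¹ = a * (b * x * b⁻¹) * a⁻¹ := by group
      _ = (a * x * a⁻¹)⁻¹ := by rw [hinv b hb hb1 hbt x hx]; group
      _ = x := by rw [hinv a ha ha1 hat x hx, inv_inv]
  have huT : u * t ∈ (Q : Subgroup G) := mul_mem huQ htQ
  have hut1 : u * t ≠ 1 := fun e => hut (by
    rw [mul_eq_one_iff_eq_inv, Involution.inv_of_orderOf ht] at e; exact e)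
  have hutt : u * t ≠ t := fun e => hu1 (mul_eq_right.1 e)
  have hPt : (P : Subgroup G) ≤ centralizer ({t} : Set G) := by
    intro x hx
    have e := hprod u huQ (u * t) huT hu1 hut hut1 hutt x hx
    rw [← mul_assoc, h.sq_eq Q huQ, one_mul] at e
    exact mem_centralizer_singleton_iff.2 e.symm
  have hcardQ : Nat.card Q = 4 := by
    have hsub : ∀ b ∈ (Q : Subgroup G), b = 1 ∨ b = t ∨ b = u ∨ b = u * t := by
      intro b hb
      by_contra hcon
      push Not at hcon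
      obtain ⟨hb1, hbt, hbu, hbut⟩ := hcon
      have hubne : u * b ≠ 1 := fun e => hbu (by
        have : b = u⁻¹ := eq_inv_of_mul_eq_one_right e
        rw [this, Involution.inv_of_orderOf (h.orderOf_two Q huQ hu1)])
      obtain ⟨x, hx, hx1⟩ := (Subgroup.bot_or_exists_ne_one _).resolve_left hP0
      have := huniq (u * b) ⟨mul_mem huQ hb, hubne, x, hx, hx1,
        hprod u huQ b hb hu1 hut hb1 hbt x hx⟩
      refine hbut ?_
      rw [← this, ← mul_assoc, h.sq_eq Q huQ, one_mul]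
    have hs : ((Q : Subgroup G) : Set G) = {1, t, u, u * t} := by
      ext b
      refine ⟨fun hb => ?_, ?_⟩
      · rcases hsub b hb with e | e | e | e <;> simp [e]
      · rintro (rfl | rfl | rfl | rfl)
        exacts [one_mem _, htQ, huQ, huT]
    have ht1 := Involution.ne_one_of_orderOf ht
    show Nat.card ((Q : Subgroup G) : Set G) = 4
    rw [Nat.card_coe_set_eq, hs,
      Set.ncard_insert_of_notMem (by simp [ht1.symm, hu1.symm, hut1.symm]) (Set.toFinite _),
      Set.ncard_insert_of_notMem (by simp [Ne.symm hut, hutt.symm]) (Set.toFinite _),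
      Set.ncard_insert_of_notMem (by
        intro e
        exact ht1 (mul_eq_left.1 (Set.mem_singleton_iff.1 e).symm)) (Set.toFinite _),
      Set.ncard_singleton]
  exact ⟨P, Q, htQ, hcardQ, hPt, hQP, hinv, hP0⟩

end Cfsg.Agent.FGS76.Mix.Bad
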