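import Cfsg.Agent.FGS76.MixCases
import Cfsg.Agent.Lib.Involution.Counting
import Mathlib.LinearAlgebra.Matrix.Charpoly.FiniteField

/-!
The minimal counterexample does not exist: the friendship argument and the involution count.
-/

set_option autoImplicit false

namespace Cfsg.Agent.FGS76.Mix

open Subgroup
open scoped Pointwise

/-- A regular friendship graph of degree at least three does not exist. -/
theorem no_friendship {I : Type*} [Fintype I] [DecidableEq I] [Nonempty I] (E : I → I → Prop)
    [DecidableRel E] (hsymm : ∀ a b, E a b → E b a) (k : ℕ) (hk : 3 ≤ k)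
    (hdeg : ∀ a, (Finset.univ.filter fun b => E a b).card = k)
    (huniq : ∀ a b, a ≠ b → ∃! w, E a w ∧ E b w) (hirr : ∀ a, ¬ E a a) : False := by
  obtain ⟨r, hr, hrk⟩ := Nat.exists_prime_and_dvd (show k - 1 ≠ 1 by omega)
  haveI := Fact.mk hr
  have hk1 : (k : ZMod r) = 1 := by
    rw [← sub_eq_zero, ← Nat.cast_one, ← Nat.cast_sub (by omega : 1 ≤ k),
      ZMod.natCast_eq_zero_iff]
    exact hrk
  set A : Matrix I I (ZMod r) := Matrix.of fun a b => if E a b then 1 else 0 with hA
  have hrow : ∀ a, ∑ b, A a b = 1 := by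
    intro a
    simp only [hA, Matrix.of_apply]
    rw [Finset.sum_boole, hdeg, hk1]
  have hsq : A * A = Matrix.of fun _ _ => 1 := by
    ext a b
    simp only [Matrix.mul_apply, hA, Matrix.of_apply]
    have e : ∀ w, (if E a w then (1 : ZMod r) else 0) * (if E w b then 1 else 0)
        = if E a w ∧ E b w then 1 else 0 := by
      intro w
      by_cases h1 : E a w
      · by_cases h2 : E w b
        · rw [if_pos h1, if_pos h2, if_pos ⟨h1, hsymm _ _ h2⟩, one_mul]
        · rw [if_neg h2, if_neg (fun hh : E a w ∧ E b w => h2 (hsymm _ _ hh.2)), mul_zero]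
      · rw [if_neg h1, if_neg (fun hh : E a w ∧ E b w => h1 hh.1), zero_mul]
    rw [Finset.sum_congr rfl (fun w _ => e w), Finset.sum_boole]
    by_cases hab : a = b
    · subst hab
      rw [show (Finset.univ.filter fun w => E a w ∧ E a w) = Finset.univ.filter fun w => E a w by
        simp, hdeg, hk1]
    · obtain ⟨w, hw, hw'⟩ := huniq a b hab
      rw [show (Finset.univ.filter fun w => E a w ∧ E b w) = {w} by
        ext v
        simp only [Finset.mem_filter, Finset.mem_univ, true_and, Finset.mem_singleton]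
        exact ⟨hw' v, fun e => e ▸ hw⟩, Finset.card_singleton, Nat.cast_one]
  have hAJ : A * (Matrix.of fun _ _ => 1) = Matrix.of fun _ _ => (1 : ZMod r) := by
    ext a b
    simp only [Matrix.mul_apply, Matrix.of_apply, mul_one]
    exact hrow a
  have hpow : ∀ m : ℕ, A ^ (m + 2) = Matrix.of fun _ _ => (1 : ZMod r) := by
    intro m
    induction m with
    | zero => rw [pow_two, hsq]
    | succ m ih => rw [show m + 1 + 2 = (m + 2) + 1 by omega, pow_succ', ih, hAJ]
  obtain ⟨a⟩ := ‹Nonempty I›
  have hn : (Fintype.card I : ZMod r) = 1 := by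
    calc (Fintype.card I : ZMod r) = ∑ b, (A * A) a b := by rw [hsq]; simp
      _ = ∑ b, ∑ w, A a w * A w b := by simp [Matrix.mul_apply]
      _ = ∑ w, A a w * ∑ b, A w b := by rw [Finset.sum_comm]; simp [Finset.mul_sum]
      _ = 1 := by simp [hrow]
  have htr : Matrix.trace A = 0 := by simp [Matrix.trace, hA, hirr]
  have h := ZMod.trace_pow_card A
  have hr2 := hpow (r - 2)
  have e2 : r - 2 + 2 = r := by have := hr.two_le; omega
  rw [e2] at hr2
  rw [hr2, htr, zero_pow hr.ne_zero] at h
  simp [Matrix.trace] at h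
  rw [hn] at h
  exact one_ne_zero h

namespace Bad

universe u

variable {p : ℕ} {G : Type u} [Group G] [Finite G] [hpf : Fact p.Prime]

/-- The normalizer of a subgroup generated by an inverted `p`-element. -/
theorem normalizer_zpowers_le (h : Bad p G) {s x : G} (hs : orderOf s = 2) (hx1 : x ≠ 1)
    (hinv : s * x * s⁻¹ = x⁻¹) (P : Sylow p G) (hxP : x ∈ (P : Subgroup G)) :
    normalizer ((zpowers x : Subgroup G) : Set G) ≤ normalizer ((P : Subgroup G) : Set G) := by
  have hzP : zpowers x ≤ (P : Subgroup G) := zpowers_le.2 hxP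
  have hL := h.normalizer_ne_top (P.isPGroup'.to_le hzP) (by rwa [Ne, zpowers_eq_bot])
  have hsL : s ∈ normalizer ((zpowers x : Subgroup G) : Set G) := by
    refine mem_normalizer_iff_map_conj_eq.2 ?_
    rw [MonoidHom.map_zpowers]
    show zpowers (s * x * s⁻¹) = zpowers x
    rw [hinv, zpowers_inv]
  have hPL : (P : Subgroup G) ≤ normalizer ((zpowers x : Subgroup G) : Set G) := by
    refine le_trans (fun y hy => ?_) (centralizer_le_normalizer _)
    exact mem_centralizer_iff.2 fun z hz => h.comm_p P.isPGroup' (hzP hz) hy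
  rcases h.dichotomy_le hL hs hsL P hPL with hn | ⟨Q, hQL, hLQ⟩
  · exact hn
  exfalso
  have hsQ : s ∈ (Q : Subgroup G) := two_mem_of_normalizer Q hs (hLQ hsL)
  have hc := h.commute_of_normalizers P Q hxP (hLQ (le_normalizer (mem_zpowers x))) hsQ
    (h.inv_normalizes hs hx1 hinv P hxP)
  rw [← hc, mul_inv_cancel_right, eq_inv_iff_mul_eq_one] at hinv
  exact hx1 (h.eq_one_of_sq P.isPGroup' hxP hinv)

theorem prime_le (hp : p.Prime) {x : G} (hx : orderOf x = p) : x ≠ 1 := by
  intro e
  rw [e, orderOf_one] at hx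
  exact hp.ne_one hx.symm

theorem exists_sylow_p {x : G} (hx : orderOf x = p) : ∃ P : Sylow p G, x ∈ (P : Subgroup G) := by
  obtain ⟨P, hP⟩ := (IsPGroup.of_card (n := 1)
    (by rw [Nat.card_zpowers, hx, pow_one] : Nat.card (zpowers x) = p ^ 1)).exists_le_sylow
  exact ⟨P, hP (mem_zpowers x)⟩

/-- No involution commutes with a nontrivial `p`-element. -/
theorem no_commuting (h : Bad p G) {t : G} (ht : orderOf t = 2) {y : G} (hy1 : y ≠ 1)
    (hyo : ∃ k, orderOf y = p ^ k) : y * t ≠ t * y := by
  classical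
  intro hyt
  -- every involution has such an element
  have hall : ∀ s : G, orderOf s = 2 →
      ∃ y : G, y ≠ 1 ∧ (∃ k, orderOf y = p ^ k) ∧ y * s = s * y := by
    intro s hs
    obtain ⟨g, rfl⟩ := h.conj_inv ht hs
    obtain ⟨k, hk⟩ := hyo
    refine ⟨g * y * g⁻¹, fun e => hy1 (conj_eq_one_iff.1 e),
      ⟨k, (MulEquiv.orderOf_eq (MulAut.conj g) y).trans hk⟩, ?_⟩
    calc g * y * g⁻¹ * (g * t * g⁻¹) = g * (y * t) * g⁻¹ := by group
      _ = g * (t * y) * g⁻¹ := by rw [hyt]
      _ = _ := by group
  have hp4 : ∀ Q : Sylow 2 G, Nat.card Q = 4 := by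
    obtain ⟨P, Q, -, hQ, -⟩ := h.config ht (hall t ht)
    intro Q'
    rw [h.card_sylow Q', ← h.card_sylow Q, hQ]
  -- the involution attached to a Sylow subgroup
  have hattach : ∀ P : Sylow p G, ∃ z : G, orderOf z = 2 ∧
      (∀ x ∈ (P : Subgroup G), x * z = z * x) ∧
      (∀ v ∈ normalizer ((P : Subgroup G) : Set G), v * z = z * v) ∧
      ∀ v : G, orderOf v = 2 → v ∈ normalizer ((P : Subgroup G) : Set G) →
        ∀ x ∈ (P : Subgroup G), x ≠ 1 → v * x = x * v → v = z := by
    intro P
    obtain ⟨P₁, Q₁, -, -, hP₁, -, -, -⟩ := h.config ht (hall t ht)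
    obtain ⟨g, rfl⟩ := MulAction.exists_smul_eq G P₁ P
    set z := g * t * g⁻¹ with hzdef
    have hz : orderOf z = 2 := (MulEquiv.orderOf_eq (MulAut.conj g) t).trans ht
    obtain ⟨P₂, Q, hzQ, -, hP₂, hQP, hinv, hP0⟩ := h.config hz (hall z hz)
    have hPz : ∀ x ∈ ((g • P₁ : Sylow p G) : Subgroup G), x * z = z * x := by
      intro x hx
      rw [Sylow.coe_subgroup_smul] at hx
      obtain ⟨x', hx', rfl⟩ := hx
      have e := mem_centralizer_singleton_iff.1 (hP₁ hx')
      show g * x' * g⁻¹ * (g * t * g⁻¹) = g * t * g⁻¹ * (g * x' * g⁻¹)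
      calc g * x' * g⁻¹ * (g * t * g⁻¹) = g * (x' * t) * g⁻¹ := by group
        _ = g * (t * x') * g⁻¹ := by rw [e]
        _ = _ := by group
    have hPeq : P₂ = g • P₁ := by
      obtain ⟨W, hW, -, hWmem, -⟩ := h.exists_W hz
      have h1 : (P₂ : Subgroup G) ≤ W := fun x hx =>
        hWmem x (mem_centralizer_singleton_iff.1 (hP₂ hx)) (orderOf_of_mem P₂.isPGroup' hx)
      have h2 : ((g • P₁ : Sylow p G) : Subgroup G) ≤ W := fun x hx =>
        hWmem x (hPz x hx) (orderOf_of_mem (g • P₁ : Sylow p G).isPGroup' hx)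
      exact Sylow.ext ((P₂.3 hW h1).symm.trans ((g • P₁ : Sylow p G).3 hW h2))
    rw [← hPeq] at hPz ⊢
    set N := normalizer ((P₂ : Subgroup G) : Set G)
    have hN : N ≠ ⊤ := h.normalizer_ne_top P₂.isPGroup' hP0
    have hzN : z ∈ N := hQP hzQ
    have hNz : ∀ v ∈ N, v * z = z * v := by
      intro v hv
      have htop := h.sup_eq_top hN (two_dvd_of_mem hz hzN) (P₂.subtype le_normalizer) Q hQP
      have hle : (⊤ : Subgroup N) ≤ (centralizer ({z} : Set G)).subgroupOf N := by
        rw [← htop]
        refine sup_le (fun a ha => mem_subgroupOf.2 (mem_centralizer_singleton_iff.2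
          (hPz _ (mem_subgroupOf.1 ha)))) fun a ha => mem_subgroupOf.2
          (mem_centralizer_singleton_iff.2 (h.comm_two Q (mem_subgroupOf.1 ha) hzQ))
      exact mem_centralizer_singleton_iff.1 (mem_subgroupOf.1 (hle (mem_top ⟨v, hv⟩)))
    refine ⟨z, hz, hPz, hNz, fun v hv hvN x hx hx1 hvx => ?_⟩
    obtain ⟨S, hS⟩ := (IsPGroup.of_card (n := 1) (by
      rw [Nat.card_zpowers, Subgroup.orderOf_mk, hv, pow_one] :
      Nat.card (zpowers (⟨v, hvN⟩ : N)) = 2 ^ 1)).exists_le_sylow
    obtain ⟨n, hn⟩ := MulAction.exists_smul_eq N S (Q.subtype hQP)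
    have hmem : (n : G) * v * (n : G)⁻¹ ∈ (Q : Subgroup G) := by
      have h1 : n * (⟨v, hvN⟩ : N) * n⁻¹ ∈ ((n • S : Sylow 2 N) : Subgroup N) := by
        rw [Sylow.coe_subgroup_smul]
        exact ⟨_, hS (mem_zpowers _), rfl⟩
      rw [hn] at h1
      exact mem_subgroupOf.1 h1
    have hxn : (n : G) * x * (n : G)⁻¹ ∈ (P₂ : Subgroup G) := (mem_normalizer_iff.1 n.2 x).1 hx
    have heq : (n : G) * v * (n : G)⁻¹ = z := by
      by_contra hne
      have h1 := hinv _ hmem (fun e => Involution.ne_one_of_orderOf hv (conj_eq_one_iff.1 e)) hne _ hxn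
      have h2 : (n : G) * v * (n : G)⁻¹ * ((n : G) * x * (n : G)⁻¹) * ((n : G) * v * (n : G)⁻¹)⁻¹
          = (n : G) * (v * x * v⁻¹) * (n : G)⁻¹ := by group
      rw [h2, hvx, mul_inv_cancel_right] at h1
      exact hx1 (conj_eq_one_iff.1 (h.eq_one_of_sq P₂.isPGroup' hxn (eq_inv_iff_mul_eq_one.1 h1)))
    calc v = (n : G)⁻¹ * z * (n : G) := by rw [← heq]; group
      _ = (n : G)⁻¹ * (z * (n : G)) := by group
      _ = z := by rw [← hNz n n.2]; group
  -- unique common neighbours
  let I := {s : G // orderOf s = 2}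
  haveI : Fintype I := Fintype.ofFinite I
  haveI : Nonempty I := ⟨⟨t, ht⟩⟩
  let E : I → I → Prop := fun a b => a ≠ b ∧ (a : G) * b = b * a
  have huniq : ∀ a b : I, a ≠ b → ∃! w, E a w ∧ E b w := by
    rintro ⟨s, hs⟩ ⟨u, hu⟩ hne
    have hsu : s ≠ u := fun e => hne (Subtype.ext e)
    have hss := Involution.mul_self_of_orderOf hs
    have huu := Involution.mul_self_of_orderOf hu
    by_cases hc : s * u = u * s
    · have hsu1 : s * u ≠ 1 := fun e => hsu (by
        rw [mul_eq_one_iff_eq_inv, Involution.inv_of_orderOf hu] at e; exact e)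
      have hw : orderOf (s * u) = 2 := orderOf_eq_prime (by
        rw [pow_two]
        calc s * u * (s * u) = s * u * (u * s) := by rw [hc]
          _ = s * (u * u) * s := by group
          _ = 1 := by rw [huu, mul_one, hss]) hsu1
      have hnes : s * u ≠ s := fun e => Involution.ne_one_of_orderOf hu (mul_eq_left.1 e)
      have hneu : s * u ≠ u := fun e => Involution.ne_one_of_orderOf hs (mul_eq_right.1 e)
      refine ⟨⟨s * u, hw⟩, ⟨⟨fun e => hnes (congrArg Subtype.val e).symm, ?_⟩,
        ⟨fun e => hneu (congrArg Subtype.val e).symm, ?_⟩⟩, ?_⟩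
      · show s * (s * u) = s * u * s
        rw [mul_assoc s u s, ← hc]
      · show u * (s * u) = s * u * u
        rw [← mul_assoc, ← hc]
      rintro ⟨w, hw2⟩ ⟨⟨hsw, hsw'⟩, ⟨huw, huw'⟩⟩
      have hsw'' : s * w = w * s := hsw'
      have huw'' : u * w = w * u := huw'
      refine Subtype.ext ?_
      show w = s * u
      set K := closure ({s, u, w} : Set G) with hKdef
      haveI : IsMulCommutative K := by
        refine isMulCommutative_closure ?_
        rintro a (rfl | rfl | rfl) b (rfl | rfl | rfl)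
        exacts [rfl, hc, hsw'', hc.symm, rfl, huw'', hsw''.symm, huw''.symm, rfl]
      have hK2 : IsPGroup 2 K := by
        intro a
        refine ⟨1, Subtype.ext ?_⟩
        rw [pow_one, pow_two]
        show (a : G) * a = 1
        obtain ⟨a, ha⟩ := a
        show a * a = 1
        have key : a * a = 1 ∧ a ∈ K := by
          induction ha using closure_induction with
          | mem z hz =>
            refine ⟨?_, subset_closure hz⟩
            rcases hz with e | e | e <;> rw [e]
            exacts [hss, huu, Involution.mul_self_of_orderOf hw2]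
          | one => exact ⟨one_mul _, one_mem _⟩
          | mul x y _ _ hx hy =>
            refine ⟨?_, mul_mem hx.2 hy.2⟩
            have hxy : x * y = y * x := congrArg Subtype.val (mul_comm' (⟨x, hx.2⟩ : K) ⟨y, hy.2⟩)
            calc x * y * (x * y) = x * y * (y * x) := by rw [hxy]
              _ = x * (y * y) * x := by group
              _ = 1 := by rw [hy.1, mul_one, hx.1]
          | inv x _ hx => exact ⟨by rw [← mul_inv_rev, hx.1, inv_one], inv_mem hx.2⟩
        exact key.1
      obtain ⟨R, hR⟩ := hK2.exists_le_sylow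
      by_contra hne'
      have hsub : ({1, s, u, s * u, w} : Set G) ⊆ ((R : Subgroup G) : Set G) := by
        rintro a (rfl | rfl | rfl | rfl | rfl)
        exacts [one_mem _, hR (subset_closure (by simp)), hR (subset_closure (by simp)),
          mul_mem (hR (subset_closure (by simp))) (hR (subset_closure (by simp))),
          hR (subset_closure (by simp))]
      have hle := Set.ncard_le_ncard hsub (Set.toFinite _)
      have h4 : ((R : Subgroup G) : Set G).ncard = 4 := by
        rw [← Nat.card_coe_set_eq]; exact hp4 R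
      have hw1 := Involution.ne_one_of_orderOf hw2
      have hws : w ≠ s := fun e => hsw (Subtype.ext e.symm)
      have hwu : w ≠ u := fun e => huw (Subtype.ext e.symm)
      rw [h4, Set.ncard_insert_of_notMem (by
          simp [(Involution.ne_one_of_orderOf hs).symm, (Involution.ne_one_of_orderOf hu).symm,
            hsu1.symm, hw1.symm]) (Set.toFinite _),
        Set.ncard_insert_of_notMem (by simp [hsu, hnes.symm, hws.symm]) (Set.toFinite _),
        Set.ncard_insert_of_notMem (by simp [hneu.symm, hwu.symm]) (Set.toFinite _),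
        Set.ncard_pair (Ne.symm hne')] at hle
      omega
    · obtain ⟨x, hxo, hsx, hux, m, hxm⟩ := h.exists_inverted_of_not_comm hs hu hc
      have hx1 := prime_le hpf.out hxo
      obtain ⟨P, hxP⟩ := exists_sylow_p hxo
      obtain ⟨z, hz, hPz, hNz, hzu⟩ := hattach P
      have hsN := h.inv_normalizes hs hx1 hsx P hxP
      have huN := h.inv_normalizes hu hx1 hux P hxP
      have hne' : ∀ v, v * x * v⁻¹ = x⁻¹ → v ≠ z := by
        intro v hv e
        rw [e, ← hPz x hxP, mul_inv_cancel_right, eq_inv_iff_mul_eq_one] at hv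
        exact hx1 (h.eq_one_of_sq P.isPGroup' hxP hv)
      refine ⟨⟨z, hz⟩, ⟨⟨fun e => hne' s hsx (congrArg Subtype.val e), hNz s hsN⟩,
        ⟨fun e => hne' u hux (congrArg Subtype.val e), hNz u huN⟩⟩, ?_⟩
      rintro ⟨w, hw2⟩ ⟨⟨-, hsw⟩, ⟨-, huw⟩⟩
      have hsw' : s * w = w * s := hsw
      have huw' : u * w = w * u := huw
      have hwx : w * x = x * w := by
        rw [hxm]
        exact Commute.pow_right ((Commute.mul_right (show Commute w s from hsw'.symm)
          (show Commute w u from huw'.symm))) m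
      refine Subtype.ext (hzu w hw2 (h.centralizer_le P hx1 hxP hz (hPz x hxP)
        (mem_centralizer_singleton_iff.2 hwx)) x hxP hx1 hwx)
  -- degrees
  have hdeg : ∀ a : I, (Finset.univ.filter fun b => E a b).card
      = (Finset.univ.filter fun b => E ⟨t, ht⟩ b).card := by
    rintro ⟨s, hs⟩
    obtain ⟨g, hg⟩ := h.conj_inv ht hs
    let φ : I ≃ I :=
      { toFun := fun b => ⟨g * b * g⁻¹, (MulEquiv.orderOf_eq (MulAut.conj g) (b : G)).trans b.2⟩
        invFun := fun b => ⟨g⁻¹ * b * g⁻¹⁻¹, (MulEquiv.orderOf_eq (MulAut.conj g⁻¹) (b : G)).trans b.2⟩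
        left_inv := fun b => Subtype.ext (by simp [mul_assoc])
        right_inv := fun b => Subtype.ext (by simp [mul_assoc]) }
    have hφt : φ ⟨t, ht⟩ = ⟨s, hs⟩ := Subtype.ext hg
    have hE : ∀ a b, E (φ a) (φ b) ↔ E a b := by
      intro a b
      constructor
      · rintro ⟨h1, h2⟩
        refine ⟨fun e => h1 (by rw [e]), ?_⟩
        have h3 : g * (a : G) * g⁻¹ * (g * b * g⁻¹) = g * b * g⁻¹ * (g * a * g⁻¹) := h2
        calc (a : G) * b = g⁻¹ * (g * a * g⁻¹ * (g * b * g⁻¹)) * g := by group
          _ = g⁻¹ * (g * b * g⁻¹ * (g * a * g⁻¹)) * g := by rw [h3]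
          _ = b * a := by group
      · rintro ⟨h1, h2⟩
        refine ⟨fun e => h1 (φ.injective e), ?_⟩
        show g * (a : G) * g⁻¹ * (g * b * g⁻¹) = g * b * g⁻¹ * (g * a * g⁻¹)
        calc g * (a : G) * g⁻¹ * (g * b * g⁻¹) = g * (a * b) * g⁻¹ := by group
          _ = g * (b * a) * g⁻¹ := by rw [h2]
          _ = _ := by group
    exact (Finset.card_equiv φ (fun b => by simp [← hφt, hE])).symm
  refine no_friendship E (fun a b hab => ⟨hab.1.symm, hab.2.symm⟩) _ ?_ hdeg huniq (fun a ha => ha.1 rfl)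
  obtain ⟨P, Q, htQ, hQ, hPt, hQP, hinv, hP0⟩ := h.config ht (hall t ht)
  obtain ⟨u, huQ, hu1, hut⟩ : ∃ u ∈ (Q : Subgroup G), u ≠ 1 ∧ u ≠ t := by
    by_contra hcon
    push Not at hcon
    have hle : (Q : Subgroup G) ≤ zpowers t := fun u hu => by
      by_cases h1 : u = 1
      · rw [h1]; exact one_mem _
      · rw [hcon u hu h1]; exact mem_zpowers t
    have := card_le_of_le hle
    rw [hQ, Nat.card_zpowers, ht] at this
    omega
  obtain ⟨x, hx, hx1⟩ := (Subgroup.bot_or_exists_ne_one _).resolve_left hP0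
  have ht1 := Involution.ne_one_of_orderOf ht
  have hu2 := h.orderOf_two Q huQ hu1
  have hut' : u * t = t * u := h.comm_two Q huQ htQ
  have hxt : x * t = t * x := mem_centralizer_singleton_iff.1 (hPt hx)
  have hutQ : u * t ∈ (Q : Subgroup G) := mul_mem huQ htQ
  have hutne : u * t ≠ 1 := fun e => hut (by
    rw [mul_eq_one_iff_eq_inv, Involution.inv_of_orderOf ht] at e; exact e)
  have hxu : x * u * x⁻¹ = x * x * u := by
    have e := hinv u huQ hu1 hut x hx
    calc x * u * x⁻¹ = x * ((u * x * u⁻¹)⁻¹ * u) := by group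
      _ = x * x * u := by rw [e]; group
  have hxx : x * x ≠ 1 := fun e => hx1 (h.eq_one_of_sq P.isPGroup' hx e)
  let a₁ : I := ⟨u, hu2⟩
  let a₂ : I := ⟨u * t, h.orderOf_two Q hutQ hutne⟩
  let a₃ : I := ⟨x * u * x⁻¹, (MulEquiv.orderOf_eq (MulAut.conj x) u).trans hu2⟩
  have h12 : a₁ ≠ a₂ := fun e => ht1 (mul_eq_left.1 (congrArg Subtype.val e).symm)
  have h13 : a₁ ≠ a₃ := fun e => hxx (mul_eq_right.1 (hxu.symm.trans (congrArg Subtype.val e).symm))
  have h23 : a₂ ≠ a₃ := fun e => by
    have e' : u * t = x * x * u := hxu ▸ congrArg Subtype.val e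
    rw [hut'] at e'
    have : t = x * x := mul_right_cancel e'
    exact ht1 (by
      rw [← mem_bot, ← (IsPGroup.disjoint_of_ne p 2 h.ne_two (P : Subgroup G) Q P.isPGroup'
        Q.isPGroup').eq_bot]
      exact ⟨this ▸ mul_mem hx hx, htQ⟩)
  have hsub : ({a₁, a₂, a₃} : Finset I) ⊆ Finset.univ.filter fun b => E ⟨t, ht⟩ b := by
    intro b hb
    simp only [Finset.mem_insert, Finset.mem_singleton] at hb
    simp only [Finset.mem_filter, Finset.mem_univ, true_and]
    rcases hb with rfl | rfl | rfl
    · exact ⟨fun e => hut (congrArg Subtype.val e).symm, hut'.symm⟩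
    · refine ⟨fun e => hu1 (mul_eq_right.1 (congrArg Subtype.val e).symm), ?_⟩
      show t * (u * t) = u * t * t
      rw [← mul_assoc, ← hut']
    · refine ⟨fun e => hut ?_, ?_⟩
      · have e' : t = x * u * x⁻¹ := congrArg Subtype.val e
        calc u = x⁻¹ * (x * u * x⁻¹) * x := by group
          _ = x⁻¹ * (t * x) := by rw [← e']; group
          _ = t := by rw [← hxt]; group
      · show t * (x * u * x⁻¹) = x * u * x⁻¹ * t
        calc t * (x * u * x⁻¹) = (t * x) * u * x⁻¹ := by group
          _ = x * (t * u) * x⁻¹ := by rw [← hxt]; group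
          _ = x * u * (t * x⁻¹) := by rw [← hut']; group
          _ = x * u * x⁻¹ * t := by
            rw [show t * x⁻¹ = x⁻¹ * (x * t) * x⁻¹ by group, hxt]; group
  have h3 := Finset.card_le_card hsub
  rw [Finset.card_insert_of_notMem (by simp [h12, h13]), Finset.card_insert_of_notMem (by simp [h23]),
    Finset.card_singleton] at h3
  exact h3

/-- The contradiction. -/
theorem absurd' (h : Bad p G) : False := by
  classical
  have hp : p.Prime := hpf.out
  obtain ⟨s, t₀, hs, ht₀, hne⟩ := h.exists_not_comm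
  -- centralizers of involutions are `2`-groups
  have hC2 : ∀ z : G, orderOf z = 2 → ∀ (Q : Sylow 2 G), z ∈ (Q : Subgroup G) →
      centralizer ({z} : Set G) = (Q : Subgroup G) := by
    intro z hz Q hzQ
    have hQle : (Q : Subgroup G) ≤ centralizer ({z} : Set G) := fun u hu =>
      mem_centralizer_singleton_iff.2 (h.comm_two Q hu hzQ)
    have h2 : IsPGroup 2 (centralizer ({z} : Set G)) := by
      refine IsPGroup.of_card (n := _) (Nat.eq_prime_pow_of_unique_prime_dvd Nat.card_pos.ne'
        fun {r} hr hd => ?_)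
      rcases h.ih _ (h.centralizer_ne_top (Involution.ne_one_of_orderOf hz))
        (two_dvd_of_mem hz (hQle hzQ)) r hr hd with e | e
      · exfalso
        subst e
        obtain ⟨y, hy⟩ := exists_prime_orderOf_dvd_card' r hd
        rw [← Subgroup.orderOf_coe] at hy
        exact h.no_commuting hz (prime_le hr hy) ⟨1, by rw [hy, pow_one]⟩
          (mem_centralizer_singleton_iff.1 y.2)
      · exact e
    exact Q.3 h2 hQle
  obtain ⟨Q, hsQ⟩ := exists_sylow_mem hs
  have hCs := hC2 s hs Q hsQ
  -- noncommuting partners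
  have hpel : ∀ t : G, orderOf t = 2 → s * t ≠ t * s → ∃ k, orderOf (s * t) = p ^ k := by
    intro t ht hst
    set n := orderOf (s * t) with hn
    have e1 : s * (s * t) * s⁻¹ = (s * t)⁻¹ := by
      rw [mul_inv_rev, Involution.inv_of_orderOf hs, Involution.inv_of_orderOf ht]
      rw [← mul_assoc s s, Involution.mul_self_of_orderOf hs, one_mul]
    have e2 : t * (s * t) * t⁻¹ = (s * t)⁻¹ := by
      rw [mul_inv_rev, Involution.inv_of_orderOf hs, Involution.inv_of_orderOf ht]
      rw [mul_assoc t (s * t) t, mul_assoc s t t, Involution.mul_self_of_orderOf ht, mul_one]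
    refine ⟨_, Nat.eq_prime_pow_of_unique_prime_dvd (orderOf_pos _).ne' fun {r} hr hd => ?_⟩
    by_contra hrp
    have ho : orderOf ((s * t) ^ (n / r)) = r := by
      rw [orderOf_pow, ← hn, Nat.gcd_eq_right (Nat.div_dvd_of_dvd hd),
        Nat.div_div_self hd (orderOf_pos _).ne']
    set w := (s * t) ^ (n / r) with hw
    have hsw : s * w * s⁻¹ = w⁻¹ := by rw [hw, ← conj_pow, e1, inv_pow]
    have htw : t * w * t⁻¹ = w⁻¹ := by rw [hw, ← conj_pow, e2, inv_pow]
    by_cases hr2 : r = 2
    · subst hr2
      rw [Involution.inv_of_orderOf ho] at hsw htw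
      obtain ⟨Q', hwQ'⟩ := exists_sylow_mem ho
      have hC := hC2 w ho Q' hwQ'
      have hsQ' : s ∈ (Q' : Subgroup G) :=
        hC ▸ mem_centralizer_singleton_iff.2 (mul_inv_eq_iff_eq_mul.1 hsw)
      have htQ' : t ∈ (Q' : Subgroup G) :=
        hC ▸ mem_centralizer_singleton_iff.2 (mul_inv_eq_iff_eq_mul.1 htw)
      exact hst (h.comm_two Q' hsQ' htQ')
    · haveI := Fact.mk hr
      have h1 := noNorm h.base.mix h.ne_two hrp hr2 (V := zpowers s) (R := zpowers w)
        (IsPGroup.of_card (n := 1) (by rw [Nat.card_zpowers, hs, pow_one]))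
        (by rw [Ne, zpowers_eq_bot]; exact Involution.ne_one_of_orderOf hs)
        (IsPGroup.of_card (n := 1) (by rw [Nat.card_zpowers, ho, pow_one]))
        (Or.inr (zpowers_le.2 (mem_normalizer_iff_map_conj_eq.2 (by
          rw [MonoidHom.map_zpowers]
          show zpowers (s * w * s⁻¹) = _
          rw [hsw, zpowers_inv]))))
      rw [zpowers_eq_bot] at h1
      rw [h1, orderOf_one] at ho
      exact hr.ne_one ho.symm
  -- involutions normalizing Sylow subgroups invert them
  have hinvP : ∀ (v : G) (P : Sylow p G), orderOf v = 2 → v ∈ normalizer ((P : Subgroup G) : Set G) →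
      ∀ x ∈ (P : Subgroup G), v * x * v⁻¹ = x⁻¹ := by
    intro v P hv hvP x hx
    obtain ⟨⟨h1, h2⟩, h3⟩ := h.fixed_or_inverted P hv hvP hx
    refine h3 ?_
    by_contra hne'
    exact h.no_commuting hv hne' (orderOf_of_mem P.isPGroup' h1) h2.symm
  let X : Set G := {x | x ≠ 1 ∧ (∃ k, orderOf x = p ^ k) ∧ s * x * s⁻¹ = x⁻¹}
  let Ss : Set (Sylow p G) := {P | s ∈ normalizer ((P : Subgroup G) : Set G)}
  -- the involutions
  have hI : Nat.card {y : G // IsConj s y} * (p + 1) = Nat.card G := by
    have := Involution.card_isConj_mul_card_centralizer s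
    rwa [hCs, h.card_sylow Q] at this
  let J : Set G := {t | orderOf t = 2}
  have hJ : Nat.card {y : G // IsConj s y} = J.ncard := by
    rw [← Nat.card_coe_set_eq]
    refine Nat.card_congr (Equiv.subtypeEquivRight fun y => ⟨?_, ?_⟩)
    · intro hc
      obtain ⟨c, hc⟩ := isConj_iff.1 hc
      show orderOf y = 2
      rw [← hc]
      exact (MulEquiv.orderOf_eq (MulAut.conj c) s).trans hs
    · intro hy
      obtain ⟨g, hg⟩ := h.conj_inv hs hy
      exact isConj_iff.2 ⟨g, hg⟩
  obtain ⟨x₀, hx₀o, hx₀s, -, -⟩ := h.exists_inverted_of_not_comm hs ht₀ hne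
  have hpJ : p ∣ J.ncard := by
    have h1 : p ∣ J.ncard * (p + 1) := by
      rw [← hJ, hI, ← hx₀o]
      exact orderOf_dvd_natCard x₀
    exact Nat.Coprime.dvd_of_dvd_mul_right (by simp) h1
  let Jc : Set G := {t | orderOf t = 2 ∧ s * t = t * s}
  let Jn : Set G := {t | orderOf t = 2 ∧ s * t ≠ t * s}
  have hJs : J.ncard = Jc.ncard + Jn.ncard := by
    rw [← Set.ncard_union_eq (Set.disjoint_left.2 fun a ha hb => hb.2 ha.2) (Set.toFinite _) (Set.toFinite _)]
    congr 1
    ext a
    simp only [J, Jc, Jn, Set.mem_setOf_eq, Set.mem_union]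
    tauto
  have hJc : Jc.ncard + 1 = p + 1 := by
    have e : insert (1 : G) Jc = ((Q : Subgroup G) : Set G) := by
      ext a
      simp only [Jc, Set.mem_insert_iff, Set.mem_setOf_eq, SetLike.mem_coe]
      constructor
      · rintro (rfl | ⟨-, ha⟩)
        · exact one_mem _
        · rw [← hCs]; exact mem_centralizer_singleton_iff.2 ha.symm
      · intro ha
        by_cases h1 : a = 1
        · exact Or.inl h1
        · exact Or.inr ⟨h.orderOf_two Q ha h1, h.comm_two Q hsQ ha⟩
    conv_rhs => rw [← h.card_sylow Q]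
    show _ = Nat.card ((Q : Subgroup G) : Set G)
    rw [Nat.card_coe_set_eq, ← e, Set.ncard_insert_of_notMem (by simp [Jc]) (Set.toFinite _)]
  have hJn : Jn.ncard = X.ncard := by
    have himg : (fun t => s * t) '' Jn = X := by
      ext x
      constructor
      · rintro ⟨t, ⟨ht, hst⟩, rfl⟩
        refine ⟨fun e => hst ?_, hpel t ht hst, ?_⟩
        · have e' : s = t := by
            rw [mul_eq_one_iff_eq_inv, Involution.inv_of_orderOf ht] at e; exact e
          rw [e']
        · rw [mul_inv_rev, Involution.inv_of_orderOf hs, Involution.inv_of_orderOf ht]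
          rw [← mul_assoc s s, Involution.mul_self_of_orderOf hs, one_mul]
      · rintro ⟨hx1, hxo, hxi⟩
        refine ⟨s * x, ⟨?_, ?_⟩, ?_⟩
        · refine orderOf_eq_prime ?_ ?_
          · rw [pow_two]
            calc s * x * (s * x) = s * x * s⁻¹ * x := by
                  rw [Involution.inv_of_orderOf hs]; group
              _ = 1 := by rw [hxi, inv_mul_cancel]
          · intro e
            obtain ⟨k, hk⟩ := hxo
            have : x = s := by
              rw [mul_eq_one_iff_inv_eq, Involution.inv_of_orderOf hs] at e; exact e.symm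
            rw [this, hs] at hk
            exact h.ne_two ((Nat.prime_dvd_prime_iff_eq Nat.prime_two hp).1
              (Nat.prime_two.dvd_of_dvd_pow (show 2 ∣ p ^ k by rw [← hk]))).symm
        · intro e
          rw [← mul_assoc, Involution.mul_self_of_orderOf hs, one_mul] at e
          have e2 : x = x⁻¹ := by
            rw [← hxi]
            conv_lhs => rw [e, ← Involution.inv_of_orderOf hs]
            rw [Involution.inv_of_orderOf hs]
          obtain ⟨k, hk⟩ := hxo
          exact hx1 (h.eq_one_of_sq (R := zpowers x)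
            (IsPGroup.of_card (n := k) (by rw [Nat.card_zpowers, hk])) (mem_zpowers x)
            (eq_inv_iff_mul_eq_one.1 e2))
        · show s * (s * x) = x
          rw [← mul_assoc, Involution.mul_self_of_orderOf hs, one_mul]
    rw [← himg, Set.ncard_image_of_injective _ (mul_right_injective s)]
  have hpX : p ∣ X.ncard := by
    rw [hJs, hJn, show Jc.ncard = p by omega] at hpJ
    exact (Nat.dvd_add_right dvd_rfl).1 hpJ
  -- the fibres
  have hP0 : ∀ P : Sylow p G, p ∣ Nat.card P := by
    intro P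
    exact P.dvd_card_of_dvd_card (hx₀o ▸ orderOf_dvd_natCard x₀)
  haveI : Fintype (Sylow p G) := Fintype.ofFinite _
  haveI : Fintype G := Fintype.ofFinite G
  have hXc : X.ncard = ∑ P ∈ Finset.univ.filter (fun P : Sylow p G => P ∈ Ss), (Nat.card P - 1) := by
    have hX' : X.toFinset = (Finset.univ.filter (fun P : Sylow p G => P ∈ Ss)).biUnion
        (fun P => Finset.univ.filter fun x => x ∈ (P : Subgroup G) ∧ x ≠ 1) := by
      ext x
      simp only [Set.mem_toFinset, Finset.mem_biUnion, Finset.mem_filter, Finset.mem_univ, true_and]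
      constructor
      · rintro ⟨hx1, ⟨k, hk⟩, hxi⟩
        obtain ⟨P, hP⟩ := (IsPGroup.of_card (n := k)
          (by rw [Nat.card_zpowers, hk] : Nat.card (zpowers x) = p ^ k)).exists_le_sylow
        exact ⟨P, h.inv_normalizes hs hx1 hxi P (hP (mem_zpowers x)), hP (mem_zpowers x), hx1⟩
      · rintro ⟨P, hsP, hxP, hx1⟩
        exact ⟨hx1, orderOf_of_mem P.isPGroup' hxP, hinvP s P hs hsP x hxP⟩
    rw [Set.ncard_eq_toFinset_card', hX', Finset.card_biUnion]
    · refine Finset.sum_congr rfl fun P _ => ?_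
      rw [show (Finset.univ.filter fun x => x ∈ (P : Subgroup G) ∧ x ≠ 1)
        = (Finset.univ.filter fun x => x ∈ (P : Subgroup G)).erase 1 by ext; simp [and_comm],
        Finset.card_erase_of_mem (by simp [one_mem]), ← Fintype.card_subtype, ← Nat.card_eq_fintype_card]
    · intro P hP P' hP' hPP'
      simp only [Finset.coe_filter, Finset.mem_univ, true_and, Set.mem_setOf_eq] at hP hP'
      refine Finset.disjoint_left.2 fun x hx hx' => hPP' ?_
      simp only [Finset.mem_filter, Finset.mem_univ, true_and] at hx hx'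
      have hle : (P' : Subgroup G) ≤ (P : Subgroup G) := by
        intro y hy
        refine mem_of_normalizer_sylow P (h.normalizer_zpowers_le hs hx.2 (hinvP s P hs hP x hx.1) P hx.1
          (centralizer_le_normalizer _ ?_)) (orderOf_of_mem P'.isPGroup' hy)
        exact mem_centralizer_iff.2 fun z hz =>
          h.comm_p P'.isPGroup' (zpowers_le.2 hx'.1 hz) hy
      exact Sylow.ext (P'.3 P.isPGroup' hle)
  obtain ⟨P₀, hx₀P⟩ := exists_sylow_p hx₀o
  have hP₀S : P₀ ∈ Ss := h.inv_normalizes hs (prime_le hp hx₀o) hx₀s P₀ hx₀P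
  have hcardP : ∀ P : Sylow p G, Nat.card P = Nat.card P₀ := fun P => by
    rw [P.card_eq_multiplicity, P₀.card_eq_multiplicity]
  rw [Finset.sum_congr rfl (fun P _ => by rw [hcardP P]), Finset.sum_const, smul_eq_mul] at hXc
  -- the orbit of `centralizer s`
  have horb : Ss = MulAction.orbit (centralizer ({s} : Set G)) P₀ := by
    ext P
    constructor
    · intro hP
      obtain ⟨g, rfl⟩ := MulAction.exists_smul_eq G P₀ P
      set s' := g⁻¹ * s * g with hs'
      have hs'2 : orderOf s' = 2 := by
        rw [hs', show g⁻¹ * s * g = MulAut.conj g⁻¹ s by simp, MulEquiv.orderOf_eq, hs]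
      have hs'N : s' ∈ normalizer ((P₀ : Subgroup G) : Set G) := by
        have hP' : s ∈ normalizer (((g • P₀ : Sylow p G) : Subgroup G) : Set G) := hP
        rw [Sylow.coe_subgroup_smul] at hP'
        rw [mem_normalizer_iff]
        intro a
        have hiff := mem_normalizer_iff.1 hP' (g * a * g⁻¹)
        have hmem : ∀ b : G, g * b * g⁻¹ ∈ MulAut.conj g • (P₀ : Subgroup G) ↔ b ∈ (P₀ : Subgroup G) :=
          fun b => ⟨fun ⟨c, hc, e⟩ => (MulAut.conj g).injective e ▸ hc, fun hb => ⟨b, hb, rfl⟩⟩
        rw [hmem, show s * (g * a * g⁻¹) * s⁻¹ = g * (s' * a * s'⁻¹) * g⁻¹ by rw [hs']; group,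
          hmem] at hiff
        exact hiff
      set c := s * s' with hc
      have hcx : c * x₀ = x₀ * c := by
        have e1 := hinvP s P₀ hs hP₀S _ (inv_mem hx₀P)
        have e2 := hinvP s' P₀ hs'2 hs'N _ hx₀P
        rw [← mul_inv_eq_iff_eq_mul, hc]
        calc s * s' * x₀ * (s * s')⁻¹ = s * (s' * x₀ * s'⁻¹) * s⁻¹ := by group
          _ = x₀ := by rw [e2, e1, inv_inv]
      have hcN : c ∈ normalizer ((P₀ : Subgroup G) : Set G) := mul_mem hP₀S hs'N
      have hP₀0 : (P₀ : Subgroup G) ≠ ⊥ := fun e => prime_le hp hx₀o (by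
        rw [e] at hx₀P; exact hx₀P)
      have hco : ∃ k, orderOf c = p ^ k := by
        refine ⟨_, Nat.eq_prime_pow_of_unique_prime_dvd (orderOf_pos _).ne' fun {r} hr hd => ?_⟩
        rcases h.ih _ (h.normalizer_ne_top P₀.isPGroup' hP₀0) (two_dvd_of_mem hs hP₀S) r hr
          (hd.trans (Subgroup.orderOf_dvd_natCard _ hcN)) with e | e
        · exact e
        · exfalso
          subst e
          have ho : orderOf (c ^ (orderOf c / 2)) = 2 := by
            rw [orderOf_pow, Nat.gcd_eq_right (Nat.div_dvd_of_dvd hd),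
              Nat.div_div_self hd (orderOf_pos _).ne']
          exact h.no_commuting ho (prime_le hp hx₀o) ⟨1, by rw [hx₀o, pow_one]⟩
            (Commute.pow_left hcx _).eq.symm
      have hcP : c ∈ (P₀ : Subgroup G) := mem_of_normalizer_sylow P₀ hcN hco
      obtain ⟨k, hk⟩ := hco
      set d := c ^ ((p ^ k + 1) / 2) with hd
      have hdd : d * d = c := by
        rw [hd, ← pow_add]
        have hodd : Odd (p ^ k) := (hp.odd_of_ne_two h.ne_two).pow
        obtain ⟨j, hj⟩ := hodd
        rw [show (p ^ k + 1) / 2 + (p ^ k + 1) / 2 = p ^ k + 1 by omega, pow_succ, ← hk,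
          pow_orderOf_eq_one, one_mul]
      have hdP : d ∈ (P₀ : Subgroup G) := pow_mem hcP _
      have hsd : s * d * s⁻¹ = d⁻¹ := hinvP s P₀ hs hP₀S d hdP
      refine ⟨⟨g * d⁻¹, mem_centralizer_singleton_iff.2 ?_⟩, ?_⟩
      · have e1 : g⁻¹ * s * g = d⁻¹ * s * d := by
          calc g⁻¹ * s * g = s * c := by
                rw [hc, ← mul_assoc, Involution.mul_self_of_orderOf hs, one_mul]
            _ = s * d * s⁻¹ * s * d := by rw [← hdd]; group
            _ = d⁻¹ * s * d := by rw [hsd]
        calc g * d⁻¹ * s = g * (d⁻¹ * s * d) * d⁻¹ := by group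
          _ = s * (g * d⁻¹) := by rw [← e1]; group
      · show (g * d⁻¹) • P₀ = g • P₀
        rw [mul_smul, Sylow.smul_eq_iff_mem_normalizer.2 (le_normalizer (inv_mem hdP))]
    · rintro ⟨⟨c, hc⟩, rfl⟩
      show s ∈ normalizer (((c • P₀ : Sylow p G) : Subgroup G) : Set G)
      rw [Sylow.coe_subgroup_smul]
      refine le_normalizer_map _ ⟨s, hP₀S, ?_⟩
      show c * s * c⁻¹ = s
      rw [mem_centralizer_singleton_iff.1 hc, mul_inv_cancel_right]
  have hcardS : (Finset.univ.filter (fun P : Sylow p G => P ∈ Ss)).card ∣ p + 1 := by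
    have e : (Finset.univ.filter (fun P : Sylow p G => P ∈ Ss)).card = Ss.ncard := by
      rw [Set.ncard_eq_toFinset_card']; congr 1; ext; simp
    rw [e, horb, ← MulAction.index_stabilizer]
    refine (Subgroup.index_dvd_card _).trans ?_
    rw [hCs, h.card_sylow Q]
  have hdvd : ¬ p ∣ Nat.card P₀ - 1 := by
    intro hd
    have h1 := Nat.dvd_sub (hP0 P₀) hd
    rw [Nat.sub_sub_self Nat.card_pos] at h1
    exact hp.ne_one (Nat.dvd_one.1 h1)
  rcases hp.dvd_mul.1 (hXc ▸ hpX) with h1 | h1
  · have h2 := h1.trans hcardS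
    have h3 : p ∣ 1 := (Nat.dvd_add_right dvd_rfl).1 h2
    exact hp.ne_one (Nat.dvd_one.1 h3)
  · exact hdvd h1

end Bad

/-- The classification of the primes, by induction. -/
theorem two_primes {p : ℕ} [Fact p.Prime] (hp2 : p ≠ 2) :
    ∀ (n : ℕ) {G : Type*} [Group G] [Finite G], Nat.card G ≤ n → Base p G → 2 ∣ Nat.card G →
      ∀ r : ℕ, r.Prime → r ∣ Nat.card G → r = p ∨ r = 2 := by
  intro n
  induction n with
  | zero => intro G _ _ hle; exact absurd hle (Nat.not_le.2 Nat.card_pos)
  | succ n ihn =>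
    intro G _ _ hle hB h2 r hr hrd
    have hp : p.Prime := Fact.out
    by_contra hcon
    push Not at hcon
    obtain ⟨hrp, hr2⟩ := hcon
    haveI := Fact.mk hr
    have hih : ∀ L : Subgroup G, L ≠ ⊤ → 2 ∣ Nat.card L →
        ∀ r : ℕ, r.Prime → r ∣ Nat.card L → r = p ∨ r = 2 := by
      intro L hL h2L
      refine ihn ?_ (hB.sub L) h2L
      have h1 := L.card_mul_index
      have h2 : L.index ≠ 1 := fun e => hL (index_eq_one.1 e)
      have h3 : L.index ≠ 0 := index_ne_zero_of_finite
      have h4 : Nat.card L * 2 ≤ n + 1 := by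
        rw [← h1] at hle
        exact le_trans (Nat.mul_le_mul_left _ (by omega)) hle
      have := Nat.card_pos (α := L)
      omega
    refine Bad.absurd' (p := p) ⟨hB, hih, ?_, h2, hp2, r, hr, hrd, hrp, hr2⟩
    intro N hN
    by_contra hcon
    push Not at hcon
    obtain ⟨hNb, hNt⟩ := hcon
    haveI := hN
    by_cases hN2 : 2 ∣ Nat.card N
    · -- Frattini
      obtain ⟨T⟩ := (inferInstance : Nonempty (Sylow 2 N))
      have hF := Sylow.normalizer_sup_eq_top T
      set M := normalizer (((T : Subgroup N).map N.subtype : Subgroup G) : Set G)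
      have hT0 : (T : Subgroup N).map N.subtype ≠ ⊥ := by
        rw [Ne, map_eq_bot_iff_of_injective _ N.subtype_injective]
        intro e
        have := T.dvd_card_of_dvd_card hN2
        rw [e, card_bot] at this
        omega
      have hrN : ¬ r ∣ Nat.card N := by
        intro hd
        rcases hih N hNt hN2 r hr hd with e | e
        exacts [hrp e, hr2 e]
      have hrM : r ∣ Nat.card M := by
        have h1 := Thompson.card_sup_dvd_mul M N
        rw [hF, card_top] at h1
        exact ((hr.dvd_mul.1 (hrd.trans h1)).resolve_right hrN)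
      obtain ⟨w, hw⟩ := exists_prime_orderOf_dvd_card' (G := M) r hrM
      rw [← Subgroup.orderOf_coe] at hw
      have h0 := noNorm hB.mix hp2 hrp hr2 (T.isPGroup'.map N.subtype) hT0 (R := zpowers (w : G))
        (IsPGroup.of_card (n := 1) (by rw [Nat.card_zpowers, hw, pow_one]))
        (Or.inl (zpowers_le.2 w.2))
      rw [zpowers_eq_bot] at h0
      rw [h0, orderOf_one] at hw
      exact hr.ne_one hw.symm
    · -- odd normal subgroups are `p`-groups
      obtain ⟨Q⟩ := (inferInstance : Nonempty (Sylow 2 G))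
      have hQ0 : (Q : Subgroup G) ≠ ⊥ := fun e => by
        have := Q.dvd_card_of_dvd_card h2
        rw [e, card_bot] at this
        omega
      have hcop : (Nat.card Q).Coprime (Nat.card N) := by
        obtain ⟨a, ha⟩ := IsPGroup.iff_card.1 Q.isPGroup'
        rw [ha]
        exact ((Nat.prime_two.coprime_iff_not_dvd).2 hN2).pow_left a
      have hNp : ∀ s : ℕ, s.Prime → s ∣ Nat.card N → s = p := by
        intro s hs hd
        by_contra hsp
        haveI := Fact.mk hs
        have hs2 : s ≠ 2 := fun e => hN2 (e ▸ hd)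
        obtain ⟨R, hR⟩ := Coprime.exists_invariant_sylow (Q : Subgroup G) N
          (by rw [normalizer_eq_top]; exact le_top) hcop
          (Or.inl (haveI := Q.isPGroup'.isNilpotent; inferInstance)) s
        have h0 := noNorm hB.mix hp2 hsp hs2 Q.isPGroup' hQ0 (R.isPGroup'.map N.subtype) (Or.inr hR)
        rw [map_eq_bot_iff_of_injective _ N.subtype_injective] at h0
        have := R.dvd_card_of_dvd_card hd
        rw [h0, card_bot, Nat.dvd_one] at this
        exact hs.ne_one this
      obtain ⟨a, ha⟩ : ∃ a, Nat.card N = p ^ a :=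
        ⟨_, Nat.eq_prime_pow_of_unique_prime_dvd Nat.card_pos.ne' fun {s} hs hd => hNp s hs hd⟩
      have hNg : IsPGroup p N := IsPGroup.of_card ha
      have hlift : ∀ H : Subgroup (G ⧸ N), ¬ p ∣ Nat.card H →
          ∃ C : Subgroup G, Nat.card C = Nat.card H ∧ C.map (QuotientGroup.mk' N) = H := by
        intro H hH
        set L := H.comap (QuotientGroup.mk' N)
        have hNL : N ≤ L := fun x hx => by
          show QuotientGroup.mk' N x ∈ H
          rw [show QuotientGroup.mk' N x = 1 from (QuotientGroup.eq_one_iff x).2 hx]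
          exact one_mem H
        have hLc : Nat.card L = Nat.card N * Nat.card H := by
          rw [Thompson.card_comap_quotient]
          ring
        have hc : (Nat.card (N.subgroupOf L)).Coprime (N.subgroupOf L).index := by
          have h1 := (N.subgroupOf L).card_mul_index
          rw [Nat.card_congr (subgroupOfEquivOfLe hNL).toEquiv] at h1
          rw [Nat.card_congr (subgroupOfEquivOfLe hNL).toEquiv,
            Nat.eq_of_mul_eq_mul_left Nat.card_pos (h1.trans hLc), ha]
          exact ((hp.coprime_iff_not_dvd).2 hH).pow_left a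
        obtain ⟨C, hC⟩ := exists_right_complement'_of_coprime hc
        refine ⟨C.map L.subtype, ?_, ?_⟩
        · rw [card_map_of_injective L.subtype_injective]
          have h1 := hC.card_mul_card
          rw [Nat.card_congr (subgroupOfEquivOfLe hNL).toEquiv] at h1
          exact Nat.eq_of_mul_eq_mul_left Nat.card_pos (h1.trans hLc)
        · refine le_antisymm (map_le_iff_le_comap.2 (map_subtype_le C)) fun y hy => ?_
          obtain ⟨x, rfl⟩ := QuotientGroup.mk'_surjective N y
          obtain ⟨b, hb, c, hc, e⟩ := mem_sup_of_normal_left.1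
            (hC.sup_eq_top.ge (mem_top (⟨x, hy⟩ : L)))
          refine ⟨c, ⟨c, hc, rfl⟩, ?_⟩
          have e' : (b : G) * c = x := congrArg Subtype.val e
          rw [← e', map_mul, show QuotientGroup.mk' N (b : G) = 1 from
            (QuotientGroup.eq_one_iff _).2 hb, one_mul]
      have hNi : N.index = Nat.card (G ⧸ N) := index_eq_card N
      have hlt : Nat.card (G ⧸ N) ≤ n := by
        have h1 := N.card_mul_index
        rw [hNi] at h1
        have h3 : Nat.card N ≠ 1 := fun e => hNb (Subgroup.eq_bot_of_card_eq N e)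
        have h4 := Nat.card_pos (α := N)
        have h5 := Nat.card_pos (α := G ⧸ N)
        have h6 : 2 * Nat.card (G ⧸ N) ≤ Nat.card N * Nat.card (G ⧸ N) :=
          Nat.mul_le_mul_right _ (by omega)
        omega
      have hrq : r ∣ Nat.card (G ⧸ N) := by
        have h1 := N.card_mul_index
        rw [hNi] at h1
        exact (hr.dvd_mul.1 (h1 ▸ hrd)).resolve_left fun hd => hrp (hNp r hr hd)
      have h2q : 2 ∣ Nat.card (G ⧸ N) := by
        have h1 := N.card_mul_index
        rw [hNi] at h1
        exact (Nat.prime_two.dvd_mul.1 (h1 ▸ h2)).resolve_left hN2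
      have hBq : Base p (G ⧸ N) := by
        refine ⟨fun H hH2 hHp => ?_, fun R hR => ?_, fun V hV => ?_⟩
        · obtain ⟨C, hC, rfl⟩ := hlift H hHp
          exact (hB.mix C (hC ▸ hH2) (hC ▸ hHp)).map _
        · haveI := hB.ab _ (hR.comap_of_ker_isPGroup (QuotientGroup.mk' N)
            (by rw [QuotientGroup.ker_mk']; exact hNg))
          refine ⟨⟨fun u v => Subtype.ext ?_⟩⟩
          obtain ⟨u', hu'⟩ := QuotientGroup.mk'_surjective N (u : G ⧸ N)
          obtain ⟨v', hv'⟩ := QuotientGroup.mk'_surjective N (v : G ⧸ N)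
          have e := congrArg (fun t : R.comap (QuotientGroup.mk' N) => QuotientGroup.mk' N (t : G))
            (mul_comm' (⟨u', by show QuotientGroup.mk' N u' ∈ R; rw [hu']; exact u.2⟩ :
              R.comap (QuotientGroup.mk' N)) ⟨v', by show QuotientGroup.mk' N v' ∈ R; rw [hv']; exact v.2⟩)
          simpa [← hu', ← hv'] using e
        · obtain ⟨b, hb⟩ := IsPGroup.iff_card.1 hV
          obtain ⟨C, hC, -⟩ := hlift V (by
            rw [hb]
            exact fun hd => hp2 ((Nat.prime_dvd_prime_iff_eq hp Nat.prime_two).1 (hp.dvd_of_dvd_pow hd)))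
          rw [← hC]
          exact hB.small C (IsPGroup.of_card (hC.trans hb))
      rcases ihn hlt hBq h2q r hr hrq with e | e
      exacts [hrp e, hr2 e]

end Cfsg.Agent.FGS76.Mix
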