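import Cfsg.Agent.FGS76.MixBasic
import Cfsg.Agent.FGS77.FourOrbits
import Cfsg.Agent.Lib.Fitting
import Cfsg.Agent.Lib.Fitting.Minimal
import Cfsg.Agent.Lib.Involution.Dihedral

/-!
The minimal counterexample for `q = 2`, `p + 1` the `2`-part and abelian Sylow `p`-subgroups.
-/

set_option autoImplicit false

namespace Cfsg.Agent.FGS76.Mix

open Subgroup

universe u

variable {p : ℕ}

/-- The hypotheses, in a form inherited by subgroups. -/
structure Base (p : ℕ) (G : Type*) [Group G] : Prop where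
  mix : Mix 2 p G
  ab : ∀ R : Subgroup G, IsPGroup p R → IsMulCommutative R
  small : ∀ V : Subgroup G, IsPGroup 2 V → Nat.card V ≤ p + 1

theorem Base.sub {G : Type*} [Group G] [Finite G] (h : Base p G) (L : Subgroup G) : Base p L where
  mix := h.mix.sub L
  ab R hR := by
    haveI := h.ab (R.map L.subtype) (hR.map _)
    exact ⟨⟨fun a b => Subtype.ext (Subtype.ext (congrArg
      (fun t : R.map L.subtype => (t : G))
      (mul_comm' (⟨_, mem_map_of_mem L.subtype a.2⟩ : R.map L.subtype)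
        ⟨_, mem_map_of_mem L.subtype b.2⟩)))⟩⟩
  small V hV := by
    have h1 := h.small (V.map L.subtype) (hV.map _)
    rwa [card_map_of_injective L.subtype_injective] at h1

/-- A minimal counterexample. -/
structure Bad (p : ℕ) (G : Type u) [Group G] : Prop where
  base : Base p G
  ih : ∀ L : Subgroup G, L ≠ ⊤ → 2 ∣ Nat.card L → ∀ r : ℕ, r.Prime → r ∣ Nat.card L → r = p ∨ r = 2
  simple : ∀ N : Subgroup G, N.Normal → N = ⊥ ∨ N = ⊤
  two : 2 ∣ Nat.card G
  ne_two : p ≠ 2
  extra : ∃ r : ℕ, r.Prime ∧ r ∣ Nat.card G ∧ r ≠ p ∧ r ≠ 2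

theorem mem_of_normal_sylow {L : Type*} [Group L] [Finite L] [Fact p.Prime] (R : Sylow p L)
    [(R : Subgroup L).Normal] {x : L} (hx : ∃ k : ℕ, orderOf x = p ^ k) : x ∈ (R : Subgroup L) := by
  obtain ⟨k, hk⟩ := hx
  have h : IsPGroup p (zpowers x) := IsPGroup.of_card (n := k) (by rw [Nat.card_zpowers, hk])
  obtain ⟨S, hS⟩ := h.exists_le_sylow
  letI := Sylow.unique_of_normal R ‹(R : Subgroup L).Normal›
  rw [Subsingleton.elim S R] at hS
  exact hS (mem_zpowers x)

theorem mem_of_normalizer_sylow {G : Type*} [Group G] [Finite G] [Fact p.Prime] (P : Sylow p G)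
    {x : G} (hx : x ∈ normalizer ((P : Subgroup G) : Set G)) (hxp : ∃ k : ℕ, orderOf x = p ^ k) :
    x ∈ (P : Subgroup G) := by
  set N := normalizer ((P : Subgroup G) : Set G)
  let R : Sylow p N := P.subtype le_normalizer
  haveI : (R : Subgroup N).Normal := by
    show ((P : Subgroup G).subgroupOf N).Normal
    infer_instance
  obtain ⟨k, hk⟩ := hxp
  exact mem_of_normal_sylow R (x := (⟨x, hx⟩ : N)) ⟨k, by rw [Subgroup.orderOf_mk]; exact hk⟩

namespace Bad

variable {G : Type u} [Group G] [Finite G] [hpf : Fact p.Prime]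

theorem comm_p (h : Bad p G) {R : Subgroup G} (hR : IsPGroup p R) {x y : G} (hx : x ∈ R)
    (hy : y ∈ R) : x * y = y * x := by
  haveI := h.base.ab R hR
  exact congrArg Subtype.val (mul_comm' (⟨x, hx⟩ : R) ⟨y, hy⟩)

theorem three_le (h : Bad p G) : 3 ≤ p := by
  have := hpf.out.two_le
  have := h.ne_two
  omega

theorem center_eq (h : Bad p G) : center G = ⊥ := by
  rcases h.simple (center G) inferInstance with hc | hc
  · exact hc
  exfalso
  obtain ⟨r, hr, hrd, hrp, hr2⟩ := h.extra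
  haveI := Fact.mk hr
  obtain ⟨t, ht⟩ := exists_prime_orderOf_dvd_card' (G := G) 2 h.two
  obtain ⟨w, hw⟩ := exists_prime_orderOf_dvd_card' (G := G) r hrd
  have hR := noNorm h.base.mix h.ne_two hrp hr2 (V := zpowers t) (R := zpowers w)
    (IsPGroup.of_card (n := 1) (by rw [Nat.card_zpowers, ht, pow_one]))
    (by rw [Ne, zpowers_eq_bot]; intro h'; rw [h', orderOf_one] at ht; exact absurd ht (by norm_num))
    (IsPGroup.of_card (n := 1) (by rw [Nat.card_zpowers, hw, pow_one]))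
    (Or.inl (zpowers_le.2 (mem_normalizer_iff.2 fun x => by
      rw [mem_center_iff.1 (show x ∈ center G from hc ▸ mem_top _) w, mul_inv_cancel_right])))
  rw [zpowers_eq_bot] at hR
  rw [hR, orderOf_one] at hw
  exact hr.ne_one hw.symm

theorem centralizer_ne_top (h : Bad p G) {x : G} (hx : x ≠ 1) :
    centralizer ({x} : Set G) ≠ ⊤ := by
  intro ht
  refine hx ?_
  rw [← mem_bot, ← h.center_eq, mem_center_iff]
  intro g
  exact mem_centralizer_singleton_iff.1 (ht ▸ mem_top g)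

theorem normalizer_ne_top (h : Bad p G) {R : Subgroup G} {r : ℕ} [Fact r.Prime] (hR : IsPGroup r R)
    (hR0 : R ≠ ⊥) : normalizer (R : Set G) ≠ ⊤ := by
  intro ht
  rcases h.simple R (normalizer_eq_top_iff.1 ht) with hb | hT
  · exact hR0 hb
  obtain ⟨s, hs, hsd, hsp, hs2⟩ := h.extra
  obtain ⟨a, ha⟩ := IsPGroup.iff_card.1 hR
  rw [hT, card_top] at ha
  have h2 : (2 : ℕ) = r := (Nat.prime_dvd_prime_iff_eq Nat.prime_two Fact.out).1
    (Nat.prime_two.dvd_of_dvd_pow (ha ▸ h.two))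
  have hsr : s = r := (Nat.prime_dvd_prime_iff_eq hs Fact.out).1 (hs.dvd_of_dvd_pow (ha ▸ hsd))
  exact hs2 (hsr.trans h2.symm)

theorem two_dvd_of_mem {L : Subgroup G} {t : G} (ht : orderOf t = 2) (htL : t ∈ L) :
    2 ∣ Nat.card L :=
  ht ▸ Subgroup.orderOf_dvd_natCard L htL

/-- The full Sylow `2`-subgroups: order, transitive action. -/
theorem exists_trans (h : Bad p G) : ∃ (Q : Sylow 2 G) (a : G), Nat.card Q = p + 1 ∧
    a ∈ normalizer ((Q : Subgroup G) : Set G) ∧ (∃ k : ℕ, orderOf a = p ^ k) ∧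
    a ∉ centralizer ((Q : Subgroup G) : Set G) := by
  have hnc : ¬ Control 2 p G := by
    intro hc
    obtain ⟨r, hr, hrd, hrp, hr2⟩ := h.extra
    rcases (of_control h.base.mix h.ne_two hc h.two).1 r hr hrd with e | e
    exacts [hrp e, hr2 e]
  unfold Control at hnc
  push Not at hnc
  obtain ⟨V, hV, g, hg, hgp, hgc⟩ := hnc
  obtain ⟨n, hn, hle, -⟩ := act hV hg hgp hgc
  obtain ⟨Q, hQ⟩ := hV.exists_le_sylow
  have h1 := h.base.small Q Q.isPGroup'
  have h2 := card_le_of_le hQ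
  have hQV : V = (Q : Subgroup G) := eq_of_le_of_card_ge hQ (by omega)
  subst hQV
  exact ⟨Q, g, by omega, hg, hgp, hgc⟩

theorem card_sylow (h : Bad p G) (Q : Sylow 2 G) : Nat.card Q = p + 1 := by
  obtain ⟨Q₀, a, hc, -⟩ := h.exists_trans
  rw [← hc, Q.card_eq_multiplicity, Q₀.card_eq_multiplicity]

/-- Every Sylow `2`-subgroup has a transitive `p`-element in its normalizer. -/
theorem trans (h : Bad p G) (Q : Sylow 2 G) : ∃ a : G, a ∈ normalizer ((Q : Subgroup G) : Set G) ∧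
    (∃ k : ℕ, orderOf a = p ^ k) ∧
    ∀ u ∈ (Q : Subgroup G), u ≠ 1 → ∀ v ∈ (Q : Subgroup G), v ≠ 1 →
      ∃ i : ℤ, a ^ i * u * (a ^ i)⁻¹ = v := by
  obtain ⟨Q₀, a, hc, ha, hap, hac⟩ := h.exists_trans
  obtain ⟨g, rfl⟩ := MulAction.exists_smul_eq G Q₀ Q
  refine ⟨g * a * g⁻¹, ?_, ?_, ?_⟩
  · rw [Sylow.coe_subgroup_smul, mem_normalizer_iff_map_conj_eq] at *
    show Subgroup.map (MulAut.conj (g * a * g⁻¹)).toMonoidHom
      ((Q₀ : Subgroup G).map (MulAut.conj g).toMonoidHom) = (Q₀ : Subgroup G).map (MulAut.conj g).toMonoidHom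
    conv_rhs => rw [← ha]
    rw [Subgroup.map_map, Subgroup.map_map]
    congr 1
    ext x
    simp [mul_assoc]
  · obtain ⟨k, hk⟩ := hap
    exact ⟨k, by rw [show g * a * g⁻¹ = MulAut.conj g a from rfl, MulEquiv.orderOf_eq, hk]⟩
  · intro u hu hu1 v hv hv1
    obtain ⟨n, hn, -, htr⟩ := act Q₀.isPGroup' ha hap hac
    rw [Sylow.coe_subgroup_smul] at hu hv
    obtain ⟨u', hu', rfl⟩ := hu
    obtain ⟨v', hv', rfl⟩ := hv
    have hn' : 2 ^ n ≤ p + 1 := by rw [← hn, hc]
    obtain ⟨i, hi⟩ := htr hn' u' hu' (fun e => hu1 (by rw [e]; exact map_one _)) v' hv'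
      (fun e => hv1 (by rw [e]; exact map_one _))
    refine ⟨i, ?_⟩
    rw [← hi, conj_zpow]
    show g * a ^ i * g⁻¹ * (g * u' * g⁻¹) * (g * a ^ i * g⁻¹)⁻¹
      = g * (a ^ i * u' * (a ^ i)⁻¹) * g⁻¹
    group

theorem sq_eq (h : Bad p G) (Q : Sylow 2 G) {x : G} (hx : x ∈ (Q : Subgroup G)) : x * x = 1 := by
  by_cases hx1 : x = 1
  · rw [hx1, one_mul]
  obtain ⟨t, ht⟩ := exists_prime_orderOf_dvd_card' (G := Q) 2 (by
    rw [h.card_sylow Q]
    have := hpf.out.eq_two_or_odd.resolve_left h.ne_two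
    omega)
  have ht1 : (t : G) ≠ 1 := fun e => by
    rw [← Subgroup.orderOf_coe, e, orderOf_one] at ht
    exact absurd ht (by norm_num)
  obtain ⟨a, -, -, htr⟩ := h.trans Q
  obtain ⟨i, hi⟩ := htr t t.2 ht1 x hx hx1
  have htt : (t : G) * t = 1 := Involution.mul_self_of_orderOf ((Subgroup.orderOf_coe t).trans ht)
  rw [← hi]
  calc a ^ i * t * (a ^ i)⁻¹ * (a ^ i * t * (a ^ i)⁻¹) = a ^ i * (t * t) * (a ^ i)⁻¹ := by group
    _ = 1 := by rw [htt]; group

theorem comm_two (h : Bad p G) (Q : Sylow 2 G) {x y : G} (hx : x ∈ (Q : Subgroup G))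
    (hy : y ∈ (Q : Subgroup G)) : x * y = y * x := by
  calc x * y = x * ((x * y) * (x * y)) * y := by rw [h.sq_eq Q (mul_mem hx hy)]; group
    _ = (x * x) * (y * x) * (y * y) := by group
    _ = y * x := by rw [h.sq_eq Q hx, h.sq_eq Q hy]; group

/-- A `p`-element normalizing a Sylow `2`-subgroup with a nontrivial fixed point centralizes it. -/
theorem fixed (h : Bad p G) (Q : Sylow 2 G) {g t : G} (hg : g ∈ normalizer ((Q : Subgroup G) : Set G))
    (hgp : ∃ k : ℕ, orderOf g = p ^ k) (ht : t ∈ (Q : Subgroup G)) (ht1 : t ≠ 1)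
    (hgt : g * t = t * g) : g ∈ centralizer ((Q : Subgroup G) : Set G) := by
  by_contra hgc
  obtain ⟨n, hn, -, htr⟩ := act Q.isPGroup' hg hgp hgc
  have hle : (Q : Subgroup G) ≤ zpowers t := by
    intro v hv
    by_cases hv1 : v = 1
    · rw [hv1]; exact one_mem _
    obtain ⟨i, hi⟩ := htr (by rw [← hn, h.card_sylow Q]) t ht ht1 v hv hv1
    have hc : Commute (g ^ i) t := Commute.zpow_left hgt i
    rw [hc.eq, mul_inv_cancel_right] at hi
    rw [← hi]
    exact mem_zpowers t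
  have h1 := card_le_of_le hle
  rw [h.card_sylow Q, Nat.card_zpowers] at h1
  have h2 : orderOf t ≤ 2 :=
    Nat.le_of_dvd two_pos (orderOf_dvd_of_pow_eq_one (by rw [pow_two]; exact h.sq_eq Q ht))
  have := h.three_le
  omega

theorem orderOf_two (h : Bad p G) (Q : Sylow 2 G) {t : G} (ht : t ∈ (Q : Subgroup G)) (ht1 : t ≠ 1) :
    orderOf t = 2 :=
  orderOf_eq_prime (by rw [pow_two]; exact h.sq_eq Q ht) ht1

theorem exists_sylow_mem {t : G} (ht : orderOf t = 2) : ∃ Q : Sylow 2 G, t ∈ (Q : Subgroup G) := by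
  obtain ⟨Q, hQ⟩ := (IsPGroup.of_card (n := 1)
    (by rw [Nat.card_zpowers, ht, pow_one] : Nat.card (zpowers t) = 2 ^ 1)).exists_le_sylow
  exact ⟨Q, hQ (mem_zpowers t)⟩

/-- All involutions are conjugate. -/
theorem conj_inv (h : Bad p G) {s t : G} (hs : orderOf s = 2) (ht : orderOf t = 2) :
    ∃ g : G, g * s * g⁻¹ = t := by
  obtain ⟨Qs, hsQ⟩ := exists_sylow_mem hs
  obtain ⟨Qt, htQ⟩ := exists_sylow_mem ht
  obtain ⟨g, rfl⟩ := MulAction.exists_smul_eq G Qs Qt
  have hm : g * s * g⁻¹ ∈ ((g • Qs : Sylow 2 G) : Subgroup G) := by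
    rw [Sylow.coe_subgroup_smul]
    exact ⟨s, hsQ, rfl⟩
  obtain ⟨a, -, -, htr⟩ := h.trans (g • Qs)
  obtain ⟨i, hi⟩ := htr _ hm (fun e => Involution.ne_one_of_orderOf hs (conj_eq_one_iff.1 e)) t htQ
    (Involution.ne_one_of_orderOf ht)
  exact ⟨a ^ i * g, by rw [← hi]; group⟩

/-- Proper subgroups of even order: normal Sylow `p`-subgroup or inside a Sylow `2`-normalizer. -/
theorem dichotomy (h : Bad p G) {L : Subgroup G} (hL : L ≠ ⊤) (h2 : 2 ∣ Nat.card L)
    (R : Sylow p L) :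
    (R : Subgroup L).Normal ∨ ∃ Q : Sylow 2 G, (Q : Subgroup G) ≤ L ∧
      L ≤ normalizer ((Q : Subgroup G) : Set G) := by
  classical
  have hp : p.Prime := hpf.out
  by_cases hfull : ∃ V : Subgroup L, IsPGroup 2 V ∧ Nat.card V = p + 1
  swap
  · push Not at hfull
    left
    refine (of_control (h.base.sub L).mix h.ne_two ?_ h2).2 R
    intro V hV g hg hgp
    exact mem_centralizer_of_small hV (lt_of_le_of_ne ((h.base.sub L).small V hV) (hfull V hV)) hg hgp
  haveI : Group.IsSolvable L :=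
    FGS77.isSolvable_of_primes_subset_pair hp Nat.prime_two fun r hr hd => h.ih L hL h2 r hr hd
  set T := Cfsg.pCore 2 L with hT
  have hTc := (h.base.sub L).small T (Fitting.pCore_isPGroup 2)
  by_cases hTf : Nat.card T = p + 1
  · right
    obtain ⟨Q, hQ⟩ := ((Fitting.pCore_isPGroup (G := L) 2).map L.subtype).exists_le_sylow
    have hQe : T.map L.subtype = (Q : Subgroup G) := eq_of_le_of_card_ge hQ (by
      rw [card_map_of_injective L.subtype_injective, hTf, h.card_sylow Q])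
    refine ⟨Q, hQe ▸ map_subtype_le T, ?_⟩
    rw [← hQe]
    intro x hx
    refine mem_normalizer_iff_map_conj_eq.2 (eq_of_le_of_card_ge ?_
      (card_map_of_injective (MulAut.conj x).injective).ge)
    rintro _ ⟨_, ⟨t, ht, rfl⟩, rfl⟩
    exact ⟨(⟨x, hx⟩ : L) * t * (⟨x, hx⟩ : L)⁻¹, Subgroup.Normal.conj_mem inferInstance t ht _, rfl⟩
  left
  have hRT : (R : Subgroup L) ≤ centralizer (T : Set L) := by
    intro x hx
    obtain ⟨k, hk⟩ := IsPGroup.iff_orderOf.mp R.isPGroup' ⟨x, hx⟩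
    exact mem_centralizer_of_small (Fitting.pCore_isPGroup 2) (lt_of_le_of_ne hTc hTf)
      (by rw [normalizer_eq_top]; exact mem_top _) ⟨k, by rwa [Subgroup.orderOf_mk] at hk⟩
  set C := Cfsg.pCore p L with hC
  have hCR : C ≤ (R : Subgroup L) := Fitting.pCore_le_sylow R
  haveI hRab : IsMulCommutative (R : Subgroup L) := (h.base.sub L).ab R R.isPGroup'
  have hbot : ∀ s : Nat.Primes, (s : ℕ) ≠ 2 → (s : ℕ) ≠ p → Cfsg.pCore (s : ℕ) L = ⊥ := by
    intro s hs2 hsp
    haveI := Fact.mk s.2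
    by_contra hne
    haveI : Nontrivial (Cfsg.pCore (s : ℕ) L) := (Subgroup.nontrivial_iff_ne_bot _).2 hne
    obtain ⟨n, hn0, hn⟩ := (Fitting.pCore_isPGroup (G := L) (s : ℕ)).nontrivial_iff_card.1
      ‹Nontrivial (Cfsg.pCore (s : ℕ) L)›
    rcases h.ih L hL h2 s s.2 ((hn ▸ dvd_pow_self _ hn0.ne').trans (card_subgroup_dvd_card _)) with e | e
    exacts [hsp e, hs2 e]
  have hF : Cfsg.fittingSubgroup L ≤ T ⊔ C := by
    rw [Fitting.fitting_eq_iSup_pCore]
    refine iSup_le fun s => ?_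
    by_cases hs2 : (s : ℕ) = 2
    · rw [hs2]; exact le_sup_left
    by_cases hsp : (s : ℕ) = p
    · rw [hsp]; exact le_sup_right
    rw [hbot s hs2 hsp]
    exact bot_le
  have hcent : (R : Subgroup L) ≤ centralizer ((T ⊔ C : Subgroup L) : Set L) := by
    refine le_centralizer_iff.1 (sup_le (le_centralizer_iff.1 hRT) ?_)
    refine le_centralizer_iff.1 fun x hx => mem_centralizer_iff.2 fun y hy => ?_
    exact congrArg Subtype.val (mul_comm' (⟨y, hCR hy⟩ : (R : Subgroup L)) ⟨x, hx⟩)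
  have hRF : (R : Subgroup L) ≤ T ⊔ C :=
    ((hcent.trans (centralizer_le (SetLike.coe_subset_coe.2 hF))).trans
      Fitting.centralizer_fitting_le).trans hF
  have hRC : (R : Subgroup L) = C := by
    refine le_antisymm (fun x hx => ?_) hCR
    obtain ⟨a, ha, b, hb, rfl⟩ := mem_sup_of_normal_right.1 (hRF hx)
    have haR : a ∈ (R : Subgroup L) := ((R : Subgroup L).mul_mem_cancel_right (hCR hb)).1 hx
    have : a = 1 := by
      rw [← mem_bot, ← (IsPGroup.disjoint_of_ne 2 p (Ne.symm h.ne_two) T R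
        (Fitting.pCore_isPGroup 2) R.isPGroup').eq_bot]
      exact ⟨ha, haR⟩
    rw [this, one_mul]
    exact hb
  rw [hRC]
  infer_instance

/-- A Sylow `p`-subgroup containing a given `p`-subgroup of `L` has normal trace, or `L` lies in a
Sylow `2`-normalizer. -/
theorem dichotomy_le (h : Bad p G) {L : Subgroup G} (hL : L ≠ ⊤) {t : G} (ht : orderOf t = 2)
    (htL : t ∈ L) (P : Sylow p G) (hPL : (P : Subgroup G) ≤ L) :
    L ≤ normalizer ((P : Subgroup G) : Set G) ∨ ∃ Q : Sylow 2 G, (Q : Subgroup G) ≤ L ∧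
      L ≤ normalizer ((Q : Subgroup G) : Set G) := by
  rcases h.dichotomy hL (two_dvd_of_mem ht htL) (P.subtype hPL) with hn | hQ
  · left
    have hn' : ((P : Subgroup G).subgroupOf L).Normal := hn
    exact le_normalizer_of_normal_subgroupOf hPL
  · exact Or.inr hQ

/-- An involution inverting a nontrivial `p`-element normalizes the Sylow subgroups containing it. -/
theorem inv_normalizes (h : Bad p G) {s x : G} (hs : orderOf s = 2) (hx1 : x ≠ 1)
    (hinv : s * x * s⁻¹ = x⁻¹) (P : Sylow p G) (hxP : x ∈ (P : Subgroup G)) :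
    s ∈ normalizer ((P : Subgroup G) : Set G) := by
  have hzP : zpowers x ≤ (P : Subgroup G) := zpowers_le.2 hxP
  have hL := h.normalizer_ne_top (P.isPGroup'.to_le hzP) (by rwa [Ne, zpowers_eq_bot])
  set L := normalizer ((zpowers x : Subgroup G) : Set G)
  have hsL : s ∈ L := by
    refine mem_normalizer_iff_map_conj_eq.2 ?_
    rw [MonoidHom.map_zpowers]
    show zpowers (s * x * s⁻¹) = zpowers x
    rw [hinv, zpowers_inv]
  have hPL : (P : Subgroup G) ≤ L := by
    refine le_trans (fun y hy => ?_) (centralizer_le_normalizer _)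
    exact mem_centralizer_iff.2 fun z hz => h.comm_p P.isPGroup' (hzP hz) hy
  rcases h.dichotomy_le hL hs hsL P hPL with hn | ⟨Q, hQL, hLQ⟩
  · exact hn hsL
  exfalso
  -- `s` lies in the normal Sylow `2`-subgroup
  have hsQ : s ∈ (Q : Subgroup G) := mem_of_normalizer_sylow Q (hLQ hsL) ⟨1, by rw [hs, pow_one]⟩
  have hxN := hLQ (le_normalizer (mem_zpowers x))
  have hm : s * x * s⁻¹ * x⁻¹ ∈ (Q : Subgroup G) := by
    have h1 : x * s⁻¹ * x⁻¹ ∈ (Q : Subgroup G) := (mem_normalizer_iff.1 hxN _).1 (inv_mem hsQ)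
    have := mul_mem hsQ h1
    rwa [show s * (x * s⁻¹ * x⁻¹) = s * x * s⁻¹ * x⁻¹ by group] at this
  have hm' : x⁻¹ * x⁻¹ ∈ (P : Subgroup G) := mul_mem (inv_mem hxP) (inv_mem hxP)
  rw [hinv] at hm
  have h1 : x⁻¹ * x⁻¹ = 1 := by
    rw [← mem_bot, ← (IsPGroup.disjoint_of_ne p 2 h.ne_two (P : Subgroup G) Q P.isPGroup'
      Q.isPGroup').eq_bot]
    exact ⟨hm', hm⟩
  obtain ⟨k, hk⟩ := IsPGroup.iff_orderOf.mp P.isPGroup' ⟨x, hxP⟩
  rw [Subgroup.orderOf_mk] at hk
  have h2 : orderOf x ∣ 2 := by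
    rw [← orderOf_inv]
    exact orderOf_dvd_of_pow_eq_one (by rw [pow_two, h1])
  rcases (Nat.dvd_prime Nat.prime_two).1 h2 with h3 | h3
  · exact hx1 (orderOf_eq_one_iff.1 h3)
  · exact h.ne_two ((Nat.prime_dvd_prime_iff_eq Nat.prime_two hpf.out).1
      (Nat.prime_two.dvd_of_dvd_pow (show 2 ∣ p ^ k by rw [← hk, h3]))).symm

theorem sylow_two_normalizes_conj (h : Bad p G) {t : G} (ht : orderOf t = 2) :
    ∃ Q : Sylow 2 G, t ∈ (Q : Subgroup G) ∧ (Q : Subgroup G) ≤ centralizer ({t} : Set G) := by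
  obtain ⟨Q, hQ⟩ := exists_sylow_mem ht
  exact ⟨Q, hQ, fun u hu => mem_centralizer_singleton_iff.2 (h.comm_two Q hu hQ)⟩

/-- Two noncommuting involutions have a nontrivial product of `p`-power order. -/
theorem product_orderOf (h : Bad p G) {s t : G} (hs : orderOf s = 2) (ht : orderOf t = 2)
    (hne : s * t ≠ t * s) : ∃ m : ℕ, orderOf ((s * t) ^ m) = p := by
  have hinv : s * (s * t) * s⁻¹ = (s * t)⁻¹ := by
    rw [mul_inv_rev, Involution.inv_of_orderOf hs, Involution.inv_of_orderOf ht]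
    rw [← mul_assoc s s, Involution.mul_self_of_orderOf hs, one_mul]
  by_contra hnp
  push Not at hnp
  set n := orderOf (s * t) with hn
  -- every prime divisor of the order is `2`
  have hprime : ∀ r : ℕ, r.Prime → r ∣ n → r = 2 := by
    intro r hr hd
    by_contra hr2
    have ho : orderOf ((s * t) ^ (n / r)) = r := by
      rw [orderOf_pow, ← hn, Nat.gcd_eq_right (Nat.div_dvd_of_dvd hd),
        Nat.div_div_self hd (orderOf_pos _).ne']
    by_cases hrp : r = p
    · exact hnp _ (ho.trans hrp)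
    haveI := Fact.mk hr
    have h1 := noNorm h.base.mix h.ne_two hrp hr2 (V := zpowers s) (R := zpowers ((s * t) ^ (n / r)))
      (IsPGroup.of_card (n := 1) (by rw [Nat.card_zpowers, hs, pow_one]))
      (by rw [Ne, zpowers_eq_bot]; exact Involution.ne_one_of_orderOf hs)
      (IsPGroup.of_card (n := 1) (by rw [Nat.card_zpowers, ho, pow_one]))
      (Or.inr (zpowers_le.2 (mem_normalizer_iff_map_conj_eq.2 (by
        rw [MonoidHom.map_zpowers]
        show zpowers (s * (s * t) ^ (n / r) * s⁻¹) = _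
        rw [← conj_pow, hinv, inv_pow, zpowers_inv]))))
    rw [zpowers_eq_bot] at h1
    rw [h1, orderOf_one] at ho
    exact hr.ne_one ho.symm
  -- then the two involutions lie in a Sylow `2`-subgroup
  have h2 : IsPGroup 2 (closure ({s, t} : Set G)) := by
    have hsn : s ∈ normalizer ((zpowers (s * t) : Subgroup G) : Set G) := by
      refine mem_normalizer_iff_map_conj_eq.2 ?_
      rw [MonoidHom.map_zpowers]
      show zpowers (s * (s * t) * s⁻¹) = _
      rw [hinv, zpowers_inv]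
    have hle : closure ({s, t} : Set G) ≤ zpowers s ⊔ zpowers (s * t) := by
      rw [closure_le]
      have hsm : s ∈ zpowers s ⊔ zpowers (s * t) := mem_sup_left (mem_zpowers s)
      intro a ha
      rcases ha with ha | ha
      · rw [ha]; exact hsm
      · have := mul_mem (inv_mem hsm) (mem_sup_right (mem_zpowers (s * t)))
        rw [inv_mul_cancel_left] at this
        rw [ha]; exact this
    refine IsPGroup.to_le ?_ hle
    have hd := card_sup_dvd (zpowers_le.2 hsn)
    rw [Nat.card_zpowers, Nat.card_zpowers, hs,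
      Nat.eq_prime_pow_of_unique_prime_dvd (orderOf_pos _).ne' (fun {r} hr hd => hprime r hr hd),
      ← pow_succ'] at hd
    obtain ⟨j, -, hj⟩ := (Nat.dvd_prime_pow Nat.prime_two).1 hd
    exact IsPGroup.of_card hj
  obtain ⟨Q, hQ⟩ := h2.exists_le_sylow
  exact hne (h.comm_two Q (hQ (subset_closure (Or.inl rfl))) (hQ (subset_closure (Or.inr rfl))))

/-- Noncommuting involutions invert a common element of order `p`. -/
theorem exists_inverted_of_not_comm (h : Bad p G) {s t : G} (hs : orderOf s = 2)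
    (ht : orderOf t = 2) (hne : s * t ≠ t * s) :
    ∃ x : G, orderOf x = p ∧ s * x * s⁻¹ = x⁻¹ ∧ t * x * t⁻¹ = x⁻¹ ∧
      ∃ m : ℕ, x = (s * t) ^ m := by
  obtain ⟨m, hm⟩ := h.product_orderOf hs ht hne
  have e1 : s * (s * t) * s⁻¹ = (s * t)⁻¹ := by
    rw [mul_inv_rev, Involution.inv_of_orderOf hs, Involution.inv_of_orderOf ht]
    rw [← mul_assoc s s, Involution.mul_self_of_orderOf hs, one_mul]
  have e2 : t * (s * t) * t⁻¹ = (s * t)⁻¹ := by
    rw [mul_inv_rev, Involution.inv_of_orderOf hs, Involution.inv_of_orderOf ht]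
    rw [mul_assoc t (s * t) t, mul_assoc s t t, Involution.mul_self_of_orderOf ht, mul_one]
  exact ⟨(s * t) ^ m, hm, by rw [← conj_pow, e1, inv_pow], by rw [← conj_pow, e2, inv_pow], m, rfl⟩

theorem exists_not_comm (h : Bad p G) : ∃ s t : G, orderOf s = 2 ∧ orderOf t = 2 ∧ s * t ≠ t * s := by
  by_contra hc
  push Not at hc
  obtain ⟨t, ht⟩ := exists_prime_orderOf_dvd_card' (G := G) 2 h.two
  set N := closure {s : G | orderOf s = 2} with hN
  haveI hNab : IsMulCommutative N :=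
    isMulCommutative_closure fun a ha b hb => hc a b ha hb
  have hNn : N.Normal := by
    refine ⟨fun x hx g => ?_⟩
    induction hx using closure_induction with
    | mem z hz =>
      refine subset_closure ?_
      show orderOf (g * z * g⁻¹) = 2
      rw [show g * z * g⁻¹ = MulAut.conj g z from rfl, MulEquiv.orderOf_eq]
      exact hz
    | one => simp
    | mul a b _ _ ha hb =>
      rw [show g * (a * b) * g⁻¹ = g * a * g⁻¹ * (g * b * g⁻¹) by group]
      exact mul_mem ha hb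
    | inv a _ ha =>
      rw [show g * a⁻¹ * g⁻¹ = (g * a * g⁻¹)⁻¹ by group]
      exact inv_mem ha
  rcases h.simple N hNn with hb | hT
  · exact Involution.ne_one_of_orderOf ht (by
      rw [← mem_bot, ← hb]; exact subset_closure (show orderOf t = 2 from ht))
  · refine Involution.ne_one_of_orderOf ht ?_
    rw [← mem_bot, ← h.center_eq, mem_center_iff]
    intro g
    exact congrArg Subtype.val (mul_comm' (⟨g, hT ▸ mem_top g⟩ : N) ⟨t, hT ▸ mem_top t⟩)

end Bad

end Cfsg.Agent.FGS76.Mix
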