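import Cfsg.Agent.FGS76.PlaneCount
import Cfsg.Agent.Lib.Thompson.Cores
import Cfsg.Prelude.Def_Perm

/-!
Solvable automorphism groups of an elementary abelian group, transitive on lines and planes, and
the corresponding extensions as groups of semiaffine maps.
-/

set_option autoImplicit false

namespace Cfsg.Agent.FGS76.NormAff

open Subgroup

section Linear

variable {E : Type*} [CommGroup E] [Finite E] {p : ℕ} [hpF : Fact p.Prime] {M : Type*} [Group M]
  [Finite M]

set_option maxHeartbeats 1000000 in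
/-- The semilinear description. -/
theorem semilinear (he : ∀ x : E, x ^ p = 1) {n : ℕ} (hn : 3 ≤ n) (hcard : Nat.card E = p ^ n)
    (ψ : M →* MulAut E) (hsol : Group.IsSolvable ψ.range)
    (h1 : ∀ v w : E, v ≠ 1 → w ≠ 1 → ∃ (m : M) (k : ℕ), ψ m v ^ k = w)
    (h2 : ∀ A B : Subgroup E, Nat.card A = p ^ 2 → Nat.card B = p ^ 2 →
      ∃ m : M, A.map (ψ m).toMonoidHom = B) :
    (n = 3 ∨ (n = 5 ∧ p = 2)) ∧
    ∃ pl : ℕ, pl * ((p ^ 2 - 1) * (p ^ 2 - p)) = (p ^ n - 1) * (p ^ n - p) ∧
      pl ∣ Nat.card ψ.range ∧ Nat.card ψ.range ∣ n * (p ^ n - 1) ∧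
    ∃ (F : Type) (_ : Field F) (_ : Fintype F) (e : E ≃ F), Fintype.card F = p ^ n ∧
      (∀ x y, e (x * y) = e x + e y) ∧
      (∀ m : M, ∃ (a : F) (σ : F ≃+* F), a ≠ 0 ∧ ∀ v, e (ψ m v) = a * σ (e v)) ∧
      ((Nat.card ψ.range).Coprime n → ∀ m : M, ∃ a : F, a ≠ 0 ∧ ∀ v, e (ψ m v) = a * e v) := by
  classical
  have hp : p.Prime := Fact.out
  haveI iM : Module (ZMod p) (Additive E) := AddCommGroup.zmodModule (n := p) (fun x => by
    show Additive.ofMul (x.toMul ^ p) = 0
    rw [he]; rfl)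
  let V := Additive E
  have hcV : Nat.card (Additive E) = p ^ n := (Nat.card_congr Additive.toMul).trans hcard
  haveI : Nontrivial (Additive E) := Finite.one_lt_card_iff_nontrivial.1 (by
    rw [hcV]; exact Nat.one_lt_pow (by omega) hp.one_lt)
  haveI : Finite (Additive E ≃ₗ[ZMod p] Additive E) := Finite.of_injective
    (fun f : Additive E ≃ₗ[ZMod p] Additive E => f.toEquiv) LinearEquiv.toEquiv_injective
  let toLin : MulAut E →* (Additive E ≃ₗ[ZMod p] Additive E) := MonoidHom.mk'
    (fun f => (MulEquiv.toAdditive f).toLinearEquiv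
      (fun c x => ZMod.map_smul (MulEquiv.toAdditive f) c x))
    (fun f g => LinearEquiv.ext fun x => by rfl)
  let scal : (ZMod p)ˣ →* (Additive E ≃ₗ[ZMod p] Additive E) := MonoidHom.mk'
    (fun k => LinearEquiv.smulOfUnit k) (fun k k' => LinearEquiv.ext fun x => mul_smul k k' x)
  let ρ0 : (ZMod p)ˣ × ψ.range →* (Additive E ≃ₗ[ZMod p] Additive E) :=
    MonoidHom.noncommCoprod scal (toLin.comp ψ.range.subtype)
      (fun k r => LinearEquiv.ext fun x => (map_smul (toLin r) (k : ZMod p) x).symm)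
  have hρ0 : ∀ (k : (ZMod p)ˣ) (r : ψ.range) (x : Additive E),
      ρ0 (k, r) x = (k : ZMod p) • Additive.ofMul ((r : MulAut E) x.toMul) := fun k r x => rfl
  have hsolG : Group.IsSolvable ρ0.range := solvable_of_surjective ρ0.rangeRestrict_surjective
  have htrans : ∀ v w : Additive E, v ≠ 0 → w ≠ 0 → ∃ g : ρ0.range, ρ0.range.subtype g v = w := by
    intro v w hv hw
    obtain ⟨m, k, hk⟩ := h1 v.toMul w.toMul (fun e => hv (by rw [← ofMul_toMul v, e]; rfl))
      (fun e => hw (by rw [← ofMul_toMul w, e]; rfl))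
    have hk0 : (k : ZMod p) ≠ 0 := by
      rw [Ne, ZMod.natCast_eq_zero_iff]
      rintro ⟨j, rfl⟩
      apply hw
      rw [pow_mul, he, one_pow] at hk
      rw [← ofMul_toMul w, ← hk]
      rfl
    refine ⟨⟨ρ0 (Units.mk0 _ hk0, ⟨ψ m, m, rfl⟩), _, rfl⟩, ?_⟩
    show ρ0 (Units.mk0 _ hk0, ⟨ψ m, m, rfl⟩) v = w
    rw [hρ0, Units.val_mk0, Nat.cast_smul_eq_nsmul, ← ofMul_pow]
    exact congrArg Additive.ofMul hk
  -- planes
  let Pl := {A : Subgroup E // Nat.card A = p ^ 2}
  have hpl : Nat.card Pl * ((p ^ 2 - 1) * (p ^ 2 - p)) = (p ^ n - 1) * (p ^ n - p) := by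
    rw [← hcard]; exact Planes.card_planes he
  obtain ⟨A0⟩ : Nonempty Pl := by
    by_contra hne
    rw [not_nonempty_iff] at hne
    rw [Nat.card_of_isEmpty, zero_mul] at hpl
    have h3 : p ^ 1 < p ^ n := Nat.pow_lt_pow_right hp.one_lt (by omega)
    rw [pow_one] at h3
    have h4 := hp.two_le
    exact absurd hpl.symm (Nat.mul_ne_zero (by omega) (by omega))
  have hmapcard : ∀ (r : MulAut E) (A : Pl), Nat.card (A.1.map r.toMonoidHom) = p ^ 2 := fun r A => by
    rw [card_map_of_injective r.injective]; exact A.2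
  letI act : MulAction ψ.range Pl :=
    { smul := fun r A => ⟨A.1.map (r : MulAut E).toMonoidHom, hmapcard _ A⟩
      one_smul := fun A => Subtype.ext (Subgroup.map_id A.1)
      mul_smul := fun r r' A => Subtype.ext (by
        show A.1.map ((r * r' : ψ.range) : MulAut E).toMonoidHom =
          (A.1.map (r' : MulAut E).toMonoidHom).map (r : MulAut E).toMonoidHom
        rw [Subgroup.map_map]
        rfl) }
  have horb : MulAction.orbit ψ.range A0 = Set.univ := Set.eq_univ_of_forall fun B => by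
    obtain ⟨m, hm⟩ := h2 A0.1 B.1 A0.2 B.2
    exact ⟨⟨ψ m, m, rfl⟩, Subtype.ext hm⟩
  have hpldvd : Nat.card Pl ∣ Nat.card ψ.range := by
    have h3 := (MulAction.stabilizer ψ.range A0).index_dvd_card
    rwa [MulAction.index_stabilizer, horb, Set.ncard_univ] at h3
  choose r hr using fun B : Pl => (horb ▸ Set.mem_univ B : B ∈ MulAction.orbit ψ.range A0)
  -- the bound
  let ι : ψ.range →* ρ0.range := ρ0.rangeRestrict.comp (MonoidHom.inr _ _)
  have hι : ∀ (x : ψ.range) (v : Additive E),
      (ι x : Additive E ≃ₗ[ZMod p] Additive E) v = Additive.ofMul ((x : MulAut E) v.toMul) := by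
    intro x v
    show ρ0 (1, x) v = _
    rw [hρ0, Units.val_one, one_smul]
  have hιinj : Function.Injective ι := by
    intro a b hab
    refine Subtype.ext (MulEquiv.ext fun x => ?_)
    have h3 := congrArg (fun z : ρ0.range => (z : Additive E ≃ₗ[ZMod p] Additive E) (Additive.ofMul x)) hab
    simp only [hι] at h3
    exact h3
  have hrdvd : Nat.card ψ.range ∣ Nat.card ρ0.range := Subgroup.card_dvd_of_injective ι hιinj
  have hle : Nat.card Pl * (p - 1) ≤ Nat.card ρ0.range := by
    have hunits : Nat.card (ZMod p)ˣ = p - 1 := by rw [Nat.card_units, Nat.card_zmod]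
    rw [← hunits, ← Nat.card_prod]
    refine Nat.card_le_card_of_injective
      (fun x => (⟨ρ0 (x.2, r x.1), _, rfl⟩ : ρ0.range)) ?_
    rintro ⟨A, k⟩ ⟨B, k'⟩ h
    have h' : ∀ x : E, (k : ZMod p) • Additive.ofMul ((r A : MulAut E) x) =
        (k' : ZMod p) • Additive.ofMul ((r B : MulAut E) x) := fun x =>
      congrArg (fun z : ρ0.range => (z : Additive E ≃ₗ[ZMod p] Additive E) (Additive.ofMul x)) h
    have hAB : A = B := by
      refine Subtype.ext (Subgroup.eq_of_le_of_card_ge (fun y hy => ?_) (B.2.trans A.2.symm).le)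
      rw [← hr A] at hy
      obtain ⟨x, hx, rfl⟩ := hy
      have h3 : Additive.ofMul ((r A : MulAut E) x) =
          ((k⁻¹ * k' : (ZMod p)ˣ) : ZMod p) • Additive.ofMul ((r B : MulAut E) x) := by
        rw [Units.val_mul, mul_smul, ← h' x, ← mul_smul, ← Units.val_mul, inv_mul_cancel,
          Units.val_one, one_smul]
      rw [← ZMod.natCast_zmod_val ((k⁻¹ * k' : (ZMod p)ˣ) : ZMod p), Nat.cast_smul_eq_nsmul,
        ← ofMul_pow] at h3
      show (r A : MulAut E) x ∈ B.1
      rw [Additive.ofMul.injective h3]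
      refine pow_mem ?_ _
      have h5 : (r B : MulAut E) x ∈ (r B • A0).1 := ⟨x, hx, rfl⟩
      exact (congrArg Subtype.val (hr B)).le h5
    subst hAB
    obtain ⟨x, hx⟩ := exists_ne (0 : Additive E)
    have h3 := h' ((r A : MulAut E).symm x.toMul)
    rw [MulEquiv.apply_symm_apply, ofMul_toMul] at h3
    rw [Units.ext (smul_left_injective (ZMod p) hx h3)]
  rcases Huppert69.semilinear_or_exceptional (q := p) (ρ := ρ0.range.subtype) hsolG
      Subtype.coe_injective htrans with ⟨F, fF, ftF, e, hsl⟩ | ⟨⟨A, B, s, hctx⟩, hV⟩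
  · -- semilinear
    choose a σ hσ using hsl
    have hcF : Fintype.card F = p ^ n := by
      rw [← Nat.card_eq_fintype_card, ← Nat.card_congr e.toEquiv, hcV]
    have ha : ∀ g, a g ≠ 0 := fun g h0 => by
      have h3 := hσ g (e.symm 1)
      rw [h0, zero_mul, EmbeddingLike.map_eq_zero_iff, EmbeddingLike.map_eq_zero_iff,
        EmbeddingLike.map_eq_zero_iff] at h3
      exact one_ne_zero h3
    have huniq : ∀ g (a' : F) (σ' : F ≃+* F),
        (∀ v, e (ρ0.range.subtype g v) = a' * σ' (e v)) → a g = a' ∧ σ g = σ' := by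
      intro g a' σ' h'
      have h3 : a g = a' := by
        have h4 := (hσ g (e.symm 1)).symm.trans (h' (e.symm 1))
        simpa using h4
      refine ⟨h3, RingEquiv.ext fun x => ?_⟩
      have h4 := (hσ g (e.symm x)).symm.trans (h' (e.symm x))
      rw [AddEquiv.apply_symm_apply, ← h3] at h4
      exact mul_left_cancel₀ (ha g) h4
    have hmul : ∀ g g' : ρ0.range, a (g * g') = a g * σ g (a g') ∧ σ (g * g') = σ g * σ g' := by
      intro g g'
      refine huniq _ _ _ fun v => ?_
      show e (ρ0.range.subtype g (ρ0.range.subtype g' v)) = _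
      rw [hσ, hσ, map_mul, mul_assoc]
      rfl
    let S : ρ0.range →* (F ≃+* F) := MonoidHom.mk' σ fun g g' => (hmul g g').2
    let T : S.ker →* Fˣ := MonoidHom.mk' (fun g => Units.mk0 (a g.1) (ha g.1)) fun g g' =>
      Units.ext (by
        show a (g.1 * g'.1) = a g.1 * a g'.1
        have h3 : σ g.1 = 1 := g.2
        rw [(hmul _ _).1, h3]
        rfl)
    have hTinj : Function.Injective T := by
      intro g g' h
      have h3 : a g.1 = a g'.1 := congrArg Units.val h
      have h4 : σ g.1 = σ g'.1 := g.2.trans g'.2.symm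
      refine Subtype.ext (Subtype.ext (LinearEquiv.ext fun v => e.injective ?_))
      show e (ρ0.range.subtype g.1 v) = e (ρ0.range.subtype g'.1 v)
      rw [hσ, hσ, h3, h4]
    haveI : Finite (F ≃+* F) := Finite.of_injective (fun f : F ≃+* F => (f : F → F)) DFunLike.coe_injective
    have hAut : Nat.card (F ≃+* F) = n := CG26.card_fieldAut p n hcF
    have hG : Nat.card ρ0.range ∣ n * (p ^ n - 1) := by
      rw [Subgroup.card_eq_card_quotient_mul_card_subgroup S.ker,
        Nat.card_congr (QuotientGroup.quotientKerEquivRange S).toEquiv]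
      refine Nat.mul_dvd_mul (hAut ▸ Subgroup.card_subgroup_dvd_card _) ?_
      have h3 := Subgroup.card_dvd_of_injective T hTinj
      rwa [Nat.card_units, Nat.card_eq_fintype_card (α := F), hcF] at h3
    refine ⟨Planes.cases_of_bound hp hn hpl (hpldvd.trans hrdvd) hle hG,
      Nat.card Pl, hpl, hpldvd, hrdvd.trans hG, F, fF, ftF,
      Additive.ofMul.trans e.toEquiv, hcF, fun x y => e.map_add (Additive.ofMul x) (Additive.ofMul y),
      fun m => ?_, fun hcop m => ?_⟩
    · refine ⟨_, σ (ι ⟨ψ m, m, rfl⟩), ha (ι ⟨ψ m, m, rfl⟩), fun v => ?_⟩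
      exact (congrArg e (hι ⟨ψ m, m, rfl⟩ (Additive.ofMul v))).symm.trans
        (hσ (ι ⟨ψ m, m, rfl⟩) (Additive.ofMul v))
    · refine ⟨_, ha (ι ⟨ψ m, m, rfl⟩), fun v => ?_⟩
      have h3 : σ (ι ⟨ψ m, m, rfl⟩) = 1 := by
        show (S.comp ι) ⟨ψ m, m, rfl⟩ = 1
        rw [← orderOf_eq_one_iff]
        exact Nat.eq_one_of_dvd_coprimes hcop
          ((orderOf_map_dvd _ _).trans (orderOf_dvd_natCard _)) (hAut ▸ orderOf_dvd_natCard _)
      have h4 := hσ (ι ⟨ψ m, m, rfl⟩) (Additive.ofMul v)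
      rw [h3] at h4
      exact (congrArg e (hι ⟨ψ m, m, rfl⟩ (Additive.ofMul v))).symm.trans h4
  · exfalso
    rcases hV with h81 | ⟨hsq, -⟩
    · rw [hcV] at h81
      have hp3 : p = 3 := by
        have h3 : p ∣ 3 ^ 4 := by
          rw [show 3 ^ 4 = 81 by norm_num, ← h81]; exact dvd_pow_self p (by omega)
        exact (Nat.prime_dvd_prime_iff_eq hp Nat.prime_three).1 (hp.dvd_of_dvd_pow h3)
      subst hp3
      have hn4 : n = 4 := Nat.pow_right_injective (le_refl 2 |>.trans (by norm_num : 2 ≤ 3))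
        (show 3 ^ n = 3 ^ 4 by rw [h81])
      subst hn4
      have h130 : Nat.card Pl = 130 := by norm_num at hpl; omega
      haveI := hctx.normal_A
      haveI := hctx.normalB
      haveI := hctx.isMulCommutative_A
      haveI := hctx.isMulCommutative_sec
      haveI := hctx.isMulCommutative_alg
      exact Planes.no_thirteen hctx (hcV.trans (by norm_num))
        (((show 13 ∣ Nat.card Pl by rw [h130]; norm_num).trans hpldvd).trans hrdvd)
    · rw [hcV] at hsq
      have := Nat.pow_right_injective hp.two_le hsq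
      omega

end Linear

section Affine

variable {N : Type*} [Group N] [Finite N] {p n : ℕ} [Fact p.Prime]

/-- A normal subgroup of order prime to `p` centralises a normal `p`-subgroup. -/
theorem pPrimeCore_commute (E : Subgroup N) [E.Normal] (hE : Nat.card E = p ^ n) {k x : N}
    (hk : k ∈ pPrimeCore p N) (hx : x ∈ E) : Commute k x := by
  refine Subgroup.commute_of_normal_of_disjoint _ _ inferInstance inferInstance ?_ k x hk hx
  rw [disjoint_iff]
  refine disjoint_iff.1 (Subgroup.disjoint_of_coprime_natCard ?_)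
  rw [hE]
  exact (Thompson.card_pPrimeCore_coprime (p := p) (G := N)).pow_right n

set_option maxHeartbeats 1000000 in
/-- The semiaffine representation. -/
theorem embed (E : Subgroup N) [E.Normal] (hn : n ≠ 0) (hE : Nat.card E = p ^ n)
    (hco : E.index.Coprime p) (F : Type) [Field F] [Fintype F] (hF : Fintype.card F = p ^ n)
    (e : E ≃ F) (hadd : ∀ x y, e (x * y) = e x + e y)
    (hsl : ∀ g : N, ∃ (a : F) (σ : F ≃+* F), a ≠ 0 ∧
      ∀ v, e (MulAut.conjNormal g v) = a * σ (e v))
    (hEc : ∀ x ∈ E, ∀ y ∈ E, x * y = y * x) :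
    ∃ f : N →* Equiv.Perm (GaloisField p n), f.ker = pPrimeCore p N ∧
      Nat.card f.range = p ^ n * Nat.card (MulAut.conjNormal (H := E)).range ∧
      f.range ≤ semiaffineGroup (GaloisField p n) ∧
      ((∀ g : N, ∃ a : F, a ≠ 0 ∧ ∀ v, e (MulAut.conjNormal g v) = a * e v) →
        f.range ≤ affineGroup (GaloisField p n)) := by
  classical
  obtain ⟨L, hL⟩ := exists_right_complement'_of_coprime (N := E)
    (by rw [hE]; exact hco.symm.pow_left n)
  have hdec : ∀ g : N, ∃ x : E, ∃ l ∈ L, g = x * l := fun g => by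
    obtain ⟨⟨x, l⟩, hxl, -⟩ := hL.existsUnique g
    exact ⟨x, l, l.2, hxl.symm⟩
  have hEL : ∀ x : N, x ∈ E → x ∈ L → x = 1 := fun x h h' =>
    Subgroup.mem_bot.1 (hL.disjoint.le_bot ⟨h, h'⟩)
  let ω : E ≃ N ⧸ L := Equiv.ofBijective (fun x => QuotientGroup.mk (x : N)) (by
    constructor
    · intro x y h
      have h' := QuotientGroup.eq.1 h
      exact Subtype.ext (inv_mul_eq_one.1 (hEL _ (mul_mem (inv_mem x.2) y.2) h'))
    · intro q
      obtain ⟨g, rfl⟩ := QuotientGroup.mk_surjective q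
      obtain ⟨x, l, hl, rfl⟩ := hdec g
      exact ⟨x, QuotientGroup.eq.2 (by rwa [inv_mul_cancel_left])⟩)
  haveI := Fintype.ofFinite (GaloisField p n)
  let θ : F ≃+* GaloisField p n := FiniteField.ringEquivOfCardEq (by
    rw [hF, ← Nat.card_eq_fintype_card, GaloisField.card p n hn])
  let ε : N ⧸ L ≃ GaloisField p n := ω.symm.trans (e.trans θ.toEquiv)
  let f : N →* Equiv.Perm (GaloisField p n) :=
    ε.permCongrHom.toMonoidHom.comp (MulAction.toPermHom N (N ⧸ L))
  -- the action
  have hact : ∀ (x : E) (l : N), l ∈ L → ∀ y : E,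
      ((x : N) * l) • ω y = ω (x * MulAut.conjNormal l y) := by
    intro x l hl y
    show QuotientGroup.mk ((x : N) * l * (y : N)) = QuotientGroup.mk (_ : N)
    refine QuotientGroup.eq.2 ?_
    rw [Subgroup.coe_mul, MulAut.conjNormal_apply]
    have : ((x : N) * l * y)⁻¹ * (x * (l * y * l⁻¹)) = l⁻¹ := by group
    rw [this]
    exact inv_mem hl
  have hkey : ∀ (x : E) (l : N), l ∈ L → ∀ y : E,
      f (x * l) (θ (e y)) = θ (e (MulAut.conjNormal l y)) + θ (e x) := by
    intro x l hl y
    show ε (((x : N) * l) • ε.symm (θ (e y))) = _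
    have h3 : ε.symm (θ (e y)) = ω y := by simp [ε]
    rw [h3, hact x l hl]
    simp only [ε, Equiv.trans_apply, Equiv.symm_apply_apply]
    show θ (e (x * MulAut.conjNormal l y)) = _
    rw [hadd, map_add, add_comm]
  have hfix : ∀ g : N, g ∈ f.ker ↔ ∀ q : N ⧸ L, g • q = q := by
    intro g
    rw [MonoidHom.mem_ker, MonoidHom.comp_apply, MulEquiv.coe_toMonoidHom,
      EmbeddingLike.map_eq_one_iff, Equiv.ext_iff]
    rfl
  have hkerL : f.ker ≤ L := fun g hg => by
    have h3 := (hfix g).1 hg (QuotientGroup.mk 1)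
    change QuotientGroup.mk (g * 1) = QuotientGroup.mk 1 at h3
    rw [mul_one] at h3
    simpa using QuotientGroup.eq.1 h3
  have hker : f.ker = pPrimeCore p N := by
    refine le_antisymm (Thompson.le_pPrimeCore inferInstance ?_) fun k hk => ?_
    · refine Nat.Coprime.coprime_dvd_left (Subgroup.card_dvd_of_le hkerL) ?_
      rwa [← hL.symm.index_eq_card]
    · obtain ⟨x, l, hl, rfl⟩ := hdec k
      have hc : ∀ y : E, Commute ((x : N) * l) (y : N) := fun y =>
        pPrimeCore_commute E hE hk y.2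
      have hxl : Commute (x : N) l := by
        have h3 : Commute (x : N) ((x : N)⁻¹ * ((x : N) * l)) :=
          (Commute.refl (x : N)).inv_right.mul_right (hc x).symm
        rwa [inv_mul_cancel_left] at h3
      have h4 : ((x : N) * l) ^ Nat.card (pPrimeCore p N) = 1 := by
        have h5 := congrArg Subtype.val (pow_card_eq_one' (x := (⟨_, hk⟩ : pPrimeCore p N)))
        rwa [SubgroupClass.coe_pow, OneMemClass.coe_one] at h5
      rw [hxl.mul_pow, mul_eq_one_iff_eq_inv] at h4
      have h6 : (x : N) ^ Nat.card (pPrimeCore p N) = 1 :=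
        hEL _ (pow_mem x.2 _) (by rw [h4]; exact inv_mem (pow_mem hl _))
      have h7 : (x : N) ^ (p ^ n) = 1 := by
        have h5 := congrArg Subtype.val (pow_card_eq_one' (x := x))
        rw [hE] at h5
        simpa using h5
      have h8 : (x : N) = 1 := by
        rw [← orderOf_eq_one_iff]
        exact Nat.eq_one_of_dvd_coprimes ((Thompson.card_pPrimeCore_coprime (p := p) (G := N)).pow_right n)
          (orderOf_dvd_of_pow_eq_one h6) (orderOf_dvd_of_pow_eq_one h7)
      rw [hfix]
      intro q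
      obtain ⟨y, rfl⟩ := ω.surjective q
      rw [hact x l hl]
      congr 1
      refine Subtype.ext ?_
      rw [Subgroup.coe_mul, MulAut.conjNormal_apply, h8, one_mul]
      have h9 := hc y
      rw [h8, one_mul] at h9
      rw [h9.eq, mul_inv_cancel_right]
  let ψ : N →* MulAut E := MulAut.conjNormal
  have hψE : ∀ x : E, ψ x = 1 := fun x => MulEquiv.ext fun y => Subtype.ext (by
    rw [MulAut.conjNormal_apply, hEc x x.2 y y.2, mul_inv_cancel_right]; rfl)
  have hψker : Nat.card ψ.ker = Nat.card E * Nat.card (pPrimeCore p N) := by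
    rw [← Nat.card_prod]
    have hKker : pPrimeCore p N ≤ ψ.ker := fun k hk => by
      rw [MonoidHom.mem_ker]
      refine MulEquiv.ext fun y => Subtype.ext ?_
      rw [MulAut.conjNormal_apply, (pPrimeCore_commute E hE hk y.2).eq, mul_inv_cancel_right]
      rfl
    refine (Nat.card_eq_of_bijective (fun z : E × pPrimeCore p N =>
      (⟨(z.1 : N) * z.2, mul_mem (MonoidHom.mem_ker.2 (hψE z.1)) (hKker z.2.2)⟩ : ψ.ker)) ⟨?_, ?_⟩).symm
    · rintro ⟨x, k⟩ ⟨x', k'⟩ h
      have h' : (x : N) * k = x' * k' := congrArg Subtype.val h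
      have hk : ∀ k : pPrimeCore p N, (k : N) ∈ L := fun k => hkerL (by rw [hker]; exact k.2)
      have h3 : (x' : N)⁻¹ * x = k' * (k : N)⁻¹ := by
        rw [eq_mul_inv_iff_mul_eq, mul_assoc, h', inv_mul_cancel_left]
      have h4 := hEL _ (mul_mem (inv_mem x'.2) x.2) (by rw [h3]; exact mul_mem (hk k') (inv_mem (hk k)))
      obtain rfl : x' = x := Subtype.ext (inv_mul_eq_one.1 h4)
      obtain rfl : k = k' := Subtype.ext (mul_left_cancel h')
      rfl
    · rintro ⟨g, hg⟩
      obtain ⟨x, l, hl, rfl⟩ := hdec g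
      have hl1 : ψ l = 1 := by
        have h3 := MonoidHom.mem_ker.1 hg
        rwa [map_mul, hψE, one_mul] at h3
      have hlk : l ∈ pPrimeCore p N := by
        rw [← hker, hfix]
        intro q
        obtain ⟨y, rfl⟩ := ω.surjective q
        have h3 := hact 1 l hl y
        rw [OneMemClass.coe_one, one_mul, one_mul] at h3
        rw [h3]
        exact congrArg ω (by rw [show MulAut.conjNormal l = (1 : MulAut E) from hl1]; rfl)
      exact ⟨(x, ⟨l, hlk⟩), rfl⟩
  refine ⟨f, hker, ?_, ?_, ?_⟩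
  · have h3 := Subgroup.card_eq_card_quotient_mul_card_subgroup f.ker
    rw [Nat.card_congr (QuotientGroup.quotientKerEquivRange f).toEquiv, hker] at h3
    have h4 := Subgroup.card_eq_card_quotient_mul_card_subgroup ψ.ker
    rw [Nat.card_congr (QuotientGroup.quotientKerEquivRange ψ).toEquiv, hψker, hE] at h4
    refine Nat.eq_of_mul_eq_mul_right (Nat.card_pos (α := pPrimeCore p N)) ?_
    rw [← h3, h4]
    ring
  · rintro _ ⟨g, rfl⟩
    obtain ⟨x, l, hl, rfl⟩ := hdec g
    obtain ⟨a, σ, ha, hσ⟩ := hsl l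
    refine ⟨Units.mk0 (θ a) (by simpa using ha), θ (e x), θ.symm.trans (σ.trans θ), fun v => ?_⟩
    obtain ⟨y, rfl⟩ : ∃ y, θ (e y) = v := ⟨e.symm (θ.symm v), by simp⟩
    rw [hkey x l hl, hσ, map_mul]
    simp
  · intro hlin
    rintro _ ⟨g, rfl⟩
    obtain ⟨x, l, hl, rfl⟩ := hdec g
    obtain ⟨a, ha, hσ⟩ := hlin l
    refine ⟨Units.mk0 (θ a) (by simpa using ha), θ (e x), fun v => ?_⟩
    obtain ⟨y, rfl⟩ : ∃ y, θ (e y) = v := ⟨e.symm (θ.symm v), by simp⟩
    rw [hkey x l hl, hσ, map_mul]
    simp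

/-- Bound on the semiaffine group. -/
theorem card_semiaffine_le (hn : n ≠ 0) :
    Nat.card (semiaffineGroup (GaloisField p n)) ≤ (p ^ n - 1) * p ^ n * n := by
  classical
  haveI := Fintype.ofFinite (GaloisField p n)
  set R := GaloisField p n
  haveI : Finite (R ≃+* R) := Finite.of_injective (fun f : R ≃+* R => (f : R → R)) DFunLike.coe_injective
  have hR : Nat.card R = p ^ n := GaloisField.card p n hn
  have h := Nat.card_le_card_of_surjective (α := Rˣ × R × (R ≃+* R)) (fun z =>
    (⟨(z.2.2.toEquiv.trans (Equiv.mulLeft₀ (z.1 : R) z.1.ne_zero)).trans (Equiv.addRight z.2.1),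
      z.1, z.2.1, z.2.2, fun x => rfl⟩ : semiaffineGroup R)) (by
    rintro ⟨s, a, b, φ, hs⟩
    exact ⟨(a, b, φ), Subtype.ext (Equiv.ext fun x => (hs x).symm)⟩)
  rwa [Nat.card_prod, Nat.card_prod, Nat.card_units, hR,
    CG26.card_fieldAut p n (F := R) (by rw [← Nat.card_eq_fintype_card, hR]), ← mul_assoc] at h

theorem card_affine_le (hn : n ≠ 0) :
    Nat.card (affineGroup (GaloisField p n)) ≤ (p ^ n - 1) * p ^ n := by
  classical
  set R := GaloisField p n
  have hR : Nat.card R = p ^ n := GaloisField.card p n hn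
  have h := Nat.card_le_card_of_surjective (α := Rˣ × R) (fun z =>
    (⟨(Equiv.mulLeft₀ (z.1 : R) z.1.ne_zero).trans (Equiv.addRight z.2),
      z.1, z.2, fun x => rfl⟩ : affineGroup R)) (by
    rintro ⟨s, a, b, hs⟩
    exact ⟨(a, b), Subtype.ext (Equiv.ext fun x => (hs x).symm)⟩)
  rwa [Nat.card_prod, Nat.card_units, hR] at h

end Affine

section Fusion

variable {G : Type*} [Group G] [Finite G] {p : ℕ} [Fact p.Prime]

/-- Burnside's fusion for subgroups of an abelian Sylow subgroup. -/
theorem fusion (P : Sylow p G) (hc : ∀ x ∈ (P : Subgroup G), ∀ y ∈ (P : Subgroup G), x * y = y * x)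
    {A B : Subgroup G} (hA : A ≤ P) (hB : B ≤ P) {g : G}
    (hg : B = A.map (MulAut.conj g).toMonoidHom) :
    ∃ x ∈ normalizer ((P : Subgroup G) : Set G), B = A.map (MulAut.conj x).toMonoidHom := by
  have h1 : (P : Subgroup G) ≤ centralizer (B : Set G) := fun x hx =>
    mem_centralizer_iff.2 fun y hy => hc y (hB hy) x hx
  have h2 : ((g • P : Sylow p G) : Subgroup G) ≤ centralizer (B : Set G) := by
    rw [Sylow.coe_subgroup_smul]
    rintro _ ⟨x, hx, rfl⟩
    rw [mem_centralizer_iff]
    intro y hy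
    rw [hg] at hy
    obtain ⟨a, ha, rfl⟩ := hy
    show MulAut.conj g a * MulAut.conj g x = MulAut.conj g x * MulAut.conj g a
    rw [← map_mul, ← map_mul, hc a (hA ha) x hx]
  obtain ⟨c, hc'⟩ := MulAction.exists_smul_eq (centralizer (B : Set G))
    ((g • P).subtype h2) (P.subtype h1)
  rw [Sylow.smul_subtype] at hc'
  have h3 : ((c : G) * g) • P = P := by
    rw [mul_smul]; exact Sylow.subtype_injective hc'
  refine ⟨(c : G) * g, Sylow.smul_eq_iff_mem_normalizer.1 h3, ?_⟩
  have h4 : B.map (MulAut.conj (c : G)).toMonoidHom = B := by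
    refine eq_of_le_of_card_ge ?_ (card_map_of_injective (MulAut.conj (c : G)).injective).ge
    rintro _ ⟨y, hy, rfl⟩
    show (c : G) * y * (c : G)⁻¹ ∈ B
    rwa [← mem_centralizer_iff.1 c.2 y hy, mul_inv_cancel_right]
  refine h4.symm.trans ((congrArg (Subgroup.map (MulAut.conj (c : G)).toMonoidHom) hg).trans ?_)
  rw [map_map]
  congr 1
  ext x
  simp [mul_assoc]

end Fusion

end Cfsg.Agent.FGS76.NormAff
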