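import Cfsg.Agent.FGS76.Basic
import Cfsg.Agent.Lib.CharClifford.Burnside
import Cfsg.Agent.Lib.Solvable.Hall
import Cfsg.Agent.Lib.Fitting.Minimal
import Cfsg.Agent.Lib.Thompson.Cores

/-!
Groups all of whose `p`-regular classes have `p`-power size, and groups with an abelian
`p`-complement: both are solvable.
-/

set_option autoImplicit false
set_option linter.unusedSectionVars false
set_option linter.style.haveILetI false

universe u

namespace Cfsg.Agent.FGS76

open Subgroup

/-- all classes of `p`-regular elements have `p`-power size -/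
def PRegClasses (p : ℕ) (G : Type*) [Group G] : Prop :=
  ∀ x : G, (orderOf x).Coprime p → ∃ k : ℕ, (centralizer ({x} : Set G)).index = p ^ k

/-- an abelian `p`-complement -/
def HasAbelianPCompl (p : ℕ) (G : Type*) [Group G] : Prop :=
  ∃ H : Subgroup G, IsMulCommutative H ∧ ¬ p ∣ Nat.card H ∧ ∃ k : ℕ, H.index = p ^ k

theorem relIndex_dvd_index_of_normal' {G : Type*} [Group G] [Finite G] (C N : Subgroup G)
    [N.Normal] : C.relIndex N ∣ C.index := by
  have h1 := Solvable.card_sup_mul_card_inf C N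
  have h2 : Nat.card ↥(C ⊓ N) * C.relIndex N = Nat.card N := by
    rw [← inf_relIndex_right]
    exact (Solvable.card_mul_relIndex inf_le_right)
  have h3 : Nat.card C * C.relIndex (C ⊔ N) = Nat.card ↥(C ⊔ N) :=
    Solvable.card_mul_relIndex le_sup_left
  have h4 : C.relIndex N = C.relIndex (C ⊔ N) := by
    rw [← h3, ← h2] at h1
    have hpos : 0 < Nat.card C * Nat.card ↥(C ⊓ N) := Nat.mul_pos Nat.card_pos Nat.card_pos
    refine Nat.eq_of_mul_eq_mul_left hpos ?_
    linarith
  rw [h4, ← relIndex_mul_index (le_sup_left : C ≤ C ⊔ N)]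
  exact dvd_mul_right _ _

theorem dvd_prime_pow' {p k a : ℕ} (hp : p.Prime) (h : a ∣ p ^ k) : ∃ l : ℕ, a = p ^ l := by
  obtain ⟨l, -, hl⟩ := (Nat.dvd_prime_pow hp).1 h
  exact ⟨l, hl⟩

theorem pRegClasses_quotient {p : ℕ} (hp : p.Prime) {G : Type*} [Group G] [Finite G]
    (N : Subgroup G) [N.Normal] (h : PRegClasses p G) : PRegClasses p (G ⧸ N) := by
  haveI : Fact p.Prime := ⟨hp⟩
  intro y hy
  obtain ⟨x, rfl⟩ := QuotientGroup.mk'_surjective N y
  obtain ⟨a, b, ⟨i, ha⟩, ⟨j, hb⟩, hab, ⟨e, hao⟩, hbo⟩ := exists_split p x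
  have hb' : QuotientGroup.mk' N b = QuotientGroup.mk' N x := by
    have h1 : QuotientGroup.mk' N a = 1 := by
      rw [← orderOf_eq_one_iff]
      refine Nat.eq_one_of_dvd_coprimes (hy.pow_right e) ?_ (hao ▸ orderOf_map_dvd _ a)
      rw [ha, map_pow]
      exact orderOf_pow_dvd _
    rw [← hab, map_mul, h1, one_mul]
  rw [← hb']
  obtain ⟨k, hk⟩ := h b (hp.coprime_iff_not_dvd.2 hbo).symm
  refine dvd_prime_pow' hp (k := k) ?_
  rw [← hk]
  refine (index_dvd_of_le (H := (centralizer ({b} : Set G)).map (QuotientGroup.mk' N)) ?_).trans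
    (index_map_dvd _ (QuotientGroup.mk'_surjective N))
  rintro _ ⟨c, hc, rfl⟩
  rw [mem_centralizer_singleton_iff]
  rw [← map_mul, ← map_mul, mem_centralizer_singleton_iff.1 hc]

theorem pRegClasses_subgroup {p : ℕ} (hp : p.Prime) {G : Type*} [Group G] [Finite G]
    (N : Subgroup G) [N.Normal] (h : PRegClasses p G) : PRegClasses p N := by
  intro x hx
  obtain ⟨k, hk⟩ := h (x : G) (by rwa [orderOf_coe])
  refine dvd_prime_pow' hp (k := k) ?_
  rw [← hk]
  refine dvd_trans (dvd_of_eq ?_) (relIndex_dvd_index_of_normal' (centralizer ({(x : G)} : Set G)) N)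
  show _ = ((centralizer ({(x : G)} : Set G)).subgroupOf N).index
  congr 1
  ext y
  simp [mem_subgroupOf, mem_centralizer_singleton_iff, Subtype.ext_iff]

theorem hasAbelianPCompl_quotient {p : ℕ} (hp : p.Prime) {G : Type*} [Group G] [Finite G]
    (N : Subgroup G) [N.Normal] (h : HasAbelianPCompl p G) : HasAbelianPCompl p (G ⧸ N) := by
  obtain ⟨H, hcomm, hpH, k, hk⟩ := h
  refine ⟨H.map (QuotientGroup.mk' N), ⟨⟨?_⟩⟩, fun hd => hpH (hd.trans (card_map_dvd H _)), ?_⟩
  · rintro ⟨_, a, ha, rfl⟩ ⟨_, b, hb, rfl⟩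
    apply Subtype.ext
    show QuotientGroup.mk' N a * QuotientGroup.mk' N b = _
    rw [← map_mul, show a * b = b * a from
      congrArg Subtype.val (hcomm.is_comm.comm ⟨a, ha⟩ ⟨b, hb⟩), map_mul]
    rfl
  · exact dvd_prime_pow' hp
      (hk ▸ index_map_dvd H (QuotientGroup.mk'_surjective N))

theorem hasAbelianPCompl_subgroup {p : ℕ} (hp : p.Prime) {G : Type*} [Group G] [Finite G]
    (N : Subgroup G) [N.Normal] (h : HasAbelianPCompl p G) : HasAbelianPCompl p N := by
  obtain ⟨H, hcomm, hpH, k, hk⟩ := h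
  refine ⟨H.subgroupOf N, ⟨⟨fun a b => ?_⟩⟩, fun hd => hpH (hd.trans ?_), ?_⟩
  · apply Subtype.ext
    apply Subtype.ext
    have h1 := congrArg Subtype.val
      (hcomm.is_comm.comm (⟨((a : N) : G), a.2⟩ : H) ⟨((b : N) : G), b.2⟩)
    simpa using h1
  · rw [← card_map_of_injective N.subtype_injective, subgroupOf_map_subtype]
    exact card_dvd_of_le inf_le_left
  · exact dvd_prime_pow' hp (k := k) (hk ▸ relIndex_dvd_index_of_normal' H N)

/-- a property inherited by normal subgroups and quotients, failing in nonabelian simple groups,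
forces solvability -/
theorem isSolvable_of_hereditary
    (Q : ∀ (G : Type u) [Group G], Prop)
    (hsub : ∀ (G : Type u) [Group G] [Finite G] (N : Subgroup G) [N.Normal], Q G → Q N)
    (hquot : ∀ (G : Type u) [Group G] [Finite G] (N : Subgroup G) [N.Normal], Q G → Q (G ⧸ N))
    (hsimple : ∀ (G : Type u) [Group G] [Finite G] [IsSimpleGroup G], Q G →
      ∀ a b : G, a * b = b * a) :
    ∀ (n : ℕ) (G : Type u) [Group G] [Finite G], Nat.card G = n → Q G → Group.IsSolvable G := by
  intro n
  induction n using Nat.strong_induction_on with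
  | h n ih =>
    intro G _ _ hn hG
    rcases subsingleton_or_nontrivial G with hs | hs
    · exact Group.isSolvable_of_comm fun a b => Subsingleton.elim _ _
    by_cases hsimp : IsSimpleGroup G
    · exact Group.isSolvable_of_comm (hsimple G hG)
    obtain ⟨N, hNn, hN1, hN2⟩ : ∃ N : Subgroup G, N.Normal ∧ N ≠ ⊥ ∧ N ≠ ⊤ := by
      by_contra hno
      push_neg at hno
      exact hsimp ⟨fun N hN => or_iff_not_imp_left.2 (hno N hN)⟩
    haveI := hNn
    have h1 : Nat.card N < n := by
      rw [← hn]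
      exact lt_of_le_of_ne (card_le_card_group N) fun h => hN2 (eq_top_of_card_eq N h)
    have h2 : Nat.card (G ⧸ N) < n := by
      rw [← hn, card_eq_card_quotient_mul_card_subgroup N]
      exact lt_mul_of_one_lt_right Nat.card_pos ((one_lt_card_iff_ne_bot N).2 hN1)
    haveI : Group.IsSolvable N := ih _ h1 N rfl (hsub G N hG)
    haveI : Group.IsSolvable (G ⧸ N) := ih _ h2 (G ⧸ N) rfl (hquot G N hG)
    exact Group.isSolvable_of_ker_le_range N.subtype (QuotientGroup.mk' N)
      (by rw [QuotientGroup.ker_mk', range_subtype])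

theorem exists_pRegular_ne_one {p : ℕ} (hp : p.Prime) {G : Type*} [Group G] [Finite G]
    [IsSimpleGroup G] (hna : ¬ ∀ a b : G, a * b = b * a) :
    ∃ x : G, x ≠ 1 ∧ (orderOf x).Coprime p := by
  haveI : Fact p.Prime := ⟨hp⟩
  by_contra hno
  push_neg at hno
  have hpg : IsPGroup p G := by
    intro x
    obtain ⟨a, b, -, -, hab, ⟨e, hao⟩, hbo⟩ := exists_split p x
    refine ⟨e, ?_⟩
    have hb1 : b = 1 := by
      by_contra h
      exact hno b h (hp.coprime_iff_not_dvd.2 hbo).symm
    rw [← hab, hb1, mul_one, ← hao, pow_orderOf_eq_one]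
  haveI : Nontrivial G := IsSimpleGroup.toNontrivial
  haveI := hpg.center_nontrivial
  rcases IsSimpleGroup.eq_bot_or_eq_top_of_normal (center G) inferInstance with hc | hc
  · exact (nontrivial_iff_ne_bot _).1 ‹_› hc
  · exact hna fun a b => (mem_center_iff.1 (hc ▸ mem_top b) a)

theorem isSolvable_of_pRegClasses {p : ℕ} (hp : p.Prime) {G : Type u} [Group G] [Finite G]
    (h : PRegClasses p G) : Group.IsSolvable G := by
  refine isSolvable_of_hereditary (fun G _ => PRegClasses p G)
    (fun G _ _ N _ hG => pRegClasses_subgroup hp N hG)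
    (fun G _ _ N _ hG => pRegClasses_quotient hp N hG) ?_ _ G rfl h
  intro G _ _ _ hG
  by_contra hna
  obtain ⟨x, hx1, hx⟩ := exists_pRegular_ne_one hp hna
  obtain ⟨k, hk⟩ := hG x hx
  refine CharClifford.card_carrier_ne_prime_pow hna hx1 p k hp ?_
  rw [Nat.card_coe_set_eq, ncard_carrier, hk]

theorem isSolvable_of_hasAbelianPCompl {p : ℕ} (hp : p.Prime) {G : Type u} [Group G] [Finite G]
    (h : HasAbelianPCompl p G) : Group.IsSolvable G := by
  refine isSolvable_of_hereditary (fun G _ => HasAbelianPCompl p G)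
    (fun G _ _ N _ hG => hasAbelianPCompl_subgroup hp N hG)
    (fun G _ _ N _ hG => hasAbelianPCompl_quotient hp N hG) ?_ _ G rfl h
  intro G _ _ _ hG
  by_contra hna
  obtain ⟨H, hcomm, hpH, k, hk⟩ := hG
  by_cases hH : H = ⊥
  · rw [hH, index_bot] at hk
    obtain ⟨x, hx1, hx⟩ := exists_pRegular_ne_one hp hna
    refine hx1 (orderOf_eq_one_iff.1 (Nat.eq_one_of_dvd_coprimes (hx.pow_right k) dvd_rfl ?_))
    exact hk ▸ orderOf_dvd_natCard x
  obtain ⟨⟨x, hxH⟩, hx1⟩ := ne_bot_iff_exists_ne_one.1 hH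
  have hle : H ≤ centralizer ({x} : Set G) := fun y hy =>
    mem_centralizer_singleton_iff.2 (congrArg Subtype.val (hcomm.is_comm.comm ⟨y, hy⟩ ⟨x, hxH⟩))
  obtain ⟨l, hl⟩ := dvd_prime_pow' hp (hk ▸ index_dvd_of_le hle)
  refine CharClifford.card_carrier_ne_prime_pow hna (fun e => hx1 (Subtype.ext e)) p l hp ?_
  rw [Nat.card_coe_set_eq, ncard_carrier, hl]

theorem commute_of_pRegClasses {p : ℕ} (hp : p.Prime) {G : Type*} [Group G] [Finite G]
    (h : PRegClasses p G) (hcore : Cfsg.pCore p G = ⊥) {x y : G} (hx : (orderOf x).Coprime p)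
    (hy : (orderOf y).Coprime p) : x * y = y * x := by
  haveI : Fact p.Prime := ⟨hp⟩
  haveI := isSolvable_of_pRegClasses hp h
  set F := Cfsg.fittingSubgroup G with hF
  haveI : Group.IsNilpotent F := Fitting.fitting_isNilpotent
  have hpF : ¬ p ∣ Nat.card F := by
    intro hd
    obtain ⟨P⟩ := (inferInstance : Nonempty (Sylow p F))
    have hPn : (P : Subgroup F).Normal :=
      (Group.isNilpotent_of_finite_tfae.out 0 3 rfl rfl).1 ‹_› p inferInstance P
    haveI : (P : Subgroup F).Characteristic := Sylow.characteristic_of_normal P hPn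
    have h1 : (P : Subgroup F).map F.subtype ≤ Cfsg.pCore p G :=
      Fitting.le_pCore inferInstance (P.isPGroup'.map _)
    rw [hcore, le_bot_iff, map_eq_bot_iff_of_injective _ F.subtype_injective] at h1
    apply P.not_dvd_index
    rw [h1, index_bot]
    exact hd
  have hFC : ∀ z : G, (orderOf z).Coprime p → z ∈ centralizer (F : Set G) := by
    intro z hz
    obtain ⟨k, hk⟩ := h z hz
    have h1 : ((centralizer ({z} : Set G)).relIndex F) ∣ p ^ k :=
      hk ▸ relIndex_dvd_index_of_normal' _ F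
    have h2 : (centralizer ({z} : Set G)).relIndex F ∣ Nat.card F := index_dvd_card _
    have h3 := Nat.eq_one_of_dvd_coprimes ((hp.coprime_iff_not_dvd.2 hpF).pow_left k) h1 h2
    rw [relIndex_eq_one] at h3
    exact mem_centralizer_iff.2 fun w hw => mem_centralizer_singleton_iff.1 (h3 hw)
  have hmem : ∀ z : G, (orderOf z).Coprime p → z ∈ F := fun z hz =>
    Fitting.centralizer_fitting_le (hFC z hz)
  exact mem_centralizer_iff.1 (hFC y hy) x (hmem x hx)

end Cfsg.Agent.FGS76
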