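import Cfsg.Agent.Huppert69.Main
import Cfsg.Agent.CG26.FieldAutCard

/-!
Counting planes, and the orders of solvable linear groups transitive on lines and planes.
-/

set_option autoImplicit false

namespace Cfsg.Agent.FGS76.Planes

open Subgroup

section Count

variable {P : Type*} [CommGroup P] [Finite P] {p : ℕ} [Fact p.Prime]

/-- The independent pairs of an elementary abelian group. -/
abbrev Pairs (P : Type*) [CommGroup P] : Type _ :=
  Σ v : {v : P // v ≠ 1}, {w : P // w ∉ zpowers (v : P)}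

theorem orderOf_eq (he : ∀ x : P, x ^ p = 1) {v : P} (hv : v ≠ 1) : orderOf v = p :=
  orderOf_eq_prime (he v) hv

theorem card_ne_one : Nat.card {v : P // v ≠ 1} = Nat.card P - 1 := by
  classical
  haveI := Fintype.ofFinite P
  rw [Nat.card_eq_fintype_card, Fintype.card_subtype_compl, Fintype.card_subtype_eq,
    Nat.card_eq_fintype_card]

theorem card_pairs (he : ∀ x : P, x ^ p = 1) :
    Nat.card (Pairs P) = (Nat.card P - 1) * (Nat.card P - p) := by
  classical
  haveI := Fintype.ofFinite P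
  have h : ∀ v : {v : P // v ≠ 1},
      Nat.card {w : P // w ∉ zpowers (v : P)} = Nat.card P - p := fun v => by
    rw [Nat.card_eq_fintype_card, Fintype.card_subtype_compl, Nat.card_eq_fintype_card,
      ← Nat.card_eq_fintype_card (α := {w : P // w ∈ zpowers (v : P)}),
      Nat.card_zpowers, orderOf_eq he v.2]
  rw [Nat.card_sigma]
  simp only [h, Finset.sum_const, smul_eq_mul, Finset.card_univ]
  rw [← Nat.card_eq_fintype_card, card_ne_one]

theorem card_planes (he : ∀ x : P, x ^ p = 1) :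
    Nat.card {A : Subgroup P // Nat.card A = p ^ 2} * ((p ^ 2 - 1) * (p ^ 2 - p)) =
      (Nat.card P - 1) * (Nat.card P - p) := by
  classical
  haveI := Fintype.ofFinite P
  haveI : Fintype (Subgroup P) := Fintype.ofFinite _
  rw [← card_pairs he]
  let pl : Pairs P → {A : Subgroup P // Nat.card A = p ^ 2} := fun x =>
    ⟨zpowers (x.1 : P) ⊔ zpowers (x.2 : P), by
      have hw1 : (x.2 : P) ≠ 1 := fun e => x.2.2 (by rw [e]; exact one_mem _)
      obtain ⟨k, hk⟩ := IsPGroup.iff_card.1
        (show IsPGroup p ↥(zpowers (x.1 : P) ⊔ zpowers (x.2 : P)) from fun g => ⟨1, Subtype.ext (by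
          rw [pow_one, SubgroupClass.coe_pow, OneMemClass.coe_one]; exact he g)⟩)
      have h1 : Nat.card ↥(zpowers (x.1 : P) ⊔ zpowers (x.2 : P)) ≤ p ^ 2 := by
        rw [← SetLike.coe_sort_coe, Subgroup.coe_mul_of_left_le_normalizer_right _ _
          (by rw [normalizer_eq_top]; exact le_top)]
        refine Set.natCard_mul_le.trans ?_
        show Nat.card (zpowers (x.1 : P)) * Nat.card (zpowers (x.2 : P)) ≤ p ^ 2
        rw [Nat.card_zpowers, Nat.card_zpowers, orderOf_eq he x.1.2, orderOf_eq he hw1, sq]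
      rw [hk] at h1 ⊢
      have h2 : 2 ≤ k := by
        by_contra hlt
        refine x.2.2 ?_
        have hle : zpowers (x.1 : P) ≤ zpowers (x.1 : P) ⊔ zpowers (x.2 : P) := le_sup_left
        have heq := eq_of_le_of_card_ge hle (by
          rw [hk, Nat.card_zpowers, orderOf_eq he x.1.2]
          exact (Nat.pow_le_pow_right (Fact.out : p.Prime).pos (show k ≤ 1 by omega)).trans_eq
            (pow_one p))
        exact (SetLike.ext_iff.1 heq _).2 (mem_sup_right (mem_zpowers _))
      have h3 := (Nat.pow_le_pow_iff_right (Fact.out : p.Prime).one_lt).1 h1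
      rw [show k = 2 by omega]⟩
  rw [Nat.card_congr (Equiv.sigmaFiberEquiv pl).symm, Nat.card_sigma,
    Finset.sum_congr rfl (fun A _ => show Nat.card {x // pl x = A} = (p ^ 2 - 1) * (p ^ 2 - p) by
      have hA : ∀ x : A.1, x ^ p = 1 := fun x => Subtype.ext (by
        rw [SubgroupClass.coe_pow, OneMemClass.coe_one]; exact he x)
      conv_rhs => rw [← A.2]
      rw [← card_pairs (P := A.1) hA]
      have hmem : ∀ (a b : A.1), (b : P) ∈ zpowers (a : P) ↔ b ∈ zpowers a := by
        intro a b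
        constructor
        · intro h
          obtain ⟨i, hi⟩ := mem_zpowers_iff.1 h
          exact mem_zpowers_iff.2 ⟨i, Subtype.ext (by rw [SubgroupClass.coe_zpow]; exact hi)⟩
        · intro h
          obtain ⟨i, hi⟩ := mem_zpowers_iff.1 h
          exact mem_zpowers_iff.2 ⟨i, by rw [← SubgroupClass.coe_zpow, hi]⟩
      let f : Pairs A.1 → {x // pl x = A} := fun y =>
        ⟨⟨⟨(y.1 : A.1), fun e => y.1.2 (Subtype.ext e)⟩,
          ⟨((y.2 : A.1) : P), fun e => y.2.2 ((hmem _ _).1 e)⟩⟩, Subtype.ext (by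
            refine eq_of_le_of_card_ge (sup_le (zpowers_le.2 (y.1 : A.1).2) (zpowers_le.2 (y.2 : A.1).2)) ?_
            exact ((pl _).2.trans A.2.symm).ge)⟩
      refine (Nat.card_eq_of_bijective f ⟨?_, ?_⟩).symm
      · rintro ⟨⟨a, ha⟩, ⟨b, hb⟩⟩ ⟨⟨a', ha'⟩, ⟨b', hb'⟩⟩ h
        have h' := congrArg (fun x => ((x.1.1 : P), (x.1.2 : P))) h
        simp only [f, Prod.mk.injEq] at h'
        obtain rfl : a = a' := Subtype.ext h'.1
        obtain rfl : b = b' := Subtype.ext h'.2
        rfl
      · rintro ⟨⟨⟨v, hv⟩, ⟨w, hw⟩⟩, hx⟩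
        have hA' : zpowers v ⊔ zpowers w = A.1 := congrArg Subtype.val hx
        refine ⟨⟨⟨⟨v, hA' ▸ mem_sup_left (mem_zpowers v)⟩, fun e => hv (congrArg Subtype.val e)⟩,
          ⟨⟨w, hA' ▸ mem_sup_right (mem_zpowers w)⟩, fun e => hw ((hmem _ _).2 e)⟩⟩, ?_⟩
        rfl),
    Finset.sum_const, smul_eq_mul, Finset.card_univ, ← Nat.card_eq_fintype_card]

end Count

/-- The numerical consequence for semilinear groups. -/
theorem cases_of_bound {p n pl g : ℕ} (hp : p.Prime) (hn : 3 ≤ n)
    (hpl : pl * ((p ^ 2 - 1) * (p ^ 2 - p)) = (p ^ n - 1) * (p ^ n - p))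
    (hdvd : pl ∣ g) (hle : pl * (p - 1) ≤ g) (hg : g ∣ n * (p ^ n - 1)) :
    n = 3 ∨ (n = 5 ∧ p = 2) := by
  have h2 := hp.two_le
  obtain ⟨j, rfl⟩ : ∃ j, n = j + 3 := ⟨n - 3, by omega⟩
  have hpos : 1 < p ^ (j + 3) := Nat.one_lt_pow (by omega) (by omega)
  have hgle : g ≤ (j + 3) * (p ^ (j + 3) - 1) :=
    Nat.le_of_dvd (Nat.mul_pos (by omega) (by omega)) hg
  have e1 : p ^ 2 - p = p * (p - 1) := by rw [Nat.mul_sub_left_distrib, mul_one, sq]
  have e2 : p ^ (j + 3) - p = p * (p ^ (j + 2) - 1) := by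
    rw [Nat.mul_sub_left_distrib, mul_one, ← pow_succ']
  -- the inequality
  have key : p ^ (j + 2) - 1 ≤ (j + 3) * (p ^ 2 - 1) := by
    have h3 : pl * ((p ^ 2 - 1) * (p ^ 2 - p)) ≤
        (j + 3) * (p ^ (j + 3) - 1) * ((p ^ 2 - 1) * p) := by
      calc pl * ((p ^ 2 - 1) * (p ^ 2 - p)) = pl * (p - 1) * ((p ^ 2 - 1) * p) := by rw [e1]; ring
        _ ≤ g * ((p ^ 2 - 1) * p) := Nat.mul_le_mul_right _ hle
        _ ≤ _ := Nat.mul_le_mul_right _ hgle
    rw [hpl, e2] at h3
    have h4 : (p ^ (j + 3) - 1) * p * (p ^ (j + 2) - 1) ≤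
        (p ^ (j + 3) - 1) * p * ((j + 3) * (p ^ 2 - 1)) := by
      calc (p ^ (j + 3) - 1) * p * (p ^ (j + 2) - 1)
          = (p ^ (j + 3) - 1) * (p * (p ^ (j + 2) - 1)) := by ring
        _ ≤ _ := h3
        _ = _ := by ring
    exact Nat.le_of_mul_le_mul_left h4 (Nat.mul_pos (by omega) (by omega))
  rcases (show j = 0 ∨ j = 1 ∨ j = 2 ∨ 3 ≤ j by omega) with rfl | rfl | rfl | hj
  · exact Or.inl rfl
  · exfalso
    have hp4 : p ≤ 3 := by
      by_contra hlt
      have h4 : 4 ≤ p := by omega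
      have a1 : 4 * p ^ 2 ≤ p ^ (1 + 2) := by
        calc 4 * p ^ 2 ≤ p * p ^ 2 := Nat.mul_le_mul_right _ h4
          _ = p ^ (1 + 2) := by ring
      have a2 : 1 ≤ p ^ 2 := Nat.one_le_pow _ _ hp.pos
      omega
    interval_cases p
    · norm_num at hpl hg
      obtain rfl : pl = 35 := by omega
      have := hdvd.trans hg
      norm_num at this
    · norm_num at hpl hg
      obtain rfl : pl = 130 := by omega
      have := hdvd.trans hg
      norm_num at this
  · refine Or.inr ⟨rfl, ?_⟩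
    by_contra hne
    have h3 : 3 ≤ p := by omega
    have a1 : 9 * p ^ 2 ≤ p ^ (2 + 2) := by
      calc 9 * p ^ 2 ≤ p ^ 2 * p ^ 2 := Nat.mul_le_mul_right _ (by nlinarith)
        _ = p ^ (2 + 2) := by ring
    have a2 : 1 ≤ p ^ 2 := Nat.one_le_pow _ _ hp.pos
    omega
  · exfalso
    have h5 : ∀ i : ℕ, 3 * (i + 6) + 1 < 2 ^ (i + 5) := by
      intro i
      induction i with
      | zero => norm_num
      | succ i ih =>
        have : 2 ^ (i + 1 + 5) = 2 * 2 ^ (i + 5) := by rw [← pow_succ']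
        omega
    obtain ⟨i, rfl⟩ : ∃ i, j = i + 3 := ⟨j - 3, by omega⟩
    rcases (show p = 2 ∨ 3 ≤ p by omega) with rfl | hp3
    · have := h5 i
      norm_num at key
      have e : i + 3 + 2 = i + 5 := by omega
      rw [e] at key
      omega
    · have h6 : (i + 6) * p ^ 2 < p ^ (i + 5) := by
        calc (i + 6) * p ^ 2 < 3 ^ (i + 3) * p ^ 2 := by
              refine Nat.mul_lt_mul_of_pos_right ?_ (by positivity)
              clear h5 key hgle hpos e1 e2 hpl hle hg hdvd
              induction i with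
              | zero => norm_num
              | succ i ih =>
                have h9 : 3 ^ (i + 1 + 3) = 3 * 3 ^ (i + 3) := by rw [← pow_succ']
                have := ih (by omega) (by omega)
                omega
          _ ≤ p ^ (i + 3) * p ^ 2 := Nat.mul_le_mul_right _ (Nat.pow_le_pow_left hp3 _)
          _ = p ^ (i + 5) := by rw [← pow_add]
      have e : i + 3 + 2 = i + 5 := by omega
      rw [e, show i + 3 + 3 = i + 6 by omega, Nat.mul_sub_left_distrib, mul_one] at key
      have : (i + 6) ≤ (i + 6) * p ^ 2 := Nat.le_mul_of_pos_right _ (by positivity)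
      omega

section EightyOne

open Cfsg.Agent.Huppert69

variable {V : Type*} [AddCommGroup V] [Module (ZMod 3) V] [Finite V] {G : Type*} [Group G] [Finite G]
  {ρ : G →* (V ≃ₗ[ZMod 3] V)} {A B : Subgroup G} {s : ℕ}

theorem no_thirteen [Nontrivial V] [A.Normal] [B.Normal] [IsMulCommutative A]
    [IsMulCommutative (Sec A B)] [IsMulCommutative (alg ρ A)] [Fact (Nat.Prime 3)]
    (h : Ctx ρ A B s) (hV : Nat.card V = 81) (h13 : 13 ∣ Nat.card G) : False := by
  obtain ⟨d, m, b, hN, hE, hmE⟩ := h.exists_nums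
  have hdm : d * m = 4 := by
    have h1 := hN.hV
    rw [hV] at h1
    exact (Nat.pow_right_injective (le_refl 2 |>.trans (by norm_num : 2 ≤ 3))
      (show 3 ^ (d * m) = 3 ^ 4 by rw [← h1]))
  obtain ⟨r, hr⟩ := NumberTheory.exists_isPrimitivePrimeDivisor (a := 3) (n := 4) (by norm_num)
    (by norm_num) (by norm_num) (by norm_num)
  have hrle := h.primitive_bound hN hE (hdm ▸ hr)
  have hr5 : 4 < r := hr.lt (by norm_num) (by norm_num)
  have hsm := hN.hle
  have hd := hN.hd
  have hm4 : m ≤ 4 := hdm ▸ Nat.le_mul_of_pos_left m (by omega)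
  have hm : m = 4 := by omega
  subst hm
  have hd1 : d = 1 := by omega
  subst hd1
  have hsb : s ^ b = 4 := by omega
  have hs2 : s = 2 := by
    have hd2 : 2 ∣ s ^ b := by rw [hsb]; norm_num
    exact ((Nat.prime_dvd_prime_iff_eq Nat.prime_two h.prime).1
      (Nat.prime_two.dvd_of_dvd_pow hd2)).symm
  subst hs2
  have hC := h.centralizer_eq_top rfl hE
  have := Fact.mk (show Nat.Prime 13 by norm_num)
  obtain ⟨x, hx⟩ := exists_prime_orderOf_dvd_card' (G := G) 13 h13
  rcases h.prime_le_or_commute (r := 13) (by norm_num) (by norm_num) hN.hW hx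
    (by rw [hC]; exact Subgroup.mem_top x) with h1 | hc
  · rw [hsb] at h1
    omega
  · have hfull : Nat.card (Sec A B) = Module.finrank (alg ρ A) V ^ 2 := by rw [hN.hW, hsb, hmE]
    have hxA := h.mem_of_commute_all hfull (by rw [hC]; exact Subgroup.mem_top x) hc
    have h1 := Subgroup.orderOf_dvd_natCard A hxA
    rw [hx] at h1
    have h2 := h1.trans hN.hA
    norm_num at h2

end EightyOne

end Cfsg.Agent.FGS76.Planes
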