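import Cfsg.Agent.FGS76.Basic

/-!
Elements whose cyclic subgroup has normalizer equal to centralizer: passage to quotients.
-/

set_option autoImplicit false
set_option linter.style.haveILetI false

namespace Cfsg.Agent.FGS76

open Subgroup

variable {G : Type*} [Group G] [Finite G]

/-- `N(<x>) = C(x)` for all `π`-elements passes to quotients by normal `π'`-subgroups -/
theorem irr_quotient (π : Set ℕ)
    (hirr : ∀ x : G, (∀ r : ℕ, r.Prime → r ∣ orderOf x → r ∈ π) →
      normalizer ((zpowers x : Subgroup G) : Set G) ≤ centralizer {x})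
    (N : Subgroup G) [N.Normal] (hN : ∀ r : ℕ, r.Prime → r ∣ Nat.card N → r ∉ π) :
    ∀ y : G ⧸ N, (∀ r : ℕ, r.Prime → r ∣ orderOf y → r ∈ π) →
      normalizer ((zpowers y : Subgroup (G ⧸ N)) : Set (G ⧸ N)) ≤ centralizer {y} := by
  suffices key : ∀ (n : ℕ) (y : G ⧸ N), orderOf y = n → (∀ r : ℕ, r.Prime → r ∣ n → r ∈ π) →
      ∀ z ∈ normalizer ((zpowers y : Subgroup (G ⧸ N)) : Set (G ⧸ N)), z * y = y * z from
    fun y hy z hz => mem_centralizer_singleton_iff.2 (key _ y rfl hy z hz)
  intro n
  induction n using Nat.strong_induction_on with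
  | h n ih =>
    intro y hn hπ z hz
    by_cases hy1 : y = 1
    · simp [hy1]
    obtain ⟨r, hr, hrd⟩ := Nat.exists_prime_and_dvd (mt orderOf_eq_one_iff.1 hy1)
    haveI : Fact r.Prime := ⟨hr⟩
    obtain ⟨k, hk⟩ : ∃ k : ℤ, y ^ k = z * y * z⁻¹ :=
      mem_zpowers_iff.1 ((mem_normalizer_iff.1 hz y).1 (mem_zpowers y))
    obtain ⟨a, b, ⟨i, ha⟩, ⟨j, hb⟩, hab, hao, hbo⟩ := exists_split r y
    by_cases hb1 : b = 1
    · -- a prime power element: Frattini argument
      rw [hb1, mul_one] at hab
      subst hab
      obtain ⟨e, he⟩ := hao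
      obtain ⟨x, hx⟩ := QuotientGroup.mk'_surjective N a
      obtain ⟨c, d, ⟨i', hc⟩, ⟨j', hd⟩, hcd, hco, hdo⟩ := exists_split r x
      have hd1 : QuotientGroup.mk' N d = 1 := by
        rw [← orderOf_eq_one_iff]
        have h1 : orderOf (QuotientGroup.mk' N d) ∣ r ^ e := by
          rw [← he, hd, map_pow, hx]
          exact orderOf_pow_dvd _
        exact Nat.eq_one_of_dvd_coprimes (((hr.coprime_iff_not_dvd).2 hdo).pow_left e) h1
          (orderOf_map_dvd _ d)
      have hca : QuotientGroup.mk' N c = a := by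
        rw [← hx, ← hcd, map_mul, hd1, mul_one]
      have hco' : orderOf c = r ^ e := by
        refine Nat.dvd_antisymm ?_ (by rw [← he, ← hca]; exact orderOf_map_dvd _ c)
        apply orderOf_dvd_of_pow_eq_one
        have h1 : c ^ r ^ e ∈ N := by
          rw [← QuotientGroup.eq_one_iff]
          have : QuotientGroup.mk' N (c ^ r ^ e) = 1 := by
            rw [map_pow, hca, ← he, pow_orderOf_eq_one]
          exact this
        rw [← orderOf_eq_one_iff]
        obtain ⟨l, hl⟩ := hco
        refine Nat.eq_one_of_dvd_coprimes ?_ (orderOf_pow_dvd (r ^ e)) (b := Nat.card N) ?_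
        · rw [hl]
          refine ((hr.coprime_iff_not_dvd).2 fun h => hN r hr h (hπ r hr ?_)).pow_left l
          rw [← hn]
          exact hrd
        · rw [← orderOf_mk _ h1]
          exact orderOf_dvd_natCard _
      set M := (zpowers a).comap (QuotientGroup.mk' N) with hM
      have hNM : ¬ r ∣ Nat.card N := fun h => hN r hr h (hπ r hr (hn ▸ hrd))
      have hcardM : Nat.card M = Nat.card N * r ^ e := by
        rw [← he, ← Nat.card_zpowers]
        exact (Nat.card_congr (QuotientGroup.preimageMkEquivSubgroupProdSet N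
          ((zpowers a : Subgroup (G ⧸ N)) : Set (G ⧸ N)))).trans (Nat.card_prod _ _)
      obtain ⟨g, hg⟩ := QuotientGroup.mk'_surjective N z
      set c' := g * c * g⁻¹ with hc'
      have hcM : c ∈ M := by simp only [hM, mem_comap, hca, mem_zpowers]
      have hc'M : c' ∈ M := by
        simp only [hM, mem_comap, hc', map_mul, map_inv, hca, hg, ← hk]
        exact zpow_mem (mem_zpowers a) k
      have hfac : (Nat.card M).factorization r = e := by
        rw [hcardM, Nat.factorization_mul Nat.card_pos.ne' (pow_ne_zero _ hr.ne_zero)]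
        simp [Nat.factorization_eq_zero_of_not_dvd hNM, hr.factorization_pow]
      let S : Sylow r M := Sylow.ofCard (zpowers ⟨c, hcM⟩)
        (by rw [Nat.card_zpowers, orderOf_mk, hco', hfac])
      let S' : Sylow r M := Sylow.ofCard (zpowers ⟨c', hc'M⟩)
        (by rw [Nat.card_zpowers, orderOf_mk, hc', ← MulAut.conj_apply, MulEquiv.orderOf_eq,
          hco', hfac])
      obtain ⟨⟨m, hmM⟩, hm⟩ := MulAction.exists_smul_eq M S' S
      have h2 : m * g ∈ normalizer ((zpowers c : Subgroup G) : Set G) := by
        rw [mem_normalizer_iff_map_conj_eq, MonoidHom.map_zpowers]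
        have h3 : ((⟨m, hmM⟩ : M) * ⟨c', hc'M⟩ * (⟨m, hmM⟩ : M)⁻¹) ∈ (S : Subgroup M) := by
          rw [← hm, Sylow.coe_subgroup_smul]
          exact ⟨_, mem_zpowers _, rfl⟩
        obtain ⟨l, hl⟩ := mem_zpowers_iff.1 h3
        have h4 : m * g * c * (m * g)⁻¹ ∈ zpowers c := by
          refine mem_zpowers_iff.2 ⟨l, ?_⟩
          have := congrArg Subtype.val hl
          simp only [SubgroupClass.coe_zpow, coe_mul, InvMemClass.coe_inv, hc'] at this
          rw [this]
          group
        refine eq_of_le_of_card_ge (zpowers_le.2 h4) ?_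
        rw [Nat.card_zpowers, Nat.card_zpowers]
        exact (orderOf_injective _ (MulAut.conj (m * g)).injective c).ge
      have h3 := mem_centralizer_singleton_iff.1 (hirr c (fun s hs hsd => hπ s hs (by
        rw [← hn, he, ← hco']
        exact hsd)) h2)
      have h4 := congrArg (QuotientGroup.mk' N) h3
      simp only [map_mul, hca, hg] at h4
      have h5 : QuotientGroup.mk' N m * a = a * QuotientGroup.mk' N m := by
        obtain ⟨u, hu⟩ := mem_zpowers_iff.1 (mem_comap.1 hmM)
        rw [← hu, ← zpow_add_one, ← zpow_one_add, add_comm]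
      rw [mul_assoc, ← mul_assoc a, ← h5, mul_assoc] at h4
      exact mul_left_cancel h4
    · -- proper decomposition
      have key : ∀ w : G ⧸ N, (∃ i : ℕ, w = y ^ i) → orderOf w ≠ orderOf y → z * w = w * z := by
        rintro w ⟨i, hw⟩ hne
        have hdvd : orderOf w ∣ orderOf y := hw ▸ orderOf_pow_dvd i
        refine ih _ ?_ w rfl (fun s hs hsd => hπ s hs (hn ▸ hsd.trans hdvd)) z ?_
        · exact hn ▸ lt_of_le_of_ne (Nat.le_of_dvd (orderOf_pos y) hdvd) hne
        · rw [mem_normalizer_iff_map_conj_eq, MonoidHom.map_zpowers]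
          refine eq_of_le_of_card_ge (zpowers_le.2 (mem_zpowers_iff.2 ⟨k, ?_⟩)) ?_
          · show w ^ k = z * w * z⁻¹
            rw [hw, ← conj_pow, ← hk, ← zpow_natCast, ← zpow_mul, ← zpow_natCast, ← zpow_mul,
              mul_comm]
          · rw [Nat.card_zpowers, Nat.card_zpowers]
            exact (orderOf_injective _ (MulAut.conj z).injective w).ge
      have h1 : z * a = a * z := by
        refine key a ⟨i, ha⟩ fun h => hb1 ?_
        rw [← orderOf_eq_one_iff]
        obtain ⟨e, he⟩ := hao
        refine Nat.eq_one_of_dvd_coprimes (((hr.coprime_iff_not_dvd).2 hbo).pow_left e) ?_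
          dvd_rfl
        rw [← he, h, hb]
        exact orderOf_pow_dvd _
      have h2 : z * b = b * z := by
        refine key b ⟨j, hb⟩ fun h => hbo ?_
        rw [h]
        exact hrd
      calc z * y = z * a * b := by rw [← hab, mul_assoc]
        _ = a * (z * b) := by rw [h1, mul_assoc]
        _ = a * b * z := by rw [h2, mul_assoc]
        _ = y * z := by rw [hab]

end Cfsg.Agent.FGS76
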