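import Cfsg.Prelude.Def_Transfer
import Cfsg.Agent.S0016
import Cfsg.Agent.Lib.PGroup.Basic
import Mathlib.GroupTheory.SpecificGroups.Quaternion
import Mathlib.GroupTheory.NoncommCoprod

/-!
`p`-groups in which any two subgroups of the same order are isomorphic, and groups in which
`p`-subgroups of the same order are conjugate.
-/

set_option autoImplicit false

namespace Cfsg.Agent.FGS76.SameOrder

open Subgroup
open scoped commutatorElement

/-- Any two `p`-subgroups of the same order are conjugate. -/
def ConjP (p : ℕ) (G : Type*) [Group G] : Prop :=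
  ∀ H K : Subgroup G, IsPGroup p H → IsPGroup p K → Nat.card H = Nat.card K →
    ∃ g : G, K = H.map (MulAut.conj g).toMonoidHom

/-- Any two subgroups of the same order are isomorphic. -/
def IsoOrder (Q : Type*) [Group Q] : Prop :=
  ∀ A B : Subgroup Q, Nat.card A = Nat.card B → Nonempty (A ≃* B)

theorem isoOrder_sylow {G : Type*} [Group G] {p : ℕ} (hC : ConjP p G)
    (P : Sylow p G) : IsoOrder (P : Subgroup G) := by
  intro A B h
  obtain ⟨g, hg⟩ := hC (A.map (P : Subgroup G).subtype) (B.map (P : Subgroup G).subtype)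
    ((P.isPGroup'.to_subgroup A).of_surjective ((A.equivMapOfInjective _ (subtype_injective _)).toMonoidHom)
      (A.equivMapOfInjective _ (subtype_injective _)).surjective)
    ((P.isPGroup'.to_subgroup B).of_surjective ((B.equivMapOfInjective _ (subtype_injective _)).toMonoidHom)
      (B.equivMapOfInjective _ (subtype_injective _)).surjective)
    (by rw [card_map_of_injective (subtype_injective _), card_map_of_injective (subtype_injective _), h])
  exact ⟨(A.equivMapOfInjective _ (subtype_injective _)).trans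
    (((A.map (P : Subgroup G).subtype).equivMapOfInjective _ (MulAut.conj g).injective).trans
      ((MulEquiv.subgroupCongr hg.symm).trans
        (B.equivMapOfInjective _ (subtype_injective _)).symm))⟩

theorem comm_of_iso {Q : Type*} [Group Q] {A B : Subgroup Q} (e : A ≃* B) [IsMulCommutative A] :
    IsMulCommutative B :=
  ⟨⟨fun a b => by
    obtain ⟨x, rfl⟩ := e.surjective a
    obtain ⟨y, rfl⟩ := e.surjective b
    rw [← map_mul, ← map_mul, mul_comm']⟩⟩

theorem pow_eq_of_iso {Q : Type*} [Group Q] {A B : Subgroup Q} (e : A ≃* B) {p : ℕ}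
    (h : ∀ a ∈ A, a ^ p = 1) : ∀ b ∈ B, b ^ p = 1 := by
  intro b hb
  obtain ⟨a, ha⟩ := e.surjective ⟨b, hb⟩
  have h1 : a ^ p = 1 := Subtype.ext (by rw [SubgroupClass.coe_pow]; exact h a a.2)
  have h2 : (e a) ^ p = 1 := by rw [← map_pow, h1, map_one]
  rw [ha] at h2
  exact congrArg Subtype.val h2

/-- Exponent `p`, cyclic or quaternion. -/
theorem cases_exponent {Q : Type*} [Group Q] [Finite Q] {p : ℕ} [Fact p.Prime] (hQ : IsPGroup p Q)
    (hI : IsoOrder Q) :
    (∀ x : Q, x ^ p = 1) ∨ IsCyclic Q ∨
      (p = 2 ∧ ∃ n : ℕ, Nonempty (Q ≃* QuaternionGroup (2 ^ (n + 1)))) := by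
  have hp : p.Prime := Fact.out
  by_cases hE : ∃ E : Subgroup Q, Nat.card E = p ^ 2 ∧ ∀ a ∈ E, a ^ p = 1
  · obtain ⟨E, hEc, hEe⟩ := hE
    refine Or.inl fun x => ?_
    obtain ⟨k, hk⟩ := IsPGroup.iff_orderOf.mp hQ x
    by_contra hne
    have hk2 : 2 ≤ k := by
      by_contra hlt
      refine hne (orderOf_dvd_iff_pow_eq_one.mp ?_)
      rw [hk]
      simpa using pow_dvd_pow p (show k ≤ 1 by omega)
    have hw : orderOf (x ^ p ^ (k - 2)) = p ^ 2 := by
      rw [orderOf_pow, hk, Nat.gcd_eq_right (Nat.pow_dvd_pow p (by omega)),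
        Nat.pow_div (by omega) hp.pos, show k - (k - 2) = 2 by omega]
    obtain ⟨e⟩ := hI E (zpowers (x ^ p ^ (k - 2))) (by rw [hEc, Nat.card_zpowers, hw])
    have h1 := orderOf_dvd_of_pow_eq_one (pow_eq_of_iso e hEe _ (mem_zpowers _))
    rw [hw] at h1
    have := Nat.le_of_dvd hp.pos h1
    nlinarith [hp.two_le]
  · refine Or.inr ?_
    have huniq : ∀ H K : Subgroup Q, Nat.card H = p → Nat.card K = p → H = K := by
      intro H K hH hK
      rcases subsingleton_or_nontrivial Q with h | h
      · exact Subsingleton.elim H K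
      haveI := hQ.center_nontrivial
      obtain ⟨z, hz⟩ := exists_prime_orderOf_dvd_card' (G := center Q) p (by
        obtain ⟨n, hn0, hn⟩ := (hQ.to_subgroup (center Q)).nontrivial_iff_card.mp inferInstance
        exact hn ▸ dvd_pow_self p hn0.ne')
      have hz' : orderOf (z : Q) = p := by rw [Subgroup.orderOf_coe, hz]
      have key : ∀ H : Subgroup Q, Nat.card H = p → H = zpowers (z : Q) := by
        intro H hH
        by_contra hne
        apply hE
        have hzH : (z : Q) ∉ H := by
          intro hm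
          exact hne (eq_of_le_of_card_ge (zpowers_le.mpr hm)
            (by rw [Nat.card_zpowers, hz', hH])).symm
        have hdisj : H ⊓ zpowers (z : Q) = ⊥ := by
          have hd : Nat.card ↥(H ⊓ zpowers (z : Q)) ∣ p := hH ▸ card_dvd_of_le inf_le_left
          rcases (Nat.dvd_prime hp).1 hd with h | h
          · exact Subgroup.eq_bot_of_card_eq _ h
          · exact absurd ((eq_of_le_of_card_ge (inf_le_left) (by rw [h, hH])).ge.trans inf_le_right)
              (fun hle => hne (eq_of_le_of_card_ge hle (by rw [Nat.card_zpowers, hz', hH])))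
        let φ : H × zpowers (z : Q) →* Q :=
          MonoidHom.noncommCoprod H.subtype (zpowers (z : Q)).subtype fun a b => by
            obtain ⟨i, hi⟩ := mem_zpowers_iff.1 b.2
            show (a : Q) * (b : Q) = (b : Q) * (a : Q)
            rw [← hi]
            exact mem_center_iff.1 (zpow_mem z.2 i) a
        have hφ : Function.Injective φ := by
          rw [injective_iff_map_eq_one]
          rintro ⟨a, b⟩ hab
          have hab' : (a : Q) * (b : Q) = 1 := hab
          have ha : (a : Q) ∈ H ⊓ zpowers (z : Q) :=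
            Subgroup.mem_inf.2 ⟨a.2, by rw [eq_inv_of_mul_eq_one_left hab']; exact inv_mem b.2⟩
          rw [hdisj, mem_bot] at ha
          rw [ha, one_mul] at hab'
          exact Prod.ext (Subtype.ext ha) (Subtype.ext hab')
        refine ⟨φ.range, ?_, ?_⟩
        · rw [← Nat.card_congr (MonoidHom.ofInjective hφ).toEquiv, Nat.card_prod, hH,
            Nat.card_zpowers, hz', sq]
        · rintro _ ⟨⟨a, b⟩, rfl⟩
          rw [← map_pow]
          have e1 : a ^ p = 1 := orderOf_dvd_iff_pow_eq_one.1 (hH ▸ orderOf_dvd_natCard a)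
          have e2 : b ^ p = 1 := orderOf_dvd_iff_pow_eq_one.1 (by
            have := orderOf_dvd_natCard b
            rwa [Nat.card_zpowers, hz'] at this)
          rw [Prod.pow_mk, e1, e2]
          exact map_one φ
      exact (key H hH).trans (key K hK).symm
    rcases S0016.result p hQ huniq with h | ⟨h2, n, ⟨e⟩⟩
    · exact Or.inl h
    · rcases n with _ | n
      · haveI : IsCyclic (QuaternionGroup (2 ^ 0)) := by
          rw [pow_zero]; exact QuaternionGroup.quaternionGroup_one_isCyclic
        exact Or.inl (isCyclic_of_surjective e.symm e.symm.surjective)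
      · exact Or.inr ⟨h2, n, ⟨e⟩⟩

/-- A generalized quaternion group with isomorphic subgroups of equal order is `Q₈`. -/
theorem quaternion_eight {Q : Type*} [Group Q] (hI : IsoOrder Q) {n : ℕ}
    (e : Q ≃* QuaternionGroup (2 ^ (n + 1))) : n = 0 := by
  by_contra hn
  set N := 2 ^ (n + 1) with hN
  haveI : NeZero N := ⟨(Nat.two_pow_pos _).ne'⟩
  have hN4 : 4 ≤ N := by
    calc 4 = 2 ^ 2 := rfl
      _ ≤ 2 ^ (n + 1) := Nat.pow_le_pow_right two_pos (by omega)
  let c : ZMod (2 * N) →+ ZMod 2 := (ZMod.castHom (dvd_mul_right 2 N) (ZMod 2)).toAddMonoidHom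
  have hcN : c (N : ZMod (2 * N)) = 0 := by
    show ZMod.castHom (dvd_mul_right 2 N) (ZMod 2) (N : ZMod (2 * N)) = 0
    rw [map_natCast, ZMod.natCast_eq_zero_iff]
    exact dvd_pow_self 2 (Nat.succ_ne_zero n)
  have hneg : ∀ x : ZMod 2, -x = x := by decide
  let f : QuaternionGroup N →* Multiplicative (ZMod 2) :=
    MonoidHom.mk' (fun q => match q with
      | QuaternionGroup.a i => Multiplicative.ofAdd (c i)
      | QuaternionGroup.xa i => Multiplicative.ofAdd (c i))
      (by
        rintro (i | i) (j | j)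
        all_goals
          simp only [QuaternionGroup.a_mul_a, QuaternionGroup.a_mul_xa, QuaternionGroup.xa_mul_a,
            QuaternionGroup.xa_mul_xa, ← ofAdd_add, map_add, map_sub, hcN, sub_eq_add_neg,
            hneg, zero_add, map_neg]
          try rw [add_comm])
  have hc1 : c 1 = 1 := map_one (ZMod.castHom (dvd_mul_right 2 N) (ZMod 2))
  have hsurj : Function.Surjective f := by
    intro t
    rcases (show ∀ x : ZMod 2, x = 0 ∨ x = 1 by decide) (Multiplicative.toAdd t) with h | h
    · exact ⟨1, by rw [map_one]; exact Multiplicative.toAdd.injective h.symm⟩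
    · exact ⟨QuaternionGroup.a 1, Multiplicative.toAdd.injective (by
        show c 1 = _; rw [hc1, h])⟩
  let g : Q →* Multiplicative (ZMod 2) := f.comp e.toMonoidHom
  have hgs : Function.Surjective g := hsurj.comp e.surjective
  have hidx : g.ker.index = 2 := by
    rw [index_ker, MonoidHom.range_eq_top.2 hgs, card_top]
    exact Nat.card_zmod 2
  haveI : Finite Q := Finite.of_equiv _ e.symm.toEquiv
  have hcard : Nat.card Q = 4 * N := by
    rw [Nat.card_congr e.toEquiv, Nat.card_eq_fintype_card, QuaternionGroup.card]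
  have hkc : Nat.card g.ker = Nat.card (zpowers (e.symm (QuaternionGroup.a 1))) := by
    have h := g.ker.card_mul_index
    rw [hidx, hcard] at h
    rw [Nat.card_zpowers, MulEquiv.orderOf_eq, QuaternionGroup.orderOf_a_one]
    omega
  obtain ⟨iso⟩ := hI _ _ hkc.symm
  haveI := comm_of_iso iso
  have hA : e.symm (QuaternionGroup.a 2) ∈ g.ker := by
    rw [MonoidHom.mem_ker]
    show f (e (e.symm _)) = 1
    rw [e.apply_symm_apply]
    show Multiplicative.ofAdd (c 2) = 1
    rw [show c 2 = c 1 + c 1 by rw [← map_add, one_add_one_eq_two], hc1]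
    decide
  have hX : e.symm (QuaternionGroup.xa 0) ∈ g.ker := by
    rw [MonoidHom.mem_ker]
    show f (e (e.symm _)) = 1
    rw [e.apply_symm_apply]
    show Multiplicative.ofAdd (c 0) = 1
    rw [map_zero]; rfl
  have hcomm := congrArg Subtype.val (mul_comm' (⟨_, hA⟩ : g.ker) ⟨_, hX⟩)
  simp only [Subgroup.coe_mul, ← map_mul, QuaternionGroup.a_mul_xa, QuaternionGroup.xa_mul_a] at hcomm
  have h2 := e.symm.injective hcomm
  simp only [QuaternionGroup.xa.injEq, zero_sub, zero_add] at h2
  have h4 : ((4 : ℕ) : ZMod (2 * N)) = 0 := by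
    have : (2 : ZMod (2 * N)) + 2 = 0 := by
      conv_lhs => arg 1; rw [← h2]
      exact neg_add_cancel _
    calc ((4 : ℕ) : ZMod (2 * N)) = 2 + 2 := by norm_num
      _ = 0 := this
  rw [ZMod.natCast_eq_zero_iff] at h4
  have := Nat.le_of_dvd (by norm_num) h4
  omega

/-- In exponent `p`, isomorphic subgroups of equal order force abelian or order `p ^ 3`. -/
theorem comm_or_cube {Q : Type*} [Group Q] [Finite Q] {p : ℕ} [Fact p.Prime] (hQ : IsPGroup p Q)
    (hI : IsoOrder Q) (hexp : ∀ x : Q, x ^ p = 1) :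
    IsMulCommutative Q ∨ Nat.card Q = p ^ 3 := by
  have hp : p.Prime := Fact.out
  by_cases hab : IsMulCommutative Q
  · exact Or.inl hab
  right
  obtain ⟨n, hn⟩ := IsPGroup.iff_card.1 hQ
  have h3 : 3 ≤ n := by
    by_contra hlt
    apply hab
    rcases (show n = 0 ∨ n = 1 ∨ n = 2 by omega) with h | h | h
    · haveI : Subsingleton Q := (Nat.card_eq_one_iff_unique.1 (by rw [hn, h, pow_zero])).1
      exact ⟨⟨fun a b => Subsingleton.elim _ _⟩⟩
    · haveI : IsCyclic Q := isCyclic_of_prime_card (p := p) (by rw [hn, h, pow_one])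
      exact IsCyclic.isMulCommutative
    · exact ⟨⟨fun a b => IsPGroup.commutative_of_card_eq_prime_sq (by rw [hn, h]) a b⟩⟩
  by_contra hne
  have h4 : 4 ≤ n := by
    rcases Nat.lt_or_ge n 4 with h | h
    · exact absurd (by rw [hn, show n = 3 by omega]) hne
    · exact h
  -- an abelian subgroup of order `p ^ 3`
  obtain ⟨E, -, hEn, hEc⟩ := PGroup.exists_normal_le_card hQ (n := n) (⊤ : Subgroup Q) 2
    (by rw [card_top, hn]) (by omega)
  haveI := hEn
  have hEb : E ≠ ⊥ := fun h => by
    rw [h, card_bot] at hEc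
    exact absurd hEc.symm (Nat.one_lt_pow two_ne_zero hp.one_lt).ne'
  obtain ⟨z, hz, hz1⟩ := (Subgroup.bot_or_exists_ne_one (E ⊓ center Q)).resolve_left
    (PGroup.inf_center_ne_bot hQ hEb)
  have hzo : orderOf z = p := orderOf_eq_prime (hexp z) hz1
  obtain ⟨x, hx, hxz⟩ : ∃ x ∈ E, x ∉ zpowers z := by
    by_contra h
    push Not at h
    have := card_le_of_le (show E ≤ zpowers z from h)
    rw [hEc, Nat.card_zpowers, hzo] at this
    nlinarith [hp.two_le]
  have hEab : ∀ a ∈ E, ∀ b ∈ E, a * b = b * a := fun a ha b hb => congrArg Subtype.val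
    (IsPGroup.commutative_of_card_eq_prime_sq hEc (⟨a, ha⟩ : E) ⟨b, hb⟩)
  -- the centralizer of `x` is bigger than `E`
  obtain ⟨w, hwc, hwE⟩ : ∃ w : Q, w * x = x * w ∧ w ∉ E := by
    by_contra h
    push Not at h
    have hle : centralizer ({x} : Set Q) ≤ E := fun w hw => h w (mem_centralizer_singleton_iff.1 hw)
    have hidx := centralizer ({x} : Set Q) |>.card_mul_index
    obtain ⟨k, hk⟩ := hQ.index (centralizer ({x} : Set Q))
    have hcl : (centralizer ({x} : Set Q)).index ≤ Nat.card E := by
      rw [show (centralizer ({x} : Set Q)).index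
          = Nat.card (MulAction.orbit (ConjAct Q) x) by
        rw [Nat.card_coe_set_eq, ← MulAction.index_stabilizer, ConjAct.stabilizer_eq_centralizer]; rfl]
      refine (Nat.card_le_card_of_injective
        (fun y => (⟨(y : Q), ?_⟩ : E)) fun a b hab => Subtype.ext (congrArg (fun t : E => (t : Q)) hab))
      obtain ⟨g, hg⟩ := y.2
      rw [← hg]
      show ConjAct.ofConjAct g * x * (ConjAct.ofConjAct g)⁻¹ ∈ E
      exact hEn.conj_mem x hx _
    have hlt : (centralizer ({x} : Set Q)).index < Nat.card E := by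
      refine lt_of_le_of_ne hcl fun he => ?_
      have hall : ∀ y : E, (y : Q) ∈ MulAction.orbit (ConjAct Q) x := by
        intro y
        by_contra hy
        rw [show (centralizer ({x} : Set Q)).index
            = Nat.card (MulAction.orbit (ConjAct Q) x) by
          rw [Nat.card_coe_set_eq, ← MulAction.index_stabilizer, ConjAct.stabilizer_eq_centralizer]; rfl] at he
        let F : MulAction.orbit (ConjAct Q) x → E := fun y => ⟨(y : Q), by
          obtain ⟨g, hg⟩ := y.2
          rw [← hg]
          exact hEn.conj_mem x hx _⟩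
        have hF : Function.Injective F := fun a b hab =>
          Subtype.ext (congrArg (fun t : E => (t : Q)) hab)
        obtain ⟨a, ha⟩ := (hF.bijective_of_nat_card_le he.ge).2 y
        exact hy (ha ▸ a.2)
      obtain ⟨g, hg⟩ := hall 1
      have h1 : ConjAct.ofConjAct g * x * (ConjAct.ofConjAct g)⁻¹ = 1 := hg
      rw [mul_inv_eq_one, mul_eq_left] at h1
      exact hxz (h1 ▸ one_mem _)
    rw [hk, hEc] at hlt
    have hk1 : k ≤ 1 := by
      have := (Nat.pow_lt_pow_iff_right hp.one_lt).1 hlt
      omega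
    have hc2 : Nat.card (centralizer ({x} : Set Q)) ≤ p ^ 2 := hEc ▸ card_le_of_le hle
    rw [hk, hn] at hidx
    have : p ^ n ≤ p ^ 3 := by
      rw [← hidx, show p ^ 3 = p ^ 2 * p by ring]
      exact Nat.mul_le_mul hc2 (by simpa using Nat.pow_le_pow_right hp.pos hk1)
    have := (Nat.pow_le_pow_iff_right hp.one_lt).1 this
    omega
  let A : Subgroup Q := closure {z, x, w}
  haveI hA : IsMulCommutative A := by
    refine isMulCommutative_closure ?_
    have hzc : ∀ q : Q, q * z = z * q := mem_center_iff.1 hz.2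
    rintro a (rfl | rfl | rfl) b (rfl | rfl | rfl)
    exacts [rfl, (hzc _).symm, (hzc _).symm, hzc _, rfl, hwc.symm, hzc _, hwc, rfl]
  obtain ⟨m, hm⟩ := IsPGroup.iff_card.1 (hQ.to_subgroup A)
  have hm3 : 3 ≤ m := by
    by_contra hlt
    have hB : closure {z, x} = E := by
      refine eq_of_le_of_card_ge ((closure_le E).2 ?_) ?_
      · rintro a (rfl | rfl)
        exacts [hz.1, hx]
      · obtain ⟨j, hj⟩ := IsPGroup.iff_card.1 (hQ.to_subgroup (closure {z, x}))
        rw [hEc, hj]
        refine Nat.pow_le_pow_right hp.pos ?_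
        by_contra hj2
        have hzx : zpowers z = closure {z, x} := eq_of_le_of_card_ge
          (zpowers_le.2 (subset_closure (Or.inl rfl))) (by
            rw [Nat.card_zpowers, hzo, hj]
            exact (Nat.pow_le_pow_right hp.pos (show j ≤ 1 by omega)).trans_eq (pow_one p))
        exact hxz (hzx ▸ subset_closure (Or.inr rfl))
    have hle : E ≤ A := hB ▸ closure_mono (fun a ha => by
      rcases ha with rfl | rfl <;> simp)
    have hA2 : E = A := eq_of_le_of_card_ge hle (by
      rw [hm, hEc]; exact Nat.pow_le_pow_right hp.pos (by omega))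
    exact hwE (hA2 ▸ subset_closure (by simp))
  obtain ⟨B, hB, -⟩ := Sylow.exists_subgroup_card_pow_prime_le p (G := A)
    (hm ▸ pow_dvd_pow p hm3) (⊥ : Subgroup A) (n := 0) (by rw [card_bot, pow_zero]) (by omega)
  -- every subgroup of order `p ^ 3` is abelian, hence so is the group
  apply hab
  have hall : ∀ C : Subgroup Q, Nat.card C = p ^ 3 → IsMulCommutative C := by
    intro C hC
    obtain ⟨iso⟩ := hI (B.map A.subtype) C (by
      rw [card_map_of_injective A.subtype_injective, hB, hC])
    haveI : IsMulCommutative (B.map A.subtype) := ⟨⟨fun a b => Subtype.ext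
      (congrArg (fun t : A => (t : Q)) (mul_comm' (⟨(a : Q), map_subtype_le _ a.2⟩ : A)
        ⟨(b : Q), map_subtype_le _ b.2⟩))⟩⟩
    exact comm_of_iso iso
  suffices htop : center Q = ⊤ by
    exact ⟨⟨fun a b => mem_center_iff.1 (htop ▸ mem_top b) a⟩⟩
  by_contra hct
  haveI : Nontrivial (Q ⧸ center Q) := QuotientGroup.nontrivial_iff.2 hct
  obtain ⟨u, hu, hu1⟩ : ∃ u : Q ⧸ center Q, u ∈ center (Q ⧸ center Q) ∧ u ≠ 1 := by
    haveI := (hQ.to_quotient (center Q)).center_nontrivial
    obtain ⟨u, hu⟩ := exists_ne (1 : center (Q ⧸ center Q))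
    exact ⟨u, u.2, fun h => hu (Subtype.ext h)⟩
  obtain ⟨a, rfl⟩ := QuotientGroup.mk_surjective u
  apply hu1
  rw [QuotientGroup.eq_one_iff, mem_center_iff]
  intro b
  let c := b * a * b⁻¹ * a⁻¹
  have hc : c ∈ center Q := by
    rw [← QuotientGroup.eq_one_iff]
    have h := mem_center_iff.1 hu (b : Q ⧸ center Q)
    show ((b * a * b⁻¹ * a⁻¹ : Q) : Q ⧸ center Q) = 1
    simp only [QuotientGroup.mk_mul, QuotientGroup.mk_inv, h]
    group
  let N := zpowers a ⊔ zpowers c
  have hbN : zpowers b ≤ normalizer (N : Set Q) := by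
    refine zpowers_le.2 (mem_normalizer_iff_map_conj_eq.2
      (eq_of_le_of_card_ge ?_ (card_map_of_injective (MulAut.conj b).injective).ge))
    rw [Subgroup.map_sup, MonoidHom.map_zpowers, MonoidHom.map_zpowers]
    refine sup_le (zpowers_le.2 ?_) (zpowers_le.2 ?_)
    · show b * a * b⁻¹ ∈ N
      rw [show b * a * b⁻¹ = c * a by simp [c]]
      exact mul_mem (mem_sup_right (mem_zpowers c)) (mem_sup_left (mem_zpowers a))
    · show b * c * b⁻¹ ∈ N
      rw [mem_center_iff.1 hc b, mul_inv_cancel_right]
      exact mem_sup_right (mem_zpowers c)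
  have hzp : ∀ y : Q, Nat.card (zpowers y) ≤ p := fun y => by
    rw [Nat.card_zpowers]; exact Nat.le_of_dvd hp.pos (orderOf_dvd_of_pow_eq_one (hexp y))
  have hcz : zpowers c ≤ center Q := zpowers_le.2 hc
  have hcardsup : ∀ X Y : Subgroup Q, X ≤ normalizer (Y : Set Q) →
      Nat.card ↥(X ⊔ Y) ≤ Nat.card X * Nat.card Y := by
    intro X Y hXY
    rw [← SetLike.coe_sort_coe, coe_mul_of_left_le_normalizer_right X Y hXY]
    exact Set.natCard_mul_le
  obtain ⟨M, hMc, hNM⟩ : ∃ M : Subgroup Q, Nat.card M = p ^ 3 ∧ zpowers b ⊔ N ≤ M := by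
    obtain ⟨j, hj⟩ := IsPGroup.iff_card.1 (hQ.to_subgroup (zpowers b ⊔ N))
    have h1 : Nat.card ↥(zpowers b ⊔ N) ≤ p * (p * p) := (hcardsup _ _ hbN).trans
      (Nat.mul_le_mul (hzp b) ((hcardsup _ _ (fun y _ => mem_normalizer_iff.2 fun q => by
        constructor
        · intro hq; rw [mem_center_iff.1 (hcz hq) y, mul_inv_cancel_right]; exact hq
        · intro hq
          have := mem_center_iff.1 (hcz hq) y
          have e : y * q * y⁻¹ = q := by
            have h2 : y * (y * q * y⁻¹) = (y * q * y⁻¹) * y := this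
            rw [inv_mul_cancel_right] at h2
            exact mul_left_cancel h2
          rwa [e] at hq)).trans (Nat.mul_le_mul (hzp a) (hzp c))))
    have hj3 : j ≤ 3 := by
      rw [hj, show p * (p * p) = p ^ 3 by ring] at h1
      exact (Nat.pow_le_pow_iff_right hp.one_lt).1 h1
    obtain ⟨M, hM, hle⟩ := Sylow.exists_subgroup_card_pow_prime_le p (hn ▸ pow_dvd_pow p h3)
      (zpowers b ⊔ N) hj hj3
    exact ⟨M, hM, hle⟩
  haveI := hall M hMc
  exact congrArg Subtype.val (mul_comm' (⟨b, hNM (mem_sup_left (mem_zpowers b))⟩ : M)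
    ⟨a, hNM (mem_sup_right (mem_sup_left (mem_zpowers a)))⟩)

end Cfsg.Agent.FGS76.SameOrder
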