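import Mathlib
import Cfsg.Agent.FGS76.Fpf3
import Cfsg.Agent.Lib.Thompson.Cores
import Cfsg.Agent.Lib.Solvable.Basic
import Cfsg.Agent.Lib.Frobenius.Complement
import Cfsg.Agent.Lib.Frobenius.Involution
import Cfsg.Agent.S0144
import Cfsg.Agent.S0016
import Cfsg.Agent.FGS76.FrobType

/-!
Groups all of whose elements have order at most 4.
-/

set_option autoImplicit false
set_option linter.unusedSectionVars false
set_option linter.style.haveILetI false
open Cfsg
open scoped commutatorElement Pointwise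

namespace Cfsg.Agent.FGS76

universe u

/-- the Klein-type action of `S₃`: if `(t * σ t) ^ 2 = 1` for all `t` then `T` has exponent 2 -/
theorem exp_two_of_s3 (n : ℕ) : ∀ (T : Type u) [Group T] [Finite T], Nat.card T = n →
    IsPGroup 2 T → ∀ φ σ : T ≃* T, (∀ g, φ g = g → g = 1) → (∀ g, φ (φ (φ g)) = g) →
      (∀ g, σ (σ g) = g) → (∀ g, σ (φ (σ g)) = φ (φ g)) → (∀ t, (t * σ t) ^ 2 = 1) →
      ∀ t : T, t ^ 2 = 1 := by
  induction n using Nat.strong_induction_on with
  | _ n IH =>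
  intro T _ _ hn hT φ σ hφ h3 hσ hrel hsq t
  haveI := Fact.mk Nat.prime_two
  rcases subsingleton_or_nontrivial T with hs | hs
  · exact Subsingleton.elim _ _
  let Z : Subgroup T :=
    { carrier := {z | z ∈ Subgroup.center T ∧ z ^ 2 = 1}
      one_mem' := ⟨one_mem _, one_pow 2⟩
      mul_mem' := fun {a b} ha hb => ⟨mul_mem ha.1 hb.1, by
        rw [(show Commute a b from ((Subgroup.mem_center_iff.1 ha.1) b).symm).mul_pow, ha.2, hb.2,
          one_mul]⟩
      inv_mem' := fun {a} ha => ⟨inv_mem ha.1, by rw [inv_pow, ha.2, inv_one]⟩ }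
  haveI hZn : Z.Normal := ⟨fun z hz g => by
    rwa [Subgroup.mem_center_iff.1 hz.1 g, mul_inv_cancel_right]⟩
  have hZmap : ∀ e : T ≃* T, Z.map (e : T →* T) = Z := by
    intro e
    refine Subgroup.eq_of_le_of_card_ge ?_
      (le_of_eq (Subgroup.card_map_of_injective (f := (e : T →* T)) e.injective).symm)
    rintro _ ⟨z, hz, rfl⟩
    refine ⟨Subgroup.mem_center_iff.2 fun g => ?_, ?_⟩
    · obtain ⟨g, rfl⟩ := e.surjective g
      show e g * e z = e z * e g
      rw [← map_mul, ← map_mul, Subgroup.mem_center_iff.1 hz.1]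
    · show (e z) ^ 2 = 1
      rw [← map_pow, hz.2, map_one]
  have hcenter : ⊤ ⊓ Subgroup.center T ≠ ⊥ := PGroup.inf_center_ne_bot hT top_ne_bot
  rw [top_inf_eq] at hcenter
  obtain ⟨z, hz⟩ := exists_prime_orderOf_dvd_card' (G := Subgroup.center T) 2
    (PGroup.dvd_card_of_ne_bot hT hcenter)
  rw [← Subgroup.orderOf_coe] at hz
  have hzZ : (z : T) ∈ Z := ⟨z.2, hz ▸ pow_orderOf_eq_one _⟩
  have hlt : Nat.card (T ⧸ Z) < n := by
    rw [← hn]
    conv_rhs => rw [Subgroup.card_eq_card_quotient_mul_card_subgroup Z]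
    refine lt_mul_of_one_lt_right Nat.card_pos ((Subgroup.one_lt_card_iff_ne_bot Z).2 fun h0 => ?_)
    rw [h0, Subgroup.mem_bot] at hzZ
    rw [hzZ, orderOf_one] at hz
    norm_num at hz
  let φ' := QuotientGroup.congr Z Z φ (hZmap φ)
  let σ' := QuotientGroup.congr Z Z σ (hZmap σ)
  have hφ'v : ∀ g : T, φ' (g : T ⧸ Z) = (φ g : T) := fun _ => rfl
  have hσ'v : ∀ g : T, σ' (g : T ⧸ Z) = (σ g : T) := fun _ => rfl
  have hQ : ∀ q : T ⧸ Z, q ^ 2 = 1 := by
    refine IH _ hlt (T ⧸ Z) rfl (hT.to_quotient Z) φ' σ'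
      (fun q hq => Frobenius.fixedPointFree_quotientAut hφ Z (hZmap φ) q hq) ?_ ?_ ?_ ?_
    · intro q
      obtain ⟨g, rfl⟩ := QuotientGroup.mk_surjective q
      rw [hφ'v, hφ'v, hφ'v, h3]
    · intro q
      obtain ⟨g, rfl⟩ := QuotientGroup.mk_surjective q
      rw [hσ'v, hσ'v, hσ]
    · intro q
      obtain ⟨g, rfl⟩ := QuotientGroup.mk_surjective q
      rw [hσ'v, hφ'v, hσ'v, hφ'v, hφ'v, hrel]
    · intro q
      obtain ⟨g, rfl⟩ := QuotientGroup.mk_surjective q
      rw [hσ'v, ← QuotientGroup.mk_mul, ← QuotientGroup.mk_pow, hsq, QuotientGroup.mk_one]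
  have hQinv : ∀ q : T ⧸ Z, q⁻¹ = q := fun q =>
    inv_eq_of_mul_eq_one_right (by rw [← sq]; exact hQ q)
  have hQc : ∀ q r : T ⧸ Z, q * r = r * q := fun q r => by
    conv_lhs => rw [← hQinv (q * r), mul_inv_rev, hQinv, hQinv]
  let W : Set T := {w | ∃ t z, z ∈ Z ∧ w = t * σ t * z}
  have hW2 : ∀ w ∈ W, w ^ 2 = 1 := by
    rintro w ⟨t, z, hz, rfl⟩
    rw [(show Commute (t * σ t) z from Subgroup.mem_center_iff.1 hz.1 _).mul_pow, hsq, hz.2, one_mul]
  have hWmul : ∀ a ∈ W, ∀ b ∈ W, a * b ∈ W := by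
    rintro a ⟨t, z, hz, rfl⟩ b ⟨r, w, hw, rfl⟩
    refine ⟨t * r, (t * r * σ (t * r))⁻¹ * (t * σ t * z * (r * σ r * w)), ?_, by group⟩
    rw [← QuotientGroup.eq_one_iff, QuotientGroup.mk_mul, QuotientGroup.mk_inv,
      inv_mul_eq_one]
    simp only [QuotientGroup.mk_mul, map_mul, (QuotientGroup.eq_one_iff z).2 hz,
      (QuotientGroup.eq_one_iff w).2 hw, mul_one]
    rw [mul_assoc, mul_assoc, ← mul_assoc (r : T ⧸ Z) _ _, hQc (r : T ⧸ Z) (σ t : T ⧸ Z), mul_assoc]
  have hWc : ∀ a ∈ W, ∀ b ∈ W, Commute a b := by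
    intro a ha b hb
    have ha' : a⁻¹ = a := inv_eq_of_mul_eq_one_right (by rw [← sq]; exact hW2 a ha)
    have hb' : b⁻¹ = b := inv_eq_of_mul_eq_one_right (by rw [← sq]; exact hW2 b hb)
    have hab : (a * b)⁻¹ = a * b :=
      inv_eq_of_mul_eq_one_right (by rw [← sq]; exact hW2 _ (hWmul a ha b hb))
    rw [mul_inv_rev, ha', hb'] at hab
    exact hab.symm
  have hcZ : ∀ a b : T, ⁅a, b⁆ ∈ Z := fun a b => by
    rw [← QuotientGroup.eq_one_iff, ← QuotientGroup.mk'_apply, map_commutatorElement,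
      commutatorElement_eq_one_iff_commute]
    exact hQc _ _
  -- `W` commutes with `φ W`
  have hWφ : ∀ a ∈ W, ∀ b ∈ W, Commute a (φ b) := by
    intro a ha b hb
    have hrel2 : ∀ w ∈ W, φ (φ w) = w * φ w := by
      intro w hw
      have h1 := eq_inv_of_mul_eq_one_right (fpf3_relation φ hφ h3 w)
      have h2 : φ w ^ 2 = 1 := by rw [← map_pow, hW2 w hw, map_one]
      have h4 : (φ w)⁻¹ = φ w := inv_eq_of_mul_eq_one_right (by rw [← sq]; exact h2)
      have h5 : w⁻¹ = w := inv_eq_of_mul_eq_one_right (by rw [← sq]; exact hW2 w hw)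
      rw [h1, mul_inv_rev, h4, h5]
      exact (fpf3_commute φ hφ h3 w).eq.symm
    have hφab : Commute (φ a) (φ b) := (hWc a ha b hb).map φ.toMonoidHom
    set c1 := ⁅a, φ b⁆ with hc1
    set c2 := ⁅φ a, b⁆ with hc2
    have hc1c : ∀ g, Commute g c1 := fun g => Subgroup.mem_center_iff.1 (hcZ _ _).1 g
    have hc2c : ∀ g, Commute g c2 := fun g => Subgroup.mem_center_iff.1 (hcZ _ _).1 g
    have e1 : a * φ b = c1 * φ b * a := by rw [hc1, commutatorElement_def]; group
    have e2 : φ a * b = c2 * b * φ a := by rw [hc2, commutatorElement_def]; group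
    have hφφ : Commute (φ (φ a)) (φ (φ b)) := hφab.map φ.toMonoidHom
    rw [hrel2 a ha, hrel2 b hb] at hφφ
    have h6 : c1 * c2 = 1 := by
      have L : a * φ a * (b * φ b) = c1 * c2 * (b * φ b * (a * φ a)) := by
        calc a * φ a * (b * φ b) = a * (φ a * b) * φ b := by group
          _ = a * (c2 * b * φ a) * φ b := by rw [e2]
          _ = (a * c2) * b * (φ a * φ b) := by group
          _ = (c2 * a) * b * (φ b * φ a) := by rw [(hc2c a).eq, hφab.eq]
          _ = c2 * (a * b) * φ b * φ a := by group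
          _ = c2 * (b * a) * φ b * φ a := by rw [(hWc a ha b hb).eq]
          _ = c2 * b * (a * φ b) * φ a := by group
          _ = c2 * b * (c1 * φ b * a) * φ a := by rw [e1]
          _ = c2 * (b * c1) * (φ b * (a * φ a)) := by group
          _ = c2 * (c1 * b) * (φ b * (a * φ a)) := by rw [(hc1c b).eq]
          _ = (c2 * c1) * (b * φ b * (a * φ a)) := by group
          _ = c1 * c2 * (b * φ b * (a * φ a)) := by rw [(hc1c c2).eq]
      rw [hφφ.eq] at L
      exact mul_eq_right.1 L.symm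
    have h7 : φ c1 = c2 := by
      rw [hc1, map_commutatorElement, hrel2 b hb, hc2]
      rw [commutatorElement_def, commutatorElement_def]
      calc φ a * (b * φ b) * (φ a)⁻¹ * (b * φ b)⁻¹
          = φ a * b * (φ b * (φ a)⁻¹) * (φ b)⁻¹ * b⁻¹ := by group
        _ = φ a * b * ((φ a)⁻¹ * φ b) * (φ b)⁻¹ * b⁻¹ := by rw [(hφab.symm.inv_right).eq]
        _ = φ a * b * (φ a)⁻¹ * b⁻¹ := by group
    have h8 : c2 = c1 := by
      have := inv_eq_of_mul_eq_one_right h6
      rw [← this]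
      exact inv_eq_of_mul_eq_one_right (by rw [← sq]; exact (hcZ _ _).2)
    exact commutatorElement_eq_one_iff_commute.1 (hφ c1 (h7.trans h8))
  -- every element is a product from `W`, `φ W` and `Z`
  set w1 := φ (σ t) * σ (φ (σ t)) with hw1
  set w2 := σ t * σ (σ t) with hw2
  have hw1W : w1 ∈ W := ⟨φ (σ t), 1, Z.one_mem, (mul_one _).symm⟩
  have hw2W : w2 ∈ W := ⟨σ t, 1, Z.one_mem, (mul_one _).symm⟩
  have hz0 : (w1 * φ w2)⁻¹ * t ∈ Z := by
    rw [← QuotientGroup.eq_one_iff, QuotientGroup.mk_mul, QuotientGroup.mk_inv, inv_mul_eq_one]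
    rw [hw1, hw2, hrel, hσ, map_mul]
    simp only [QuotientGroup.mk_mul]
    have h4 := congrArg (fun g : T => (g : T ⧸ Z)) (fpf3_relation φ hφ h3 t)
    simp only [QuotientGroup.mk_mul, QuotientGroup.mk_one] at h4
    generalize (φ (σ t) : T ⧸ Z) = A at h4 ⊢
    generalize (φ (φ t) : T ⧸ Z) = C at h4 ⊢
    generalize (φ t : T ⧸ Z) = B at h4 ⊢
    have hA : A * A = 1 := by rw [← sq]; exact hQ A
    calc A * C * (A * B) = A * (C * A) * B := by simp only [mul_assoc]
      _ = A * (A * C) * B := by rw [hQc C A]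
      _ = C * B := by rw [← mul_assoc A A C, hA, one_mul]
      _ = B * C := hQc C B
      _ = (t : T ⧸ Z)⁻¹ := eq_inv_of_mul_eq_one_right (by rw [← mul_assoc]; exact h4)
      _ = (t : T ⧸ Z) := hQinv _
  have hcomm : Commute w1 (φ w2) := hWφ w1 hw1W w2 hw2W
  have hpow : (w1 * φ w2) ^ 2 = 1 := by
    rw [hcomm.mul_pow, hW2 w1 hw1W, ← map_pow, hW2 w2 hw2W, map_one, one_mul]
  rw [show t = (w1 * φ w2) * ((w1 * φ w2)⁻¹ * t) by group,
    (show Commute (w1 * φ w2) ((w1 * φ w2)⁻¹ * t) from Subgroup.mem_center_iff.1 hz0.1 _).mul_pow,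
    hpow, hz0.2, one_mul]

section Structure

variable {G : Type*} [Group G] [Finite G]

/-- all orders are `≤ 4`, and both primes occur -/
structure SmallOrd (G : Type*) [Group G] : Prop where
  le_four : ∀ g : G, orderOf g ≤ 4
  two : 2 ∣ Nat.card G
  three : 3 ∣ Nat.card G

theorem SmallOrd.prime_eq (h : SmallOrd G) {p : ℕ} (hp : p.Prime) (hd : p ∣ Nat.card G) :
    p = 2 ∨ p = 3 := by
  haveI := Fact.mk hp
  obtain ⟨g, hg⟩ := exists_prime_orderOf_dvd_card' p hd
  have := h.le_four g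
  rw [hg] at this
  interval_cases p <;> first | omega | exact absurd hp (by norm_num)

theorem SmallOrd.not_six (h : SmallOrd G) (g : G) : ¬ 6 ∣ orderOf g := fun hd => by
  have h1 := Nat.le_of_dvd (orderOf_pos g) hd
  have h2 := h.le_four g
  omega

theorem SmallOrd.isPGroup_two (h : SmallOrd G) {H : Subgroup G} (hH : ¬ 3 ∣ Nat.card H) :
    IsPGroup 2 H := by
  haveI := Fact.mk Nat.prime_two
  refine IsPGroup.of_card (n := (Nat.card H).primeFactorsList.length) ?_
  refine Nat.eq_prime_pow_of_unique_prime_dvd Nat.card_pos.ne' fun {r} hr hrd => ?_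
  rcases h.prime_eq hr (hrd.trans (Subgroup.card_subgroup_dvd_card H)) with rfl | rfl
  · rfl
  · exact absurd hrd hH

/-- a `3`-element commuting with a `2`-element -/
theorem SmallOrd.not_commute (h : SmallOrd G) {a b : G} (ha : orderOf a = 2) (hb : orderOf b = 3) :
    ¬ Commute a b := fun hc => h.not_six (a * b) <| by
  rw [hc.orderOf_mul_eq_mul_orderOf_of_coprime (by rw [ha, hb]; norm_num), ha, hb]

theorem SmallOrd.isFPF (h : SmallOrd G) {p q : ℕ} [Fact p.Prime] [Fact q.Prime]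
    (hpq : p = 2 ∧ q = 3 ∨ p = 3 ∧ q = 2) (A V : Subgroup G) [V.Normal] (hA : IsPGroup p A)
    (hV : IsPGroup q V) : Frobenius.IsFPF A V :=
  Frobenius.isFPF_of_normal fun a ha ha1 => by
    rw [Subgroup.eq_bot_iff_forall]
    rintro v ⟨hv, hva⟩
    by_contra hv1
    obtain ⟨i, hi⟩ := IsPGroup.iff_orderOf.1 hA ⟨a, ha⟩
    obtain ⟨j, hj⟩ := IsPGroup.iff_orderOf.1 hV ⟨v, hv⟩
    rw [Subgroup.orderOf_mk] at hi hj
    have hi0 : i ≠ 0 := fun h0 => ha1 (orderOf_eq_one_iff.1 (by rw [hi, h0, pow_zero]))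
    have hj0 : j ≠ 0 := fun h0 => hv1 (orderOf_eq_one_iff.1 (by rw [hj, h0, pow_zero]))
    have ho1 := orderOf_pow_orderOf_div (orderOf_pos a).ne' (hi ▸ dvd_pow_self p hi0)
    have ho2 := orderOf_pow_orderOf_div (orderOf_pos v).ne' (hj ▸ dvd_pow_self q hj0)
    have hc : Commute v a := Subgroup.mem_centralizer_singleton_iff.1 hva
    rcases hpq with ⟨rfl, rfl⟩ | ⟨rfl, rfl⟩
    · exact h.not_commute ho1 ho2 (hc.symm.pow_pow _ _)
    · exact h.not_commute ho2 ho1 (hc.pow_pow _ _)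

theorem SmallOrd.quotient_not_six (h : SmallOrd G) (N : Subgroup G) [N.Normal] {a b : G ⧸ N}
    (ha : orderOf a = 2) (hb : orderOf b = 3) : ¬ Commute a b := fun hc => by
  obtain ⟨g, hg⟩ := QuotientGroup.mk'_surjective N (a * b)
  refine h.not_six g ?_
  have h1 := orderOf_map_dvd (QuotientGroup.mk' N) g
  rw [hg, hc.orderOf_mul_eq_mul_orderOf_of_coprime (by rw [ha, hb]; norm_num), ha, hb] at h1
  exact h1

theorem SmallOrd.isSolvable (h : SmallOrd G) : Group.IsSolvable G := by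
  have hn : Small 5 (Nat.card G) := fun r hr hrd => by
    rcases h.prime_eq hr hrd with rfl | rfl <;> norm_num
  exact S0144.result 2 3 _ _ Nat.prime_two Nat.prime_three (small_five_eq Nat.card_pos.ne' hn)

/-- the case of a nontrivial normal `3`-subgroup -/
theorem SmallOrd.three_case (h : SmallOrd G) (hT : pCore 3 G ≠ ⊥) :
    IsElementaryAbelian 3 (pCore 3 G) ∧ ∃ P : Sylow 2 G, Nonempty (G ⧸ pCore 3 G ≃* P) ∧
      ((IsCyclic P ∧ (Nat.card P = 2 ∨ Nat.card P = 4)) ∨
        Nonempty (P ≃* QuaternionGroup 2)) := by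
  haveI := Fact.mk Nat.prime_two
  haveI := Fact.mk Nat.prime_three
  set T := pCore 3 G with hTdef
  have hTp : IsPGroup 3 T := Thompson.isPGroup_pCore
  obtain ⟨P⟩ := (inferInstance : Nonempty (Sylow 2 G))
  have hf : Frobenius.IsFPF (P : Subgroup G) T := h.isFPF (Or.inl ⟨rfl, rfl⟩) _ _ P.2 hTp
  have hPd : 2 ∣ Nat.card (P : Subgroup G) := P.dvd_card_of_dvd_card h.two
  obtain ⟨⟨z, hzP, hz2, hzu, -⟩, hTc⟩ := hf.unique_involution hT hPd
  have hTe : IsElementaryAbelian 3 T := by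
    refine ⟨hTc, fun t ht => ?_⟩
    obtain ⟨j, hj⟩ := IsPGroup.iff_orderOf.1 hTp ⟨t, ht⟩
    rw [Subgroup.orderOf_mk] at hj
    have := h.le_four t
    have hj1 : j ≤ 1 := by
      by_contra hj1
      have h9 : 3 ^ 2 ≤ 3 ^ j := Nat.pow_le_pow_right (by norm_num) (by omega)
      omega
    rw [← orderOf_dvd_iff_pow_eq_one, hj]
    exact (pow_dvd_pow 3 hj1).trans (pow_one 3).dvd
  refine ⟨hTe, P, ?_, ?_⟩
  · -- the quotient is a `2`-group
    have hdisj : (P : Subgroup G) ⊓ T = ⊥ := hf.inf_eq_bot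
    haveI : Group.IsSolvable G := h.isSolvable
    haveI : Group.IsSolvable (G ⧸ T) := inferInstance
    have hQ0 : pCore 3 (G ⧸ T) = ⊥ := Thompson.pCore_quotient_pCore
    have h2Q : 2 ∣ Nat.card (G ⧸ T) := by
      refine (Nat.Coprime.dvd_of_dvd_mul_right ?_
        ((Subgroup.card_eq_card_quotient_mul_card_subgroup T) ▸ h.two))
      obtain ⟨n, hn⟩ := IsPGroup.iff_card.1 hTp
      rw [hn]
      exact Nat.Coprime.pow_right n (by norm_num)
    haveI : Nontrivial (G ⧸ T) :=
      Finite.one_lt_card_iff_nontrivial.1 (lt_of_lt_of_le one_lt_two (Nat.le_of_dvd Nat.card_pos h2Q))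
    obtain ⟨W, r, hWn, hW0, -, hr, hWr, -, -, d, hd, hWc⟩ :=
      Solvable.exists_minimal_normal_elementary (G ⧸ T)
    haveI := hWn
    have hr2 : r = 2 := by
      rcases h.prime_eq hr (((hWc ▸ dvd_pow_self r hd.ne') : r ∣ Nat.card W).trans
        ((Subgroup.card_subgroup_dvd_card W).trans
          (Subgroup.card_quotient_dvd_card T))) with h1 | h1
      · exact h1
      · subst h1
        exact absurd (le_bot_iff.1 (hQ0 ▸ Thompson.le_pCore hWn hWr)) hW0
    subst hr2
    set Pb : Sylow 2 (G ⧸ T) := P.mapSurjective (QuotientGroup.mk'_surjective T) with hPb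
    have hWP : W ≤ Pb := (Thompson.le_pCore hWn hWr).trans (Thompson.pCore_le_sylow Pb)
    obtain ⟨w, hw⟩ := exists_prime_orderOf_dvd_card' (G := W) 2 (hWc ▸ dvd_pow_self 2 hd.ne')
    rw [← Subgroup.orderOf_coe] at hw
    have huniq : ∀ v ∈ W, orderOf v = 2 → v = QuotientGroup.mk' T z := by
      intro v hv hv2
      have := hWP hv
      rw [hPb, Sylow.coe_mapSurjective] at this
      obtain ⟨a, ha, rfl⟩ := this
      have ha2 : a ^ 2 = 1 := by
        have h1 : a ^ 2 ∈ (P : Subgroup G) ⊓ T := ⟨pow_mem ha 2, by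
          show a ^ 2 ∈ T
          rw [← QuotientGroup.eq_one_iff]
          exact hv2 ▸ pow_orderOf_eq_one (QuotientGroup.mk' T a)⟩
        rwa [hdisj, Subgroup.mem_bot] at h1
      have ha1 : a ≠ 1 := fun h1 => by rw [h1, map_one, orderOf_one] at hv2; norm_num at hv2
      rw [hzu a ha (orderOf_eq_prime ha2 ha1)]
    have h3Q : ¬ 3 ∣ Nat.card (G ⧸ T) := by
      intro h3d
      obtain ⟨y, hy⟩ := exists_prime_orderOf_dvd_card' 3 h3d
      refine h.quotient_not_six T hw hy ?_
      have hconj : y * (w : G ⧸ T) * y⁻¹ = w := by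
        rw [huniq w w.2 hw, huniq (y * QuotientGroup.mk' T z * y⁻¹) ?_ ?_]
        · exact huniq w w.2 hw ▸ hWn.conj_mem _ w.2 y
        · rw [← MulAut.conj_apply, MulEquiv.orderOf_eq, ← huniq w w.2 hw, hw]
      exact (mul_inv_eq_iff_eq_mul.1 hconj).symm
    have hQ2 : IsPGroup 2 (⊤ : Subgroup (G ⧸ T)) := by
      refine IsPGroup.of_card (n := (Nat.card (G ⧸ T)).primeFactorsList.length) ?_
      rw [Subgroup.card_top]
      refine Nat.eq_prime_pow_of_unique_prime_dvd Nat.card_pos.ne' fun {r} hr hrd => ?_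
      rcases h.prime_eq hr (hrd.trans (Subgroup.card_quotient_dvd_card T)) with rfl | rfl
      · rfl
      · exact absurd hrd h3Q
    have htop : (Pb : Subgroup (G ⧸ T)) = ⊤ := (Pb.3 hQ2 le_top).symm
    refine ⟨(MulEquiv.ofBijective ((QuotientGroup.mk' T).comp (P : Subgroup G).subtype)
      ⟨?_, ?_⟩).symm⟩
    · rw [injective_iff_map_eq_one]
      intro a ha
      have h1 : (a : G) ∈ (P : Subgroup G) ⊓ T := ⟨a.2, (QuotientGroup.eq_one_iff _).1 ha⟩
      rw [hdisj, Subgroup.mem_bot] at h1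
      exact Subtype.ext h1
    · intro q
      have h1 : q ∈ (Pb : Subgroup (G ⧸ T)) := htop ▸ Subgroup.mem_top q
      rw [hPb, Sylow.coe_mapSurjective] at h1
      obtain ⟨a, ha, rfl⟩ := h1
      exact ⟨⟨a, ha⟩, rfl⟩
  · have hle : ∀ g : (P : Subgroup G), orderOf g ≤ 4 := fun g => by
      rw [← Subgroup.orderOf_coe]; exact h.le_four g
    let e' : ((P : Subgroup G).map (MonoidHom.id G) : Subgroup G) ≃* (P : Subgroup G) :=
      MulEquiv.subgroupCongr (Subgroup.map_id _)
    have hsyl : IsCyclic P ∨ ∃ n : ℕ, Nonempty (P ≃* QuaternionGroup (2 ^ n)) := by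
      rcases S0016.result (G := (P : Subgroup G)) 2 P.2 (hf.eq_of_card_prime hT P.2) with h1 | ⟨-, h1⟩
      · exact Or.inl h1
      · exact Or.inr h1
    have hcyc : IsCyclic P → Nat.card P = 2 ∨ Nat.card P = 4 := by
      intro hc
      obtain ⟨g, hg⟩ := hc.exists_ofOrder_eq_natCard
      have h1 := hle g
      rw [hg] at h1
      have h2 := Nat.le_of_dvd Nat.card_pos hPd
      show Nat.card (P : Subgroup G) = 2 ∨ Nat.card (P : Subgroup G) = 4
      omega
    rcases hsyl with hc | ⟨n, ⟨e⟩⟩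
    · exact Or.inl ⟨hc, hcyc hc⟩
    have hn : n ≤ 1 := by
      have h1 := hle (e.symm (QuaternionGroup.a 1))
      rw [MulEquiv.orderOf_eq, QuaternionGroup.orderOf_a_one] at h1
      by_contra hn
      have : 2 ^ 2 ≤ 2 ^ n := Nat.pow_le_pow_right (by norm_num) (by omega)
      omega
    interval_cases n
    · have hc : IsCyclic P := isCyclic_of_orderOf_eq_card (e.symm (QuaternionGroup.xa 0)) (by
        rw [MulEquiv.orderOf_eq, QuaternionGroup.orderOf_xa]
        show 4 = Nat.card (P : Subgroup G)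
        rw [Nat.card_congr e.toEquiv, Nat.card_eq_fintype_card, QuaternionGroup.card]
        norm_num)
      exact Or.inl ⟨hc, hcyc hc⟩
    · exact Or.inr ⟨e⟩

/-- the case without normal `3`-subgroups -/
theorem SmallOrd.two_case (h : SmallOrd G) (hT : pCore 3 G = ⊥) :
    pCore 2 G ≠ ⊥ ∧ ((∀ a b c : pCore 2 G, Commute ⁅a, b⁆ c) ∧ (pCore 2 G).index = 3 ∨
      (IsElementaryAbelian 2 (pCore 2 G) ∧ Nonempty (G ⧸ pCore 2 G ≃* Equiv.Perm (Fin 3)) ∧
        ∃ g : G, orderOf g = 4)) := by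
  haveI := Fact.mk Nat.prime_two
  haveI := Fact.mk Nat.prime_three
  haveI : Group.IsSolvable G := h.isSolvable
  set T := pCore 2 G with hTdef
  have hTp : IsPGroup 2 T := Thompson.isPGroup_pCore
  haveI : Nontrivial G :=
    Finite.one_lt_card_iff_nontrivial.1 (lt_of_lt_of_le one_lt_two (Nat.le_of_dvd Nat.card_pos h.two))
  obtain ⟨V, r, hVn, hV0, -, hr, hVr, -, -, d, hd, hVc⟩ :=
    Solvable.exists_minimal_normal_elementary G
  have hT0 : T ≠ ⊥ := by
    rcases h.prime_eq hr (((hVc ▸ dvd_pow_self r hd.ne') : r ∣ Nat.card V).trans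
      (Subgroup.card_subgroup_dvd_card V)) with h1 | h1
    · subst h1
      exact fun h0 => hV0 (le_bot_iff.1 (h0 ▸ Thompson.le_pCore hVn hVr))
    · subst h1
      exact absurd (le_bot_iff.1 (hT ▸ Thompson.le_pCore hVn hVr)) hV0
  refine ⟨hT0, ?_⟩
  obtain ⟨x, hx⟩ := exists_prime_orderOf_dvd_card' (G := G) 3 h.three
  -- the Sylow `3`-subgroup has order three
  obtain ⟨Q⟩ := (inferInstance : Nonempty (Sylow 3 G))
  have hfQ := h.isFPF (Or.inr ⟨rfl, rfl⟩) (Q : Subgroup G) T Q.2 hTp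
  have hQcyc : IsCyclic Q := by
    rcases S0016.result (G := (Q : Subgroup G)) 3 Q.2 (hfQ.eq_of_card_prime hT0 Q.2) with h1 | ⟨h2, -⟩
    · exact h1
    · norm_num at h2
  have hQ3 : Nat.card Q = 3 := by
    obtain ⟨g, hg⟩ := hQcyc.exists_ofOrder_eq_natCard
    have h1 : Nat.card (Q : Subgroup G) ≤ 4 := by rw [← hg, ← Subgroup.orderOf_coe]; exact h.le_four _
    have h2 : 3 ∣ Nat.card (Q : Subgroup G) := Q.dvd_card_of_dvd_card h.three
    have h3 := Nat.le_of_dvd Nat.card_pos h2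
    show Nat.card (Q : Subgroup G) = 3
    omega
  have h9 : ¬ 3 ^ 2 ∣ Nat.card G := by
    intro h9
    have h1 : 3 ^ 2 ∣ Nat.card (Q : Subgroup G) := Q.pow_dvd_card_of_pow_dvd_card h9
    rw [hQ3] at h1
    norm_num at h1
  have hTcard : ∃ n, Nat.card T = 2 ^ n := IsPGroup.iff_card.1 hTp
  -- the quotient
  have hQ0 : pCore 2 (G ⧸ T) = ⊥ := Thompson.pCore_quotient_pCore
  have h3Q : 3 ∣ Nat.card (G ⧸ T) := by
    refine Nat.Coprime.dvd_of_dvd_mul_right ?_
      ((Subgroup.card_eq_card_quotient_mul_card_subgroup T) ▸ h.three)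
    obtain ⟨n, hn⟩ := hTcard
    rw [hn]
    exact Nat.Coprime.pow_right n (by norm_num)
  haveI : Nontrivial (G ⧸ T) :=
    Finite.one_lt_card_iff_nontrivial.1 (by have := Nat.le_of_dvd Nat.card_pos h3Q; omega)
  obtain ⟨W, r, hWn, hW0, -, hr, hWr, -, -, d, hd, hWc⟩ :=
    Solvable.exists_minimal_normal_elementary (G ⧸ T)
  haveI := hWn
  have hr3 : r = 3 := by
    rcases h.prime_eq hr (((hWc ▸ dvd_pow_self r hd.ne') : r ∣ Nat.card W).trans
      ((Subgroup.card_subgroup_dvd_card W).trans (Subgroup.card_quotient_dvd_card T))) with h1 | h1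
    · subst h1
      exact absurd (le_bot_iff.1 (hQ0 ▸ Thompson.le_pCore hWn hWr)) hW0
    · exact h1
  subst hr3
  have hW3 : Nat.card W = 3 := by
    have h1 : d = 1 := by
      by_contra hne
      exact h9 (((pow_dvd_pow 3 (show 2 ≤ d by omega)).trans (hWc ▸ dvd_rfl)).trans
        ((Subgroup.card_subgroup_dvd_card W).trans (Subgroup.card_quotient_dvd_card T)))
    rw [hWc, h1, pow_one]
  haveI : IsCyclic W := isCyclic_of_prime_card hW3
  -- the centralizer of `W`
  let ψ : G ⧸ T →* MulAut W := MulAut.conjNormal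
  have hker2 : ¬ 2 ∣ Nat.card ψ.ker := by
    intro h2
    obtain ⟨y, hy⟩ := exists_prime_orderOf_dvd_card' (G := ψ.ker) 2 h2
    obtain ⟨w, hw⟩ := exists_prime_orderOf_dvd_card' (G := W) 3 (hW3 ▸ dvd_rfl)
    rw [← Subgroup.orderOf_coe] at hy hw
    refine h.quotient_not_six T hy hw ?_
    have h1 := congrArg (fun f : MulAut W => ((f w : W) : G ⧸ T)) (MonoidHom.mem_ker.1 y.2)
    simp only [ψ, MulAut.conjNormal_apply, MulAut.one_apply] at h1
    exact mul_inv_eq_iff_eq_mul.1 h1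
  have hWker : W ≤ ψ.ker := fun a ha => MonoidHom.mem_ker.2 (MulEquiv.ext fun w => Subtype.ext (by
    simp only [ψ, MulAut.conjNormal_apply, MulAut.one_apply]
    letI := IsCyclic.commGroup (α := W)
    have : (⟨a, ha⟩ : W) * w = w * ⟨a, ha⟩ := mul_comm _ _
    rw [mul_inv_eq_iff_eq_mul]
    exact congrArg Subtype.val this))
  have hkerW : ψ.ker = W := by
    refine (Subgroup.eq_of_le_of_card_ge hWker ?_).symm
    obtain ⟨m, hm⟩ : ∃ m, Nat.card ψ.ker = 3 ^ m :=
      ⟨_, Nat.eq_prime_pow_of_unique_prime_dvd Nat.card_pos.ne' fun {r} hr hrd => by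
        rcases h.prime_eq hr (hrd.trans ((Subgroup.card_subgroup_dvd_card _).trans
          (Subgroup.card_quotient_dvd_card T))) with rfl | rfl
        · exact absurd hrd hker2
        · rfl⟩
    have hm1 : m ≤ 1 := by
      by_contra hm1
      exact h9 (((pow_dvd_pow 3 (show 2 ≤ m by omega)).trans (dvd_of_eq hm.symm)).trans
        ((Subgroup.card_subgroup_dvd_card _).trans (Subgroup.card_quotient_dvd_card T)))
    rw [hm, hW3]
    exact (Nat.pow_le_pow_right (by norm_num) hm1).trans (pow_one 3).le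
  have hQcard : Nat.card (G ⧸ T) = 3 ∨ Nat.card (G ⧸ T) = 6 := by
    have h1 : ψ.ker.index ∣ 2 := by
      rw [Subgroup.index_ker]
      refine (Subgroup.card_subgroup_dvd_card _).trans (dvd_of_eq ?_)
      rw [IsCyclic.card_mulAut W, hW3]
      rfl
    rw [hkerW] at h1
    have h2 := Subgroup.card_mul_index W
    rw [hW3] at h2
    rcases (Nat.dvd_prime Nat.prime_two).1 h1 with h3 | h3 <;> rw [h3] at h2
    · exact Or.inl h2.symm
    · exact Or.inr h2.symm
  -- the fixed-point-free automorphism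
  let φ : T ≃* T := MulAut.conjNormal x
  have hxT : ∀ t ∈ T, x * t * x⁻¹ = t → t = 1 := by
    intro t ht htx
    by_contra ht1
    obtain ⟨j, hj⟩ := IsPGroup.iff_orderOf.1 hTp ⟨t, ht⟩
    rw [Subgroup.orderOf_mk] at hj
    have hj0 : j ≠ 0 := fun h0 => ht1 (orderOf_eq_one_iff.1 (by rw [hj, h0, pow_zero]))
    exact h.not_commute (orderOf_pow_orderOf_div (orderOf_pos t).ne' (hj ▸ dvd_pow_self 2 hj0)) hx
      ((show Commute t x from (mul_inv_eq_iff_eq_mul.1 htx).symm).pow_left _)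
  have hφ : ∀ g, φ g = g → g = 1 := fun g hg =>
    Subtype.ext (hxT g g.2 (by
      have := congrArg Subtype.val hg
      simpa [φ, MulAut.conjNormal_apply] using this))
  have hx3 : x ^ 3 = 1 := hx ▸ pow_orderOf_eq_one x
  have hφ3 : ∀ g, φ (φ (φ g)) = g := fun g => by
    show (MulAut.conjNormal x * MulAut.conjNormal x * MulAut.conjNormal x : MulAut T) g = g
    rw [← map_mul, ← map_mul, ← pow_three', hx3, map_one]
    rfl
  rcases hQcard with hc | hc
  · left
    refine ⟨commutator_mem_center_of_engel (fpf3_engel φ hφ hφ3) ?_, ?_⟩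
    · obtain ⟨n, hn⟩ := hTcard
      rw [hn]
      exact fun h3 => absurd (Nat.prime_three.dvd_of_dvd_pow h3) (by norm_num)
    · rw [Subgroup.index_eq_card, hc]
  right
  -- an involution inverting `x`
  set Z := Subgroup.zpowers x with hZ
  set M := W.comap (QuotientGroup.mk' T) with hM
  haveI : M.Normal := hWn.comap _
  set xb := QuotientGroup.mk' T x with hxb
  have hxb3 : orderOf xb = 3 := by
    refine ((Nat.dvd_prime Nat.prime_three).1 (hx ▸ orderOf_map_dvd _ x)).resolve_left fun h1 => ?_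
    rw [orderOf_eq_one_iff] at h1
    obtain ⟨j, hj⟩ := IsPGroup.iff_orderOf.1 hTp ⟨x, (QuotientGroup.eq_one_iff x).1 h1⟩
    rw [Subgroup.orderOf_mk, hx] at hj
    exact absurd (Nat.prime_three.dvd_of_dvd_pow hj.dvd) (by norm_num)
  have hxM : x ∈ M := by
    show xb ∈ W
    by_contra hxW
    have h3i : 3 ∣ W.index := by
      have h1 : orderOf (QuotientGroup.mk' W xb) = 3 :=
        ((Nat.dvd_prime Nat.prime_three).1 (hxb3 ▸ orderOf_map_dvd _ xb)).resolve_left fun h1 =>
          hxW ((QuotientGroup.eq_one_iff xb).1 (orderOf_eq_one_iff.1 h1))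
      rw [Subgroup.index_eq_card, ← h1]
      exact orderOf_dvd_natCard _
    have h2 := Subgroup.card_mul_index W
    rw [hW3, hc] at h2
    omega
  have hQM : ∀ a ∈ M, ∃ i : ℤ, a * (x ^ i)⁻¹ ∈ T := by
    intro a ha
    have hWz : W = Subgroup.zpowers xb := (Subgroup.eq_of_le_of_card_ge
      (Subgroup.zpowers_le.2 (show xb ∈ W from hxM)) (by rw [Nat.card_zpowers, hxb3, hW3])).symm
    have h1 : QuotientGroup.mk' T a ∈ W := ha
    rw [hWz] at h1
    obtain ⟨i, hi⟩ := Subgroup.mem_zpowers_iff.1 h1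
    refine ⟨i, (QuotientGroup.eq_one_iff _).1 ?_⟩
    show QuotientGroup.mk' T (a * (x ^ i)⁻¹) = 1
    rw [map_mul, map_inv, map_zpow, ← hxb, hi, mul_inv_cancel]
  let S : Sylow 3 M := Sylow.ofCard (Z.subgroupOf M) (by
    rw [Nat.card_congr (Subgroup.subgroupOfEquivOfLe (Subgroup.zpowers_le.2 hxM)).toEquiv,
      Nat.card_zpowers, hx]
    have h1 : (Nat.card M).factorization 3 = 1 := by
      refine le_antisymm ?_ ?_
      · by_contra h2
        exact h9 (((pow_dvd_pow 3 (show 2 ≤ (Nat.card M).factorization 3 by omega)).trans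
          (Nat.ordProj_dvd _ 3)).trans (Subgroup.card_subgroup_dvd_card M))
      · refine (Nat.Prime.dvd_iff_one_le_factorization Nat.prime_three Nat.card_pos.ne').1 ?_
        rw [← hx, ← Subgroup.orderOf_mk x hxM]
        exact orderOf_dvd_natCard _
    rw [h1, pow_one])
  have hSZ : (S : Subgroup M).map M.subtype = Z := by
    show (Z.subgroupOf M).map M.subtype = Z
    rw [Subgroup.subgroupOf_map_subtype, inf_of_le_left (Subgroup.zpowers_le.2 hxM)]
  set N := Subgroup.normalizer ((Z : Subgroup G) : Set G) with hN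
  have hsup : N ⊔ M = ⊤ := by
    have := Sylow.normalizer_sup_eq_top S
    rwa [hSZ] at this
  have hNT : ∀ t ∈ N, t ∈ T → t = 1 := by
    intro t ht htT
    have h1 : x * t * x⁻¹ * t⁻¹ ∈ T :=
      T.mul_mem (Subgroup.Normal.conj_mem inferInstance t htT x) (T.inv_mem htT)
    have h2 : x * t * x⁻¹ * t⁻¹ ∈ Z := by
      rw [mul_assoc, mul_assoc]
      refine Z.mul_mem (Subgroup.mem_zpowers x) ?_
      rw [← mul_assoc]
      exact (Subgroup.mem_normalizer_iff.1 ht _).1 (Z.inv_mem (Subgroup.mem_zpowers x))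
    obtain ⟨i, hi⟩ := Subgroup.mem_zpowers_iff.1 h2
    rw [← hi, ← QuotientGroup.eq_one_iff, QuotientGroup.mk_zpow, ← QuotientGroup.mk'_apply,
      ← hxb, ← orderOf_dvd_iff_zpow_eq_one, hxb3] at h1
    have h4 : x ^ i = 1 := orderOf_dvd_iff_zpow_eq_one.1 (by rw [hx]; exact h1)
    rw [h4] at hi
    exact hxT t htT (mul_inv_eq_one.1 hi.symm)
  let f : N →* G ⧸ T := (QuotientGroup.mk' T).comp N.subtype
  have hfb : Function.Bijective f := by
    constructor
    · rw [injective_iff_map_eq_one]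
      intro a ha
      exact Subtype.ext (hNT a a.2 ((QuotientGroup.eq_one_iff _).1 ha))
    · intro q
      obtain ⟨g, rfl⟩ := QuotientGroup.mk'_surjective T q
      obtain ⟨a, ha, b, hb, rfl⟩ :=
        Subgroup.mem_sup_of_normal_right.1 (hsup ▸ Subgroup.mem_top g)
      obtain ⟨i, hi⟩ := hQM b hb
      refine ⟨⟨a * x ^ i, mul_mem ha (zpow_mem (Subgroup.le_normalizer (Subgroup.mem_zpowers x)) i)⟩, ?_⟩
      show QuotientGroup.mk' T (a * x ^ i) = QuotientGroup.mk' T (a * b)
      have h1 : QuotientGroup.mk' T (b * (x ^ i)⁻¹) = 1 := (QuotientGroup.eq_one_iff _).2 hi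
      rw [map_mul, map_inv, mul_inv_eq_one] at h1
      rw [map_mul, map_mul, h1]
  let e := MulEquiv.ofBijective f hfb
  obtain ⟨sb, hsb⟩ := exists_prime_orderOf_dvd_card' (G := G ⧸ T) 2 (hc ▸ by norm_num)
  set s : G := ((e.symm sb : N) : G) with hs
  have hs2 : orderOf s = 2 := by rw [hs, Subgroup.orderOf_coe, MulEquiv.orderOf_eq, hsb]
  have hsmk : QuotientGroup.mk' T s = sb := e.apply_symm_apply sb
  have hss : s * s = 1 := by rw [← sq, ← hs2, pow_orderOf_eq_one]
  have hsinv : s⁻¹ = s := inv_eq_of_mul_eq_one_right hss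
  have hsx : s * x * s = x * x := by
    have h1 : s * x * s⁻¹ ∈ Z :=
      (Subgroup.mem_normalizer_iff.1 (e.symm sb).2 x).1 (Subgroup.mem_zpowers x)
    obtain ⟨i, hi⟩ := Subgroup.mem_zpowers_iff.1 h1
    rw [← zpow_mod_orderOf, hx] at hi
    rw [hsinv] at hi
    have h0 := Int.emod_nonneg i (show ((3 : ℕ) : ℤ) ≠ 0 by norm_num)
    have h2 := Int.emod_lt_of_pos i (show (0 : ℤ) < ((3 : ℕ) : ℤ) by norm_num)
    push_cast at h0 h2 hi
    interval_cases hj : i % 3
    · exfalso
      rw [zpow_zero] at hi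
      have h3 : s * x = s := by
        calc s * x = s * x * (s * s) := by rw [hss, mul_one]
          _ = (s * x * s) * s := by group
          _ = s := by rw [← hi, one_mul]
      rw [mul_eq_left] at h3
      rw [h3, orderOf_one] at hx
      norm_num at hx
    · exfalso
      rw [zpow_one] at hi
      refine h.not_commute hs2 hx ?_
      show s * x = x * s
      calc s * x = s * x * (s * s) := by rw [hss, mul_one]
        _ = (s * x * s) * s := by group
        _ = x * s := by rw [← hi]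
    · rw [← hi, zpow_two]
  let σ : T ≃* T := MulAut.conjNormal s
  have hσ : ∀ g, σ (σ g) = g := fun g => by
    show (MulAut.conjNormal s * MulAut.conjNormal s : MulAut T) g = g
    rw [← map_mul, hss, map_one]
    rfl
  have hrel : ∀ g, σ (φ (σ g)) = φ (φ g) := fun g => by
    show (MulAut.conjNormal s * MulAut.conjNormal x * MulAut.conjNormal s : MulAut T) g =
      (MulAut.conjNormal x * MulAut.conjNormal x : MulAut T) g
    rw [← map_mul, ← map_mul, ← map_mul, hsx]
  have hts : ∀ t : T, orderOf ((t : G) * s) = 2 ∨ orderOf ((t : G) * s) = 4 := fun t => by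
    have h1 : QuotientGroup.mk' T ((t : G) * s) = sb := by
      rw [map_mul, show QuotientGroup.mk' T (t : G) = 1 from (QuotientGroup.eq_one_iff _).2 t.2,
        one_mul, hsmk]
    have h2 : 2 ∣ orderOf ((t : G) * s) := by
      rw [← hsb, ← h1]; exact orderOf_map_dvd _ _
    have h3 := h.le_four ((t : G) * s)
    have h4 := orderOf_pos ((t : G) * s)
    omega
  have hkey : ∀ t : T, ((t * σ t : T) : G) = ((t : G) * s) ^ 2 := fun t => by
    rw [Subgroup.coe_mul, sq]
    show (t : G) * ((MulAut.conjNormal s t : T) : G) = _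
    rw [MulAut.conjNormal_apply, hsinv]
    group
  have hexp : ∀ t : T, t ^ 2 = 1 := by
    refine exp_two_of_s3 _ T rfl hTp φ σ hφ hφ3 hσ hrel fun t => Subtype.ext ?_
    rw [SubmonoidClass.coe_pow, hkey, ← pow_mul, OneMemClass.coe_one]
    exact orderOf_dvd_iff_pow_eq_one.1 (by rcases hts t with h1 | h1 <;> rw [h1] <;> norm_num)
  have hTinv : ∀ t : T, t⁻¹ = t := fun t =>
    inv_eq_of_mul_eq_one_right (by rw [← sq]; exact hexp t)
  refine ⟨⟨⟨⟨fun a b => ?_⟩⟩, fun a ha => congrArg Subtype.val (hexp ⟨a, ha⟩)⟩, ?_, ?_⟩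
  · conv_lhs => rw [← hTinv (a * b), mul_inv_rev, hTinv, hTinv]
  · -- the quotient is `S₃`
    set K := Subgroup.zpowers sb with hK
    have hKc : Nat.card K = 2 := by rw [Nat.card_zpowers, hsb]
    have hKi : Nat.card ((G ⧸ T) ⧸ K) = 3 := by
      have h1 := Subgroup.card_eq_card_quotient_mul_card_subgroup K
      rw [hc, hKc] at h1
      omega
    let π := MulAction.toPermHom (G ⧸ T) ((G ⧸ T) ⧸ K)
    have hπ : Function.Injective π := by
      rw [← MonoidHom.ker_eq_bot_iff, ← Subgroup.normalCore_eq_ker]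
      by_contra hne
      have hle := Subgroup.normalCore_le K
      have heq : K.normalCore = K := by
        refine Subgroup.eq_of_le_of_card_ge hle ?_
        rw [hKc]
        exact (Subgroup.one_lt_card_iff_ne_bot _).2 hne
      have hKn : K.Normal := heq ▸ Subgroup.normalCore_normal K
      refine h.quotient_not_six T hsb hxb3 ?_
      have h1 := hKn.conj_mem sb (Subgroup.mem_zpowers sb) xb
      obtain ⟨i, hi⟩ := Subgroup.mem_zpowers_iff.1 h1
      rw [← zpow_mod_orderOf, hsb] at hi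
      push_cast at hi
      rcases Int.emod_two_eq i with h2 | h2 <;> rw [h2] at hi
      · rw [zpow_zero] at hi
        have : sb = 1 := conj_eq_one_iff.1 hi.symm
        rw [this, orderOf_one] at hsb
        norm_num at hsb
      · rw [zpow_one] at hi
        show sb * xb = xb * sb
        calc sb * xb = (xb * sb * xb⁻¹) * xb := by rw [← hi]
          _ = xb * sb := by group
    have hb : Function.Bijective π := by
      haveI := Fintype.ofFinite (G ⧸ T)
      haveI := Fintype.ofFinite (Equiv.Perm ((G ⧸ T) ⧸ K))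
      rw [Fintype.bijective_iff_injective_and_card]
      refine ⟨hπ, ?_⟩
      rw [← Nat.card_eq_fintype_card, ← Nat.card_eq_fintype_card, Nat.card_perm, hKi, hc]
      rfl
    exact ⟨(MulEquiv.ofBijective π hb).trans (Finite.equivFinOfCardEq hKi).permCongrHom⟩
  · -- an element of order four
    by_contra hno
    push Not at hno
    refine hT0 ((Subgroup.eq_bot_iff_forall T).2 fun t ht => ?_)
    have hσid : ∀ t : T, σ t = t := fun t => by
      have h1 : t * σ t = 1 := Subtype.ext (by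
        rw [hkey, OneMemClass.coe_one]
        rw [← (hts t).resolve_right (hno _), pow_orderOf_eq_one])
      rw [← hTinv (σ t)]
      exact inv_eq_of_mul_eq_one_left h1
    have h1 : φ ⟨t, ht⟩ = φ (φ ⟨t, ht⟩) := by
      have h2 := hrel ⟨t, ht⟩
      rwa [hσid, hσid] at h2
    exact congrArg Subtype.val (hφ _ (φ.injective h1.symm))

end Structure

end Cfsg.Agent.FGS76
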