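import Mathlib

/-!
Integer vectors indexed by pairs `{l, ι l}`, of squared norm 2 (3 at the second fixed point `e`),
with inner products 1: they share a common coordinate.
-/

set_option autoImplicit false
set_option linter.unusedSectionVars false

namespace Cfsg.Agent.FGS76

theorem sq_eq_one_of_le {z : ℤ} (h0 : z ≠ 0) (h : z ^ 2 ≤ 3) : z ^ 2 = 1 := by
  have h1 : z = 1 ∨ z = -1 := by
    have : -1 ≤ z ∧ z ≤ 1 := by
      constructor <;> nlinarith
    omega
  rcases h1 with rfl | rfl <;> norm_num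

/-- the members of a family of pairs meeting each other once have a common point, if there are
more than three of them -/
theorem exists_common {ι X : Type*} [DecidableEq X] (L : Set ι) (S : ι → Finset X)
    (hS : ∀ l ∈ L, (S l).card = 2) (r : ι → ι → Prop)
    (hinter : ∀ l ∈ L, ∀ m ∈ L, ¬ r l m → (S l ∩ S m).card = 1)
    (hr : ∀ l ∈ L, ∀ m ∈ L, r l m → S l = S m)
    (hbig : ∀ a b c : ι, ∃ d ∈ L, ¬ r a d ∧ ¬ r b d ∧ ¬ r c d) (l₀ : ι) (hl₀ : l₀ ∈ L) :
    ∃ A, ∀ l ∈ L, A ∈ S l := by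
  classical
  obtain ⟨A, B, hAB, h0⟩ := Finset.card_eq_two.1 (hS l₀ hl₀)
  by_contra hno
  push_neg at hno
  obtain ⟨l₁, hl₁, hA⟩ := hno A
  obtain ⟨l₂, hl₂, hB⟩ := hno B
  have meet : ∀ l ∈ L, ∀ m ∈ L, ∃ x, x ∈ S l ∧ x ∈ S m := by
    intro l hl m hm
    by_cases h : r l m
    · obtain ⟨x, hx⟩ := Finset.card_pos.1 (by rw [hS l hl]; norm_num : 0 < (S l).card)
      exact ⟨x, hx, hr l hl m hm h ▸ hx⟩
    · obtain ⟨x, hx⟩ := Finset.card_pos.1 (by rw [hinter l hl m hm h]; norm_num :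
        0 < (S l ∩ S m).card)
      exact ⟨x, Finset.mem_inter.1 hx⟩
  have pair : ∀ l ∈ L, ∀ x y, x ≠ y → x ∈ S l → y ∈ S l → ∀ z ∈ S l, z = x ∨ z = y := by
    intro l hl x y hxy hx hy z hz
    have h : S l = {x, y} := by
      refine (Finset.eq_of_subset_of_card_le ?_ ?_).symm
      · simp [Finset.insert_subset_iff, hx, hy]
      · rw [hS l hl, Finset.card_pair hxy]
    rw [h] at hz
    simpa using hz
  have hA0 : A ∈ S l₀ := by simp [h0]
  have hB0 : B ∈ S l₀ := by simp [h0]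
  have hB1 : B ∈ S l₁ := by
    obtain ⟨x, hx0, hx1⟩ := meet l₀ hl₀ l₁ hl₁
    rcases pair l₀ hl₀ A B hAB hA0 hB0 x hx0 with h | h
    · exact absurd (h ▸ hx1) hA
    · exact h ▸ hx1
  have hA2 : A ∈ S l₂ := by
    obtain ⟨x, hx0, hx2⟩ := meet l₀ hl₀ l₂ hl₂
    rcases pair l₀ hl₀ A B hAB hA0 hB0 x hx0 with h | h
    · exact h ▸ hx2
    · exact absurd (h ▸ hx2) hB
  obtain ⟨E, hE1, hE2⟩ := meet l₁ hl₁ l₂ hl₂
  have hEA : A ≠ E := fun h => hA (h.symm ▸ hE1)
  have hEB : B ≠ E := fun h => hB (h.symm ▸ hE2)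
  obtain ⟨d, hd, hd0, hd1, hd2⟩ := hbig l₀ l₁ l₂
  have two : ∀ l ∈ L, ¬ r l d → ∀ x y, x ≠ y → x ∈ S l → y ∈ S l → x ∈ S d → y ∈ S d → False := by
    intro l hl hld x y hxy hx hy hx' hy'
    have h1 := hinter l hl d hd hld
    have h2 : ({x, y} : Finset X) ⊆ S l ∩ S d := by
      simp [Finset.insert_subset_iff, hx, hy, hx', hy']
    have h3 := Finset.card_le_card h2
    rw [Finset.card_pair hxy, h1] at h3
    omega
  obtain ⟨x, hx0, hxd⟩ := meet l₀ hl₀ d hd
  rcases pair l₀ hl₀ A B hAB hA0 hB0 x hx0 with e | e <;> subst e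
  · -- `x` is the first point
    obtain ⟨z, hz1, hzd⟩ := meet l₁ hl₁ d hd
    rcases pair l₁ hl₁ B E hEB hB1 hE1 z hz1 with e | e <;> subst e
    · exact two l₀ hl₀ hd0 _ _ hAB hA0 hB0 hxd hzd
    · exact two l₂ hl₂ hd2 _ _ hEA hA2 hE2 hxd hzd
  · -- `x` is the second point
    obtain ⟨z, hz2, hzd⟩ := meet l₂ hl₂ d hd
    rcases pair l₂ hl₂ A E hEA hA2 hE2 z hz2 with e | e <;> subst e
    · exact two l₀ hl₀ hd0 _ _ hAB hA0 hB0 hzd hxd
    · exact two l₁ hl₁ hd1 _ _ hEB hB1 hE1 hxd hzd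

/-- the pattern -/
theorem star_pattern {L X : Type*} [DecidableEq L] [DecidableEq X] [Fintype L] (ι : L → L) (o e : L)
    (Y : Finset X) (b : X → L → ℤ) (hιι : ∀ l, ι (ι l) = l) (hιo : ι o = o) (hιe : ι e = e)
    (heo : e ≠ o) (hfix : ∀ l, ι l = l → l = o ∨ l = e) (hsym : ∀ χ l, b χ (ι l) = b χ l)
    (hT : ∀ l m, l ≠ o → m ≠ o →
      ∑ χ ∈ Y, b χ l * b χ m = (if l = m then 1 else 0) + (if l = ι m then 1 else 0) + 1)
    (hbig : 15 ≤ Fintype.card L) :
    ∃ A ∈ Y, ∃ σ : ℤ, σ ^ 2 = 1 ∧ (∀ l, l ≠ o → b A l = σ) ∧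
      (∀ χ ∈ Y.erase A, ∀ l, l ≠ o → l ≠ e → b χ l ≠ 0 →
        b χ e = 0 ∧ b χ l ^ 2 = 1 ∧
        (∀ m, m ≠ o → m ≠ e → b χ m ≠ 0 → m = l ∨ m = ι l) ∧
        (∀ ψ ∈ Y, b ψ l ≠ 0 → ψ = A ∨ ψ = χ)) ∧
      (∀ χ ∈ Y, b χ e ≠ 0 → b χ e ^ 2 = 1) := by
  classical
  let L' : Set L := {l | l ≠ o ∧ l ≠ e}
  let S : L → Finset X := fun l => Y.filter fun χ => b χ l ≠ 0
  have hmem : ∀ χ l, χ ∈ S l ↔ χ ∈ Y ∧ b χ l ≠ 0 := fun χ l => Finset.mem_filter
  have hsum : ∀ l, l ≠ o → ∑ χ ∈ Y, b χ l ^ 2 = if l = e then 3 else 2 := by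
    intro l hl
    simp only [sq, hT l l hl hl, if_pos]
    by_cases h : l = e
    · simp [h, hιe]
    · have : l ≠ ι l := fun h' => (hfix l h'.symm).elim hl h
      simp [h, this]
  have hval : ∀ l, l ≠ o → ∀ χ ∈ Y, b χ l ≠ 0 → b χ l ^ 2 = 1 := by
    intro l hl χ hχ h0
    refine sq_eq_one_of_le h0 ?_
    have h := Finset.single_le_sum (f := fun χ => b χ l ^ 2) (fun _ _ => sq_nonneg _) hχ
    rw [hsum l hl] at h
    exact h.trans (by split_ifs <;> norm_num)
  have hScard : ∀ l, l ≠ o → ((S l).card : ℤ) = if l = e then 3 else 2 := by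
    intro l hl
    rw [← hsum l hl, Finset.card_eq_sum_ones, Nat.cast_sum]
    refine (Finset.sum_congr rfl fun χ hχ => ?_).trans
      (Finset.sum_subset (Finset.filter_subset _ _) fun χ hχ hn => ?_)
    · rw [hval l hl χ ((hmem _ _).1 hχ).1 ((hmem _ _).1 hχ).2]
      norm_num
    · simp only [S, Finset.mem_filter, hχ, true_and, not_not] at hn
      simp [hn]
  have hinter : ∀ l, l ≠ o → ∀ m, m ≠ o → ∑ χ ∈ S l ∩ S m, b χ l * b χ m =
      (if l = m then 1 else 0) + (if l = ι m then 1 else 0) + 1 := by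
    intro l hl m hm
    rw [← hT l m hl hm]
    refine Finset.sum_subset (fun χ hχ => ((hmem _ _).1 (Finset.mem_inter.1 hχ).1).1)
      fun χ hχ hn => ?_
    simp only [Finset.mem_inter, hmem, hχ, true_and, not_and, not_not] at hn
    by_cases h0 : b χ l = 0
    · simp [h0]
    · simp [hn h0]
  have hcard2 : ∀ l ∈ L', (S l).card = 2 := by
    intro l hl
    have := hScard l hl.1
    rw [if_neg hl.2] at this
    exact_mod_cast this
  have hcard1 : ∀ l ∈ L', ∀ m ∈ L', ¬ (l = m ∨ l = ι m) → (S l ∩ S m).card = 1 := by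
    intro l hl m hm hlm
    rw [not_or] at hlm
    have h := hinter l hl.1 m hm.1
    rw [if_neg hlm.1, if_neg hlm.2] at h
    have h2 : (S l ∩ S m).card ≤ 2 :=
      (Finset.card_le_card Finset.inter_subset_left).trans (hcard2 l hl).le
    have hne : (S l ∩ S m).card ≠ 0 := by
      intro h0
      rw [Finset.card_eq_zero.1 h0, Finset.sum_empty] at h
      norm_num at h
    by_contra h1
    obtain ⟨x, z, hxz, hset⟩ := Finset.card_eq_two.1 (show (S l ∩ S m).card = 2 by omega)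
    rw [hset, Finset.sum_pair hxz] at h
    have hp : ∀ w ∈ S l ∩ S m, b w l * b w m = 1 ∨ b w l * b w m = -1 := by
      intro w hw
      rw [Finset.mem_inter, hmem, hmem] at hw
      refine sq_eq_one_iff.1 ?_
      rw [mul_pow, hval l hl.1 w hw.1.1 hw.1.2, hval m hm.1 w hw.2.1 hw.2.2, one_mul]
    have hx := hp x (by simp [hset])
    have hz := hp z (by simp [hset])
    omega
  have hLbig : ∀ s : Finset L, s.card ≤ 12 → ∃ d ∈ L', d ∉ s := by
    intro s hs
    by_contra hno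
    push_neg at hno
    have hsub : (Finset.univ : Finset L) ⊆ insert o (insert e s) := by
      intro l _
      simp only [Finset.mem_insert]
      by_cases h1 : l = o
      · exact Or.inl h1
      by_cases h2 : l = e
      · exact Or.inr (Or.inl h2)
      exact Or.inr (Or.inr (hno l ⟨h1, h2⟩))
    have h := (Finset.card_le_card hsub).trans
      ((Finset.card_insert_le _ _).trans (Nat.add_le_add_right (Finset.card_insert_le _ _) 1))
    rw [Finset.card_univ] at h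
    omega
  have hι' : ∀ {l}, l ∈ L' → ι l ∈ L' := fun {l} hl =>
    ⟨fun h => hl.1 (by rw [← hιι l, h, hιo]), fun h => hl.2 (by rw [← hιι l, h, hιe])⟩
  obtain ⟨l₀, hl₀, -⟩ := hLbig ∅ (by simp)
  obtain ⟨A, hA⟩ := exists_common L' S hcard2 (fun l m => l = m ∨ l = ι m) hcard1
    (by
      rintro l hl m hm (rfl | h)
      · rfl
      · ext χ
        simp only [hmem, h, hsym])
    (fun u v w => by
      obtain ⟨d, hd, hds⟩ := hLbig ([u, ι u, v, ι v, w, ι w].toFinset)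
        ((List.toFinset_card_le _).trans (by simp))
      simp only [List.mem_toFinset, List.mem_cons, List.not_mem_nil, or_false, not_or] at hds
      obtain ⟨h1, h2, h3, h4, h5, h6⟩ := hds
      exact ⟨d, hd,
        fun h => h.elim (fun e => h1 e.symm) (fun e => h2 (by rw [e, hιι])),
        fun h => h.elim (fun e => h3 e.symm) (fun e => h4 (by rw [e, hιι])),
        fun h => h.elim (fun e => h5 e.symm) (fun e => h6 (by rw [e, hιι]))⟩)
    l₀ hl₀
  obtain ⟨hAY, hA0⟩ := (hmem _ _).1 (hA l₀ hl₀)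
  set σ := b A l₀ with hσdef
  have hσsq : σ ^ 2 = 1 := hval l₀ hl₀.1 A hAY hA0
  have hσ : ∀ l ∈ L', b A l = σ := by
    intro l hl
    by_cases h : l = l₀ ∨ l = ι l₀
    · rcases h with rfl | rfl
      · rfl
      · exact hsym A l₀
    have h1 := hinter l hl.1 l₀ hl₀.1
    rw [not_or] at h
    rw [if_neg h.1, if_neg h.2] at h1
    have h2 : S l ∩ S l₀ = {A} := by
      refine (Finset.eq_of_subset_of_card_le ?_ ?_).symm
      · simp [hA l hl, hA l₀ hl₀]
      · rw [hcard1 l hl l₀ hl₀ (not_or.2 h), Finset.card_singleton]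
    rw [h2, Finset.sum_singleton, ← hσdef] at h1
    linear_combination σ * h1 - (b A l) * hσsq
  have hpair : ∀ χ ∈ Y, χ ≠ A → ∀ l ∈ L', b χ l ≠ 0 → S l = {A, χ} := by
    intro χ hχ hne l hl hbl
    refine (Finset.eq_of_subset_of_card_le ?_ ?_).symm
    · simp [Finset.insert_subset_iff, hA l hl, hmem, hχ, hbl]
    · rw [hcard2 l hl, Finset.card_pair (Ne.symm hne)]
  have hexc : ∀ χ ∈ Y, χ ≠ A → ∀ l ∈ L', b χ l ≠ 0 → ∀ m ∈ L', b χ m ≠ 0 → m = l ∨ m = ι l := by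
    intro χ hχ hne l hl hbl m hm hbm
    by_contra h
    have h1 := hcard1 m hm l hl h
    rw [hpair χ hχ hne m hm hbm, hpair χ hχ hne l hl hbl, Finset.inter_self,
      Finset.card_pair (Ne.symm hne)] at h1
    omega
  -- the vector at `e` meets every other one only in `A`
  have hcross : ∀ χ ∈ Y, χ ≠ A → ∀ l ∈ L', b χ l ≠ 0 → b A l * b A e + b χ l * b χ e = 1 := by
    intro χ hχ hne l hl hbl
    have h := hT l e hl.1 heo
    rw [if_neg hl.2, hιe, if_neg hl.2] at h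
    rw [← Finset.sum_pair (f := fun χ => b χ l * b χ e) (Ne.symm hne), ← hpair χ hχ hne l hl hbl,
      show (1 : ℤ) = 0 + 0 + 1 by norm_num, ← h]
    refine Finset.sum_subset (fun χ hχ => ((hmem _ _).1 hχ).1) fun χ hχ hn => ?_
    simp only [hmem, hχ, true_and, not_not] at hn
    simp [hn]
  have hother : ∀ l ∈ L', ∃ c ∈ Y, c ≠ A ∧ b c l ≠ 0 := by
    intro l hl
    obtain ⟨c, hc, hne⟩ := Finset.exists_mem_ne (by rw [hcard2 l hl]; norm_num : 1 < (S l).card) A
    exact ⟨c, ((hmem _ _).1 hc).1, hne, ((hmem _ _).1 hc).2⟩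
  haveI : Nonempty X := ⟨A⟩
  choose! c hcY hcA hcb using hother
  have hεA : b A e = σ := by
    have hAe : b A e ≠ 0 := by
      intro h0
      have hcε : ∀ l ∈ L', c l ∈ S e := by
        intro l hl
        have h := hcross _ (hcY l hl) (hcA l hl) l hl (hcb l hl)
        rw [h0, mul_zero, zero_add] at h
        exact (hmem _ _).2 ⟨hcY l hl, fun h' => by rw [h', mul_zero] at h; norm_num at h⟩
      obtain ⟨l1, hl1, n1⟩ := hLbig ([l₀, ι l₀].toFinset)
        ((List.toFinset_card_le _).trans (by simp))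
      obtain ⟨l2, hl2, n2⟩ := hLbig ([l₀, ι l₀, l1, ι l1].toFinset)
        ((List.toFinset_card_le _).trans (by simp))
      obtain ⟨l3, hl3, n3⟩ := hLbig ([l₀, ι l₀, l1, ι l1, l2, ι l2].toFinset)
        ((List.toFinset_card_le _).trans (by simp))
      simp only [List.mem_toFinset, List.mem_cons, List.not_mem_nil, or_false, not_or]
        at n1 n2 n3
      obtain ⟨n1a, n1b⟩ := n1
      obtain ⟨n2a, n2b, n2c, n2d⟩ := n2
      obtain ⟨n3a, n3b, n3c, n3d, n3e, n3f⟩ := n3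
      have hdist : ∀ l ∈ L', ∀ m ∈ L', m ≠ l → m ≠ ι l → c l ≠ c m := by
        intro l hl m hm h1 h2 h
        have h3 := hexc _ (hcY l hl) (hcA l hl) l hl (hcb l hl) m hm (h ▸ hcb m hm)
        exact h3.elim h1 h2
      have h4 : ({c l₀, c l1, c l2, c l3} : Finset X) ⊆ S e := by
        simp [Finset.insert_subset_iff, hcε _ hl₀, hcε _ hl1, hcε _ hl2, hcε _ hl3]
      have h5 := Finset.card_le_card h4
      have h6 := hScard e heo
      rw [if_pos rfl] at h6
      have h7 : c l₀ ∉ ({c l1, c l2, c l3} : Finset X) := by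
        simp only [Finset.mem_insert, Finset.mem_singleton, not_or]
        exact ⟨hdist _ hl₀ _ hl1 n1a n1b, hdist _ hl₀ _ hl2 n2a n2b, hdist _ hl₀ _ hl3 n3a n3b⟩
      have h8 : ({c l1, c l2, c l3} : Finset X).card = 3 := Finset.card_eq_three.2
        ⟨c l1, c l2, c l3, hdist _ hl1 _ hl2 n2c n2d, hdist _ hl1 _ hl3 n3c n3d,
          hdist _ hl2 _ hl3 n3e n3f, rfl⟩
      rw [Finset.card_insert_of_notMem h7, h8] at h5
      omega
    have h := hcross _ (hcY _ hl₀) (hcA _ hl₀) l₀ hl₀ (hcb _ hl₀)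
    have h1 : b A e ^ 2 = 1 := hval e heo A hAY hAe
    have h3 : b (c l₀) l₀ ^ 2 = 1 := hval l₀ hl₀.1 _ (hcY _ hl₀) (hcb _ hl₀)
    by_cases h0 : b (c l₀) e = 0
    · rw [h0, mul_zero, add_zero, ← hσdef] at h
      linear_combination σ * h - b A e * hσsq
    · exfalso
      have h2 : b (c l₀) e ^ 2 = 1 := hval e heo _ (hcY _ hl₀) h0
      have p1 : b A l₀ * b A e = 1 ∨ b A l₀ * b A e = -1 :=
        sq_eq_one_iff.1 (by rw [mul_pow, ← hσdef, hσsq, h1, one_mul])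
      have p2 : b (c l₀) l₀ * b (c l₀) e = 1 ∨ b (c l₀) l₀ * b (c l₀) e = -1 :=
        sq_eq_one_iff.1 (by rw [mul_pow, h3, h2, one_mul])
      omega
  refine ⟨A, hAY, σ, hσsq, ?_, ?_, fun χ hχ h => hval e heo χ hχ h⟩
  · intro l hl
    by_cases h : l = e
    · rw [h, hεA]
    · exact hσ l ⟨hl, h⟩
  · intro χ hχ l hl hle hbl
    obtain ⟨hne, hχY⟩ := Finset.mem_erase.1 hχ
    refine ⟨?_, hval l hl χ hχY hbl,
      fun m hm hme hbm => hexc χ hχY hne l ⟨hl, hle⟩ hbl m ⟨hm, hme⟩ hbm, ?_⟩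
    · have h := hcross χ hχY hne l ⟨hl, hle⟩ hbl
      rw [hσ l ⟨hl, hle⟩, hεA, ← sq, hσsq, add_eq_left] at h
      exact (mul_eq_zero.1 h).resolve_left hbl
    · intro ψ hψ hb
      have h : ψ ∈ S l := (hmem _ _).2 ⟨hψ, hb⟩
      rw [hpair χ hχY hne l ⟨hl, hle⟩ hbl] at h
      simpa using h

end Cfsg.Agent.FGS76
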