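import Cfsg.Agent.FGS76.StarPattern
import Cfsg.Agent.Lib.CharCore.Linear
import Cfsg.Agent.Lib.CharCore.Complete
import Cfsg.Agent.Lib.CharCore.Virtual

/-!
A group with an abelian TI subgroup `C` of order `2q`, all of whose elements are conjugate
to their inverses only: a bound on `∑ χ(t)²χ(y)/χ(1)` over the nontrivial irreducible
characters, by the exceptional character pattern.
-/

set_option autoImplicit false
set_option linter.unusedSectionVars false

namespace Cfsg.Agent.FGS76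

open scoped ComplexConjugate

section

variable {C : Type*} [CommGroup C] [Fintype C]

theorem hom_inv_eq_one {l : C →* ℂˣ} : l⁻¹ = 1 ↔ l = 1 := inv_eq_one (a := l)

theorem hom_inv_mul_eq_one {l m : C →* ℂˣ} : l⁻¹ * m = 1 ↔ l = m :=
  inv_mul_eq_one (a := l) (b := m)

theorem hom_inv_eq_iff {l m : C →* ℂˣ} : l⁻¹ = m ↔ l = m⁻¹ :=
  inv_eq_iff_eq_inv (a := l) (b := m)

theorem hom_mul_inv_self (l : C →* ℂˣ) : l * l⁻¹ = 1 := mul_inv_cancel (a := l)

theorem hom_inv_of_mul_self {l : C →* ℂˣ} (h : l * l = 1) : l⁻¹ = l :=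
  inv_eq_of_mul_eq_one_right (a := l) h

theorem hom_inv_inv (l : C →* ℂˣ) : l⁻¹⁻¹ = l := inv_inv (a := l)

theorem conj_hom_apply (l : C →* ℂˣ) (c : C) : conj (l c : ℂ) = ((l⁻¹) c : ℂ) := by
  rw [MonoidHom.inv_apply, Units.val_inv_eq_inv_val]
  exact (Complex.inv_eq_conj (CharCore.norm_hom_apply l c)).symm

theorem hom_apply_inv (l : C →* ℂˣ) (c : C) : (l c⁻¹ : ℂ) = ((l⁻¹) c : ℂ) := by
  rw [MonoidHom.inv_apply, map_inv]

open Classical in
theorem sum_hom_apply (l : C →* ℂˣ) :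
    ∑ c : C, (l c : ℂ) = if l = 1 then (Fintype.card C : ℂ) else 0 := by
  split_ifs with h
  · simp [h]
  · refine sum_hom_units_eq_zero ((Units.coeHom ℂ).comp l) fun h1 => h (MonoidHom.ext fun c =>
      Units.ext ?_)
    simpa using DFunLike.congr_fun h1 c

theorem finite_hom : Finite (C →* ℂˣ) := by
  have : NeZero ((Monoid.exponent C : ℕ) : ℂ) :=
    ⟨by exact_mod_cast Monoid.exponent_ne_zero_of_finite⟩
  exact Finite.of_equiv C (CommGroup.monoidHom_mulEquiv_of_hasEnoughRootsOfUnity C ℂ).some.symm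

theorem card_hom : Nat.card (C →* ℂˣ) = Nat.card C := by
  have : NeZero ((Monoid.exponent C : ℕ) : ℂ) :=
    ⟨by exact_mod_cast Monoid.exponent_ne_zero_of_finite⟩
  exact CommGroup.card_monoidHom_of_hasEnoughRootsOfUnity C ℂ

open Classical in
theorem sum_apply_hom [Fintype (C →* ℂˣ)] (c : C) :
    ∑ l : C →* ℂˣ, (l c : ℂ) = if c = 1 then (Fintype.card C : ℂ) else 0 := by
  split_ifs with h
  · have h1 : Fintype.card (C →* ℂˣ) = Fintype.card C := by
      rw [← Nat.card_eq_fintype_card, ← Nat.card_eq_fintype_card, card_hom]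
    simp [h, h1]
  · have : NeZero ((Monoid.exponent C : ℕ) : ℂ) :=
      ⟨by exact_mod_cast Monoid.exponent_ne_zero_of_finite⟩
    obtain ⟨φ, hφ⟩ := CommGroup.exists_apply_ne_one_of_hasEnoughRootsOfUnity C ℂ h
    set S := ∑ l : C →* ℂˣ, (l c : ℂ) with hS
    have h1 : (φ c : ℂ) * S = S := by
      rw [hS, Finset.mul_sum]
      exact Fintype.sum_equiv (Equiv.mulLeft φ) _ _ fun l => by simp
    have h2 : ((φ c : ℂ) - 1) * S = 0 := by rw [sub_mul, h1, one_mul, sub_self]
    rcases mul_eq_zero.1 h2 with h3 | h3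
    · exact absurd (Units.ext (sub_eq_zero.1 h3)) hφ
    · exact h3

end

open Classical in
/-- Fourier coefficients of the restrictions of the irreducible characters. -/
theorem fourier {G : Type*} [Group G] [Fintype G] {C : Type*} [CommGroup C] [Fintype C]
    [Fintype (C →* ℂˣ)]
    (i : C →* G) (q : ℕ) (hq : 9 ≤ q) (hcard : Fintype.card C = 2 * q)
    (hcol : ∀ c d : C, c ≠ 1 → d ≠ 1 →
      ∑ χ : Cfsg.IrrCharacter G, (χ : G → ℂ) (i c) * conj ((χ : G → ℂ) (i d)) =
        (2 * q : ℂ) * ((if d = c then 1 else 0) + (if d = c⁻¹ then 1 else 0)))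
    (hcol1 : ∀ c : C, c ≠ 1 →
      ∑ χ : Cfsg.IrrCharacter G, (χ : G → ℂ) 1 * (χ : G → ℂ) (i c) = 0) :
    ∃ (b : Cfsg.IrrCharacter G → (C →* ℂˣ) → ℤ) (a : Cfsg.IrrCharacter G → ℕ)
      (one : Cfsg.IrrCharacter G), (one : G → ℂ) = 1 ∧ (∀ χ, b χ 1 = 0) ∧
      (∀ χ l, b χ l⁻¹ = b χ l) ∧
      (∀ (χ : Cfsg.IrrCharacter G) (c : C), c ≠ 1 →
        (χ : G → ℂ) (i c) = ∑ l, (b χ l : ℂ) * (l c : ℂ)) ∧
      (∀ χ : Cfsg.IrrCharacter G,
        (χ : G → ℂ) 1 = (((2 * q : ℤ) * a χ + ∑ l, b χ l : ℤ) : ℂ)) ∧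
      (∀ l m : C →* ℂˣ, l ≠ 1 → m ≠ 1 → ∑ χ ∈ Finset.univ.erase one, b χ l * b χ m =
        (if l = m then 1 else 0) + (if l = m⁻¹ then 1 else 0) + 1) ∧
      (∀ l : C →* ℂˣ, l ≠ 1 →
        ∑ χ ∈ Finset.univ.erase one, (χ : G → ℂ) 1 * (b χ l : ℂ) = 1) := by
  have hqC : (2 * q : ℂ) ≠ 0 := by
    have : (q : ℂ) ≠ 0 := Nat.cast_ne_zero.2 (by omega)
    exact mul_ne_zero two_ne_zero this
  have hcardC : (Fintype.card C : ℂ) = 2 * q := by exact_mod_cast hcard
  have hq0 : (q : ℂ) ≠ 0 := Nat.cast_ne_zero.2 (by omega)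
  -- Fourier coefficients of the restrictions
  have hnat : ∀ (χ : Cfsg.IrrCharacter G) (l : C →* ℂˣ), ∃ a : ℕ,
      (a : ℂ) = (2 * q : ℂ)⁻¹ * ∑ c : C, (χ : G → ℂ) (i c) * conj (l c : ℂ) := by
    intro χ l
    obtain ⟨a, ha⟩ := CharCore.IsCharacter.exists_classInner_irr_eq_natCast
      (CharCore.isCharacter_comp (CharCore.irr_isCharacter χ) i)
      ⟨_, CharCore.isIrrCharacter_hom l⟩
    refine ⟨a, ?_⟩
    rw [← ha, Cfsg.classInner, Nat.card_eq_fintype_card, hcardC]
  choose a ha using hnat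
  let b : Cfsg.IrrCharacter G → (C →* ℂˣ) → ℤ := fun χ l => (a χ l : ℤ) - a χ 1
  have hb1 : ∀ χ, b χ 1 = 0 := fun χ => sub_self _
  have hb : ∀ χ l, (b χ l : ℂ) =
      (2 * q : ℂ)⁻¹ * ∑ c : C, (χ : G → ℂ) (i c) * (conj (l c : ℂ) - 1) := by
    intro χ l
    simp only [b, Int.cast_sub, Int.cast_natCast, ha]
    simp only [mul_sub, Finset.sum_sub_distrib, MonoidHom.one_apply, Units.val_one, map_one,
      mul_one]
  -- inversion
  have hval : ∀ (χ : Cfsg.IrrCharacter G) (c : C),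
      ∑ l, (a χ l : ℂ) * (l c : ℂ) = (χ : G → ℂ) (i c) := by
    intro χ c
    calc ∑ l, (a χ l : ℂ) * (l c : ℂ)
        = (2 * q : ℂ)⁻¹ * ∑ d : C, (χ : G → ℂ) (i d) * ∑ l : C →* ℂˣ, (l (c * d⁻¹) : ℂ) := by
          simp only [ha, Finset.mul_sum, Finset.sum_mul]
          rw [Finset.sum_comm]
          refine Finset.sum_congr rfl fun d _ => Finset.sum_congr rfl fun l _ => ?_
          rw [map_mul, Units.val_mul, conj_hom_apply, hom_apply_inv]
          ring
      _ = (2 * q : ℂ)⁻¹ * ((χ : G → ℂ) (i c) * (2 * q : ℂ)) := by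
          congr 1
          rw [Finset.sum_eq_single c]
          · rw [mul_inv_cancel, sum_apply_hom, if_pos rfl, hcardC]
          · intro d _ hd
            rw [sum_apply_hom, if_neg, mul_zero]
            exact fun h => hd (mul_inv_eq_one.1 h).symm
          · simp
      _ = _ := by field_simp
  have hvalb : ∀ (χ : Cfsg.IrrCharacter G) (c : C), c ≠ 1 →
      (χ : G → ℂ) (i c) = ∑ l, (b χ l : ℂ) * (l c : ℂ) := by
    intro χ c hc
    simp only [b, Int.cast_sub, Int.cast_natCast, sub_mul, Finset.sum_sub_distrib,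
      ← Finset.mul_sum, sum_apply_hom, if_neg hc, mul_zero, sub_zero, hval]
  have hdeg : ∀ χ : Cfsg.IrrCharacter G,
      (χ : G → ℂ) 1 = (((2 * q : ℤ) * a χ 1 + ∑ l, b χ l : ℤ) : ℂ) := by
    intro χ
    have h := hval χ 1
    simp only [map_one, Units.val_one, mul_one] at h
    rw [← h]
    have h1 : (Fintype.card (C →* ℂˣ) : ℤ) = 2 * q := by
      rw [← Nat.card_eq_fintype_card, card_hom, Nat.card_eq_fintype_card, hcard]
      push_cast
      rfl
    have h2 : (∑ l, b χ l) = (∑ l, (a χ l : ℤ)) - (2 * q : ℤ) * a χ 1 := by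
      simp [b, Finset.sum_sub_distrib, h1]
    rw [h2]
    push_cast
    ring
  -- the trivial character
  let one : Cfsg.IrrCharacter G := ⟨1, CharCore.isIrrCharacter_one⟩
  have hone : ∀ l : C →* ℂˣ, l ≠ 1 → b one l = -1 := by
    intro l hl
    have h : (b one l : ℂ) = -1 := by
      rw [hb]
      simp only [one, Pi.one_apply, one_mul, Finset.sum_sub_distrib, conj_hom_apply,
        sum_hom_apply, hom_inv_eq_one, if_neg hl, Finset.sum_const, Finset.card_univ, nsmul_eq_mul,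
        mul_one, hcardC]
      field_simp
      ring
    exact_mod_cast h
  -- the Gram matrix
  have hgram : ∀ l m : C →* ℂˣ, l ≠ 1 → m ≠ 1 →
      ∑ χ, b χ l * b χ m = (if l = m then 1 else 0) + (if l = m⁻¹ then 1 else 0) + 2 := by
    intro l m hl hm
    have key : ∑ χ, (b χ l : ℂ) * conj (b χ m : ℂ) =
        (if l = m then 1 else 0) + (if l = m⁻¹ then 1 else 0) + 2 := by
      have hK : ∀ c d : C, (∑ χ : Cfsg.IrrCharacter G,
          (χ : G → ℂ) (i c) * conj ((χ : G → ℂ) (i d))) *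
            ((conj (l c : ℂ) - 1) * ((m d : ℂ) - 1)) =
          (2 * q : ℂ) * ((if d = c then 1 else 0) + (if d = c⁻¹ then 1 else 0)) *
            ((conj (l c : ℂ) - 1) * ((m d : ℂ) - 1)) := by
        intro c d
        by_cases hc : c = 1
        · simp [hc]
        by_cases hd : d = 1
        · simp [hd]
        rw [hcol c d hc hd]
      have hpair : ∀ u v : C →* ℂˣ, u ≠ 1 → v ≠ 1 →
          ∑ c : C, (conj (u c : ℂ) - 1) * ((v c : ℂ) - 1) =
            (2 * q : ℂ) * ((if u = v then 1 else 0) + 1) := by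
        intro u v hu hv
        have : ∀ c : C, (conj (u c : ℂ) - 1) * ((v c : ℂ) - 1) =
            (((u⁻¹ * v) c : ℂˣ) : ℂ) - ((u⁻¹) c : ℂ) - (v c : ℂ) + 1 := by
          intro c
          rw [conj_hom_apply, MonoidHom.mul_apply, Units.val_mul]
          ring
        simp only [this, Finset.sum_add_distrib, Finset.sum_sub_distrib, sum_hom_apply,
          hom_inv_mul_eq_one, hom_inv_eq_one, if_neg hu, if_neg hv, Finset.sum_const, Finset.card_univ,
          nsmul_eq_mul, mul_one, hcardC]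
        split_ifs <;> ring
      calc ∑ χ, (b χ l : ℂ) * conj (b χ m : ℂ)
          = (2 * q : ℂ)⁻¹ * (2 * q : ℂ)⁻¹ * ∑ c : C, ∑ d : C, (∑ χ : Cfsg.IrrCharacter G,
            (χ : G → ℂ) (i c) * conj ((χ : G → ℂ) (i d))) *
              ((conj (l c : ℂ) - 1) * ((m d : ℂ) - 1)) := by
            simp only [hb, map_mul, map_inv₀, map_sum, map_sub, map_one, Complex.conj_conj,
              map_natCast, map_ofNat, Finset.mul_sum, Finset.sum_mul]
            rw [Finset.sum_comm]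
            refine (Finset.sum_congr rfl fun d _ => Finset.sum_comm).trans ?_
            rw [Finset.sum_comm]
            refine Finset.sum_congr rfl fun c _ => Finset.sum_congr rfl fun d _ =>
              Finset.sum_congr rfl fun χ _ => ?_
            ring
        _ = (2 * q : ℂ)⁻¹ * (∑ c : C, (conj (l c : ℂ) - 1) * ((m c : ℂ) - 1) +
              ∑ c : C, (conj (l c : ℂ) - 1) * (((m⁻¹) c : ℂ) - 1)) := by
            simp only [hK, mul_add, add_mul, mul_ite, ite_mul, mul_zero, zero_mul, mul_one,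
              Finset.sum_add_distrib, Finset.sum_ite_eq', Finset.mem_univ, if_true, hom_apply_inv,
              ← Finset.mul_sum]
            field_simp
        _ = _ := by
            rw [hpair l m hl hm, hpair l m⁻¹ hl (fun h => hm (hom_inv_eq_one.1 h))]
            field_simp
            ring
    simp only [map_intCast] at key
    have key' : ((∑ χ, b χ l * b χ m : ℤ) : ℂ) =
        (((if l = m then 1 else 0) + (if l = m⁻¹ then 1 else 0) + 2 : ℤ) : ℂ) := by
      rw [Int.cast_sum]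
      push_cast
      exact key
    exact_mod_cast key'
  have hsym : ∀ χ l, b χ l⁻¹ = b χ l := by
    intro χ l
    by_cases hl : l = 1
    · rw [hl, hom_inv_eq_one.2 rfl]
    have hl' : l⁻¹ ≠ 1 := fun h => hl (hom_inv_eq_one.1 h)
    have h1 := hgram l l hl hl
    have h2 := hgram l⁻¹ l⁻¹ hl' hl'
    have h3 := hgram l⁻¹ l hl' hl
    have h4 : ∑ χ, (b χ l⁻¹ - b χ l) ^ 2 = 0 := by
      have : ∀ χ, (b χ l⁻¹ - b χ l) ^ 2 = b χ l⁻¹ * b χ l⁻¹ + b χ l * b χ l -
          2 * (b χ l⁻¹ * b χ l) := fun χ => by ring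
      simp only [this, Finset.sum_sub_distrib, Finset.sum_add_distrib, ← Finset.mul_sum, h1, h2, h3,
        hom_inv_inv, hom_inv_eq_iff]
      by_cases h5 : l = l⁻¹
      · simp [← h5]
      · simp [h5]
    have h6 := (Finset.sum_eq_zero_iff_of_nonneg fun _ _ => sq_nonneg _).1 h4 χ (Finset.mem_univ _)
    exact sub_eq_zero.1 (pow_eq_zero_iff two_ne_zero |>.1 h6)
  set X := (Finset.univ.erase one : Finset (Cfsg.IrrCharacter G)) with hX
  have hT : ∀ l m : C →* ℂˣ, l ≠ 1 → m ≠ 1 →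
      ∑ χ ∈ X, b χ l * b χ m = (if l = m then 1 else 0) + (if l = m⁻¹ then 1 else 0) + 1 := by
    intro l m hl hm
    have h := hgram l m hl hm
    rw [← Finset.add_sum_erase _ _ (Finset.mem_univ one), hone l hl, hone m hm] at h
    linarith
  have hdegT : ∀ l : C →* ℂˣ, l ≠ 1 → ∑ χ ∈ X, (χ : G → ℂ) 1 * (b χ l : ℂ) = 1 := by
    intro l hl
    have h : ∑ χ : Cfsg.IrrCharacter G, (χ : G → ℂ) 1 * (b χ l : ℂ) = 0 := by
      simp only [hb, Finset.mul_sum]
      rw [Finset.sum_comm]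
      refine Finset.sum_eq_zero fun c _ => ?_
      by_cases hc : c = 1
      · simp [hc]
      · have h1 := hcol1 c hc
        have : ∀ χ : Cfsg.IrrCharacter G, (χ : G → ℂ) 1 *
            ((2 * q : ℂ)⁻¹ * ((χ : G → ℂ) (i c) * (conj (l c : ℂ) - 1))) =
            ((2 * q : ℂ)⁻¹ * (conj (l c : ℂ) - 1)) * ((χ : G → ℂ) 1 * (χ : G → ℂ) (i c)) :=
          fun χ => by ring
        simp only [this, ← Finset.mul_sum, h1, mul_zero]
    rw [← Finset.add_sum_erase _ _ (Finset.mem_univ one), hone l hl] at h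
    simp only [one, Pi.one_apply, Int.cast_neg, Int.cast_one, mul_neg, mul_one] at h
    linear_combination h
  exact ⟨b, fun χ => a χ 1, one, rfl, hb1, hsym, hvalb, hdeg, hT, hdegT⟩

open Classical in
/-- The bound. -/
theorem ti_bound {G : Type*} [Group G] [Fintype G] {C : Type*} [CommGroup C] [Fintype C]
    (i : C →* G) (q : ℕ) (hq : 9 ≤ q) (hcard : Fintype.card C = 2 * q) (t : C)
    (hinv : ∀ c : C, c * c = 1 → c = 1 ∨ c = t) (ε : C →* ℂˣ) (hε2 : ε * ε = 1)
    (hεt : (ε t : ℂ) = -1) (hεuniq : ∀ l : C →* ℂˣ, l * l = 1 → l = 1 ∨ l = ε)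
    (hcol : ∀ c d : C, c ≠ 1 → d ≠ 1 →
      ∑ χ : Cfsg.IrrCharacter G, (χ : G → ℂ) (i c) * conj ((χ : G → ℂ) (i d)) =
        (2 * q : ℂ) * ((if d = c then 1 else 0) + (if d = c⁻¹ then 1 else 0)))
    (hcol1 : ∀ c : C, c ≠ 1 →
      ∑ χ : Cfsg.IrrCharacter G, (χ : G → ℂ) 1 * (χ : G → ℂ) (i c) = 0)
    (hperf : ∀ f : G →* ℂˣ, f = 1) (y : C) (hεy : (ε y : ℂ) = 1) (hy : y ≠ 1) :
    ‖(∑ χ : Cfsg.IrrCharacter G,
      (χ : G → ℂ) (i t) ^ 2 * (χ : G → ℂ) (i y) / (χ : G → ℂ) 1) - 1‖ < 1 := by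
  haveI := finite_hom (C := C)
  haveI : Fintype (C →* ℂˣ) := Fintype.ofFinite _
  obtain ⟨b, a, one, hone, hb1, hsym, hvalb, hdeg, hT, hdegT⟩ := fourier i q hq hcard hcol hcol1
  have ht2 : t * t = 1 := by
    obtain ⟨s, hs⟩ := exists_prime_orderOf_dvd_card' (G := C) 2
      (by rw [Nat.card_eq_fintype_card, hcard]; exact dvd_mul_right 2 q)
    have h1 : s * s = 1 := by rw [← sq, ← hs, pow_orderOf_eq_one]
    rcases hinv s h1 with h | h
    · rw [h, orderOf_one] at hs
      omega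
    · rwa [← h]
  have hε1 : ε ≠ 1 := by
    intro h
    rw [h] at hεt
    norm_num at hεt
  have hεinv : ε⁻¹ = ε := hom_inv_of_mul_self hε2
  have ht1 : t ≠ 1 := by
    intro h
    rw [h, map_one] at hεt
    norm_num at hεt
  have hcardL : Fintype.card (C →* ℂˣ) = 2 * q := by
    rw [← Nat.card_eq_fintype_card, card_hom, Nat.card_eq_fintype_card, hcard]
  have hfix : ∀ l : C →* ℂˣ, l⁻¹ = l → l = 1 ∨ l = ε := fun l h =>
    hεuniq l (by nth_rewrite 2 [← h]; exact hom_mul_inv_self l)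
  set X := (Finset.univ.erase one : Finset (Cfsg.IrrCharacter G)) with hX
  obtain ⟨A, hAX, σ, hσsq, hσ, hexc, hεsq⟩ := star_pattern (fun l : C →* ℂˣ => l⁻¹) 1 ε X b
    hom_inv_inv (hom_inv_eq_one.2 rfl) hεinv hε1 hfix hsym hT (by omega)
  have hsig : σ = 1 ∨ σ = -1 := sq_eq_one_iff.1 hσsq
  -- degrees
  have hd : ∀ χ ∈ X, ∀ s k : ℤ, ∑ l, b χ l = s + (2 * q : ℤ) * k → s = 1 ∨ s = -1 →
      ∃ d : ℕ, (χ : G → ℂ) 1 = d ∧ 2 * q ≤ d + 1 := by
    intro χ hχ s k hk hs
    obtain ⟨d, hd0, hd⟩ := CharCore.IsIrrCharacter.exists_degree χ.2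
    refine ⟨d, hd, ?_⟩
    have h := hdeg χ
    rw [hd, hk] at h
    have h1 : (d : ℤ) = (2 * q : ℤ) * a χ + (s + (2 * q : ℤ) * k) := by exact_mod_cast h
    have hd1 : d ≠ 1 := by
      rintro rfl
      obtain ⟨f, hf⟩ := CharCore.IsCharacter.exists_hom_of_degree_one (CharCore.irr_isCharacter χ)
        (by simpa using hd)
      refine Finset.ne_of_mem_erase hχ (Subtype.ext ?_)
      rw [hone, hf, hperf f]
      funext g
      simp
    have h2 : (d : ℤ) - s = (2 * q : ℤ) * ((a χ : ℤ) + k) := by rw [h1]; ring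
    rcases le_or_gt ((a χ : ℤ) + k) 0 with hn | hn
    · have : (2 * q : ℤ) * ((a χ : ℤ) + k) ≤ 0 := mul_nonpos_of_nonneg_of_nonpos (by omega) hn
      omega
    · have : (2 * q : ℤ) * 1 ≤ (2 * q : ℤ) * ((a χ : ℤ) + k) :=
        mul_le_mul_of_nonneg_left hn (by omega)
      omega
  have hbA : ∀ l : C →* ℂˣ, b A l = if l = 1 then 0 else σ := by
    intro l
    split_ifs with h
    · rw [h, hb1]
    · exact hσ l h
  have hsumA : ∑ l, b A l = -σ + (2 * q : ℤ) * σ := by
    have : ∀ l : C →* ℂˣ, b A l = σ - if l = 1 then σ else 0 := by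
      intro l
      rw [hbA]
      split_ifs <;> ring
    simp only [this, Finset.sum_sub_distrib, Finset.sum_const, Finset.card_univ, hcardL,
      Finset.sum_ite_eq', Finset.mem_univ, if_true, nsmul_eq_mul]
    push_cast
    ring
  obtain ⟨dA, hdA, hdAge⟩ := hd A hAX (-σ) σ hsumA (by omega)
  have hvalA : ∀ c : C, c ≠ 1 → (A : G → ℂ) (i c) = -(σ : ℂ) := by
    intro c hc
    rw [hvalb A c hc]
    have : ∀ l : C →* ℂˣ, (b A l : ℂ) * (l c : ℂ) =
        (σ : ℂ) * (l c : ℂ) - (if l = 1 then (σ : ℂ) else 0) := by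
      intro l
      rw [hbA]
      by_cases h : l = 1 <;> simp [h]
    simp only [this, Finset.sum_sub_distrib, ← Finset.mul_sum, sum_apply_hom, if_neg hc, mul_zero,
      Finset.sum_ite_eq', Finset.mem_univ, if_true, zero_sub]
  -- the common value of the signed exceptional degrees
  set K : ℂ := 1 - (σ : ℂ) * (dA : ℂ) with hK
  have hq' : (9 : ℝ) ≤ q := by exact_mod_cast hq
  have hA1 : (2 * q : ℝ) ≤ dA + 1 := by exact_mod_cast hdAge
  have hnσ : ‖(σ : ℂ)‖ = 1 := by rcases hsig with e | e <;> simp [e]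
  have hKge : (2 * q : ℝ) - 2 ≤ ‖K‖ := by
    have h3 := norm_sub_norm_le ((σ : ℂ) * (dA : ℂ)) 1
    rw [norm_sub_rev, ← hK, norm_mul, hnσ, Complex.norm_natCast, one_mul, norm_one] at h3
    linarith
  have hK0 : K ≠ 0 := by
    intro h
    rw [h, norm_zero] at hKge
    linarith
  -- the terms
  let term : Cfsg.IrrCharacter G → ℂ := fun χ =>
    (χ : G → ℂ) (i t) ^ 2 * (χ : G → ℂ) (i y) / (χ : G → ℂ) 1
  set Lg := ((Finset.univ : Finset (C →* ℂˣ)).erase 1).erase ε with hLg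
  have hmemLg : ∀ l, l ∈ Lg ↔ l ≠ ε ∧ l ≠ 1 := by simp [hLg]
  let main : Cfsg.IrrCharacter G → ℂ := fun χ =>
    4 / K * ∑ l ∈ Lg, ((b χ l ^ 2 : ℤ) : ℂ) * (l y : ℂ)
  have h21 : (0 : ℝ) < 2 * q - 1 := by linarith
  have hlt' : ∀ l : C →* ℂˣ, (l t : ℂ) ^ 2 = 1 := by
    intro l
    rw [← Units.val_pow_eq_pow_val, ← map_pow, sq, ht2, map_one, Units.val_one]
  have hdiag : ∀ l : C →* ℂˣ, l ≠ 1 →
      ∑ χ ∈ X.erase A, b χ l ^ 2 = if l = l⁻¹ then 2 else 1 := by
    intro l hl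
    have h := hT l l hl hl
    simp only [if_pos, ← sq] at h
    rw [← Finset.add_sum_erase _ _ hAX, hσ l hl, hσsq] at h
    split_ifs at h ⊢ <;> omega
  have hterm : ∀ χ ∈ X.erase A, ‖term χ - main χ‖ ≤ ((b χ ε ^ 2 : ℤ) : ℝ) / (2 * q - 1) := by
    intro χ hχ
    have hχX : χ ∈ X := Finset.mem_of_mem_erase hχ
    by_cases hex : ∃ l, l ≠ 1 ∧ l ≠ ε ∧ b χ l ≠ 0
    · obtain ⟨l, hl1, hlε, hbl⟩ := hex
      obtain ⟨hε0, he2, honly, hsupp'⟩ := hexc χ hχ l hl1 hlε hbl
      have hsupp : ∀ m : C →* ℂˣ, m ∉ ({l, l⁻¹} : Finset _) → b χ m = 0 := by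
        intro m hm
        by_contra h3
        have h4 := honly m (fun h => h3 (by rw [h, hb1])) (fun h => h3 (by rw [h, hε0])) h3
        exact hm (by simpa using h4)
      have hlne : l ≠ l⁻¹ := fun h => (hfix l h.symm).elim hl1 hlε
      set e := b χ l with he
      have he2' : (e : ℂ) * e = 1 := by rw [← Int.cast_mul, ← sq, he2, Int.cast_one]
      have he0 : (e : ℂ) ≠ 0 := Int.cast_ne_zero.2 hbl
      have hv : ∀ c : C, c ≠ 1 → (χ : G → ℂ) (i c) = (e : ℂ) * ((l c : ℂ) + ((l⁻¹) c : ℂ)) := by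
        intro c hc
        rw [hvalb χ c hc, ← Finset.sum_subset (Finset.subset_univ ({l, l⁻¹} : Finset _))
          (fun m _ hm => by simp [hsupp m hm]), Finset.sum_pair hlne, hsym, he]
        ring
      have hdeg' : (χ : G → ℂ) 1 = (e : ℂ) * K := by
        have h := hdegT l hl1
        rw [← Finset.sum_subset (s₁ := ({A, χ} : Finset _))
          (by simp [Finset.insert_subset_iff, hAX, hχX])
          (fun ψ hψ hn => by
            simp only [Finset.mem_insert, Finset.mem_singleton] at hn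
            by_cases hb : b ψ l = 0
            · simp [hb]
            · exact absurd (hsupp' ψ hψ hb) hn),
          Finset.sum_pair (Finset.ne_of_mem_erase hχ).symm, hσ l hl1, hdA, ← he] at h
        rw [hK]
        linear_combination (e : ℂ) * h - (χ : G → ℂ) 1 * he2'
      have hli : ((l⁻¹) t : ℂ) = (l t : ℂ) := by
        rw [← hom_apply_inv, inv_eq_of_mul_eq_one_right ht2]
      have hmain : main χ = 4 / K * ((l y : ℂ) + ((l⁻¹) y : ℂ)) := by
        simp only [main]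
        congr 1
        have hli1 : l⁻¹ ≠ 1 := fun h => hl1 (hom_inv_eq_one.1 h)
        have hliε : l⁻¹ ≠ ε := fun h => hlε (by rw [hom_inv_eq_iff.1 h, hεinv])
        rw [← Finset.sum_subset (s₁ := ({l, l⁻¹} : Finset _))
          (by simp [Finset.insert_subset_iff, hmemLg, hl1, hlε, hli1, hliε])
          (fun m _ hm => by simp [hsupp m hm]), Finset.sum_pair hlne, hsym, ← he, he2]
        simp
      have hte : term χ = main χ := by
        rw [hmain]
        simp only [term]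
        rw [hv t ht1, hv y hy, hdeg', hli]
        have h4 : ((e : ℂ) * ((l t : ℂ) + (l t : ℂ))) ^ 2 = 4 := by
          linear_combination 4 * (e : ℂ) * e * hlt' l + 4 * he2'
        rw [h4]
        field_simp
      rw [hte, sub_self, norm_zero]
      exact div_nonneg (Int.cast_nonneg (sq_nonneg _)) h21.le
    · push_neg at hex
      have hmain : main χ = 0 := by
        simp only [main]
        rw [Finset.sum_eq_zero, mul_zero]
        intro l hl
        rw [hmemLg] at hl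
        simp [hex l hl.2 hl.1]
      have honlyε : ∀ m : C →* ℂˣ, m ≠ ε → b χ m = 0 := by
        intro m hm
        by_cases h1 : m = 1
        · rw [h1, hb1]
        · exact hex m h1 hm
      have hv : ∀ c : C, c ≠ 1 → (χ : G → ℂ) (i c) = (b χ ε : ℂ) * (ε c : ℂ) := by
        intro c hc
        rw [hvalb χ c hc, Finset.sum_eq_single ε]
        · intro m _ hm
          simp [honlyε m hm]
        · simp
      rw [hmain, sub_zero]
      simp only [term]
      rw [hv t ht1, hv y hy, hεt, hεy]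
      by_cases h0 : b χ ε = 0
      · simp [h0]
      have hs2 := hεsq χ hχX h0
      obtain ⟨d, hdd, hdge⟩ := hd χ hχX (b χ ε) 0 (by
        rw [mul_zero, add_zero, Finset.sum_eq_single ε]
        · intro m _ hm
          exact honlyε m hm
        · simp) (sq_eq_one_iff.1 hs2)
      have h2 : (2 * q : ℝ) ≤ d + 1 := by exact_mod_cast hdge
      rw [hdd, hs2]
      have hs : ‖(b χ ε : ℂ)‖ = 1 := by
        rcases sq_eq_one_iff.1 hs2 with e | e <;> simp [e]
      rw [norm_div, norm_mul, norm_pow, norm_mul, norm_mul, hs, norm_neg, norm_one,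
        Complex.norm_natCast]
      simp only [one_pow, one_mul, Int.cast_one]
      exact one_div_le_one_div_of_le h21 (by linarith)
  -- assemble
  have hsplit : (∑ χ, term χ) - 1 = term A + ∑ χ ∈ X.erase A, term χ := by
    rw [← Finset.add_sum_erase _ _ (Finset.mem_univ one), ← hX,
      ← Finset.add_sum_erase _ _ hAX]
    simp [term, hone]
  have hmainsum : ∑ χ ∈ X.erase A, main χ = 4 / K * (-2) := by
    simp only [main]
    rw [← Finset.mul_sum, Finset.sum_comm]
    congr 1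
    have h1 : ∀ l ∈ Lg, ∑ χ ∈ X.erase A, ((b χ l ^ 2 : ℤ) : ℂ) * (l y : ℂ) = (l y : ℂ) := by
      intro l hl
      rw [hmemLg] at hl
      rw [← Finset.sum_mul, ← Int.cast_sum, hdiag l hl.2,
        if_neg (fun h => (hfix l h.symm).elim hl.2 hl.1), Int.cast_one, one_mul]
    rw [Finset.sum_congr rfl h1, hLg, Finset.sum_erase_eq_sub (by simp [hε1]),
      Finset.sum_erase_eq_sub (Finset.mem_univ _), sum_apply_hom, if_neg hy, hεy]
    simp
    norm_num
  have hεsum : ∑ χ ∈ X.erase A, b χ ε ^ 2 = 2 := by rw [hdiag ε hε1, if_pos hεinv.symm]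
  have hA' : ‖term A‖ ≤ 1 / (2 * q - 1 : ℝ) := by
    simp only [term]
    rw [hvalA t ht1, hvalA y hy, hdA, norm_div, norm_mul, norm_pow, norm_neg, hnσ,
      Complex.norm_natCast]
    simp only [one_pow, one_mul]
    exact one_div_le_one_div_of_le h21 (by linarith)
  have hrest : ‖∑ χ ∈ X.erase A, term χ‖ ≤ 2 / (2 * q - 1 : ℝ) + 8 / (2 * q - 2 : ℝ) := by
    have e1 : ∑ χ ∈ X.erase A, term χ =
        ∑ χ ∈ X.erase A, (term χ - main χ) + ∑ χ ∈ X.erase A, main χ := by
      rw [← Finset.sum_add_distrib]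
      simp
    rw [e1]
    refine (norm_add_le _ _).trans (add_le_add ?_ ?_)
    · refine (norm_sum_le _ _).trans ((Finset.sum_le_sum hterm).trans ?_)
      rw [← Finset.sum_div, ← Int.cast_sum, hεsum]
      norm_num
    · rw [hmainsum, norm_mul, norm_div, norm_neg]
      simp only [Complex.norm_ofNat]
      have h22 : (0 : ℝ) < 2 * q - 2 := by linarith
      have := one_div_le_one_div_of_le h22 hKge
      calc 4 / ‖K‖ * 2 = 8 * (1 / ‖K‖) := by ring
        _ ≤ 8 * (1 / (2 * q - 2 : ℝ)) := by linarith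
        _ = 8 / (2 * q - 2 : ℝ) := by ring
  show ‖(∑ χ, term χ) - 1‖ < 1
  rw [hsplit]
  refine (norm_add_le _ _).trans_lt ?_
  have b1 : 1 / (2 * q - 1 : ℝ) ≤ 1 / 17 := one_div_le_one_div_of_le (by norm_num) (by linarith)
  have b2 : 2 / (2 * q - 1 : ℝ) = 2 * (1 / (2 * q - 1 : ℝ)) := by ring
  have b3 : 8 / (2 * q - 2 : ℝ) ≤ 8 / 16 :=
    div_le_div_of_nonneg_left (by norm_num) (by norm_num) (by linarith)
  linarith

end Cfsg.Agent.FGS76
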