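import Cfsg.Agent.FGS76.Basic
import Mathlib.GroupTheory.Transfer

/-!
The configuration of S4018 in a simple group: fusion of involutions, and the count forcing the
outer involution of `N(P)` to invert all of `C(P)`.
-/

set_option autoImplicit false
set_option linter.unusedSectionVars false
set_option linter.style.haveILetI false

namespace Cfsg.Agent.FGS76

open Subgroup

variable {G : Type*} [Group G] [Finite G]

theorem pow_four_eq_one_of_sylow {S : Sylow 2 G} (hS : Nat.card (S : Subgroup G) = 4) {x : G}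
    (hx : ∃ k : ℕ, orderOf x = 2 ^ k) : ∃ g : G, g * x * g⁻¹ ∈ (S : Subgroup G) := by
  obtain ⟨Q, hQ⟩ := (isPGroup_zpowers (p := 2) hx).exists_le_sylow
  obtain ⟨g, hg⟩ := MulAction.exists_smul_eq G Q S
  refine ⟨g, ?_⟩
  rw [← hg, Sylow.coe_subgroup_smul]
  exact ⟨x, hQ (mem_zpowers x), rfl⟩

/-- a Sylow 2-subgroup of order 4 in a simple group is elementary with fused involutions -/
theorem involutions_of_sylow_four [IsSimpleGroup G] (hna : ¬ ∀ a b : G, a * b = b * a)
    (S : Sylow 2 G) (hS : Nat.card (S : Subgroup G) = 4) :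
    (∀ x : G, (∃ k : ℕ, orderOf x = 2 ^ k) → x * x = 1) ∧
      ∀ u v : G, orderOf u = 2 → orderOf v = 2 → IsConj u v := by
  have hcard4 : 4 ∣ Nat.card G := hS ▸ card_subgroup_dvd_card _
  have hnocompl : ∀ K : Subgroup G, K.Normal → ¬ IsComplement' K (S : Subgroup G) := by
    intro K hK hc
    have h := hc.card_mul
    rw [hS] at h
    rcases IsSimpleGroup.eq_bot_or_eq_top_of_normal K hK with hK | hK
    · rw [hK, card_bot, one_mul] at h
      have hp2 : IsPGroup 2 G := IsPGroup.of_card (n := 2) (by rw [← h]; norm_num)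
      haveI : Nontrivial G := IsSimpleGroup.toNontrivial
      haveI := hp2.center_nontrivial
      rcases IsSimpleGroup.eq_bot_or_eq_top_of_normal (center G) inferInstance with hc | hc
      · exact (nontrivial_iff_ne_bot _).1 ‹_› hc
      · exact hna fun a b => (mem_center_iff.1 (hc ▸ mem_top b) a)
    · rw [hK, card_top] at h
      have := Nat.card_pos (α := G)
      omega
  have hsylnc : ¬ normalizer ((S : Subgroup G) : Set G) ≤ centralizer ((S : Subgroup G) : Set G) :=
    fun h => hnocompl _ inferInstance (MonoidHom.ker_transferSylow_isComplement' S h)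
  have hmin : (Nat.card G).minFac = 2 :=
    le_antisymm (Nat.minFac_le_of_dvd le_rfl ((dvd_mul_right 2 2).trans hcard4))
      (Nat.minFac_prime fun h => by rw [h] at hcard4; simp at hcard4).two_le
  have hnotcyc : ¬ IsCyclic (S : Subgroup G) := fun h =>
    hsylnc (IsCyclic.normalizer_le_centralizer hmin h)
  have hsq : ∀ x ∈ (S : Subgroup G), x * x = 1 := by
    intro x hx
    have h4 : orderOf (⟨x, hx⟩ : (S : Subgroup G)) ∣ 2 ^ 2 := by
      refine (_root_.orderOf_dvd_natCard (⟨x, hx⟩ : (S : Subgroup G))).trans ?_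
      rw [hS]
      norm_num
    obtain ⟨k, hk, hk'⟩ := (Nat.dvd_prime_pow Nat.prime_two).1 h4
    have hk1 : k ≠ 2 := fun h => hnotcyc (isCyclic_of_orderOf_eq_card ⟨x, hx⟩
      (by rw [hk', h, hS]; norm_num))
    have h2 : orderOf (⟨x, hx⟩ : (S : Subgroup G)) ∣ 2 := by
      rw [hk']
      exact (pow_dvd_pow 2 (by omega : k ≤ 1)).trans (by norm_num)
    have h3 := congrArg Subtype.val (orderOf_dvd_iff_pow_eq_one.1 h2)
    simpa [sq] using h3
  have hall : ∀ x : G, (∃ k : ℕ, orderOf x = 2 ^ k) → x * x = 1 := by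
    intro x hx
    obtain ⟨g, hg⟩ := pow_four_eq_one_of_sylow hS hx
    have := hsq _ hg
    rw [conj_mul, conj_eq_one_iff] at this
    exact this
  refine ⟨hall, ?_⟩
  have hcommS : ∀ x ∈ (S : Subgroup G), ∀ y ∈ (S : Subgroup G), x * y = y * x := by
    intro x hx y hy
    have h := hsq _ (mul_mem hx hy)
    have hxi : x⁻¹ = x := inv_eq_of_mul_eq_one_right (hsq x hx)
    have hyi : y⁻¹ = y := inv_eq_of_mul_eq_one_right (hsq y hy)
    rw [← inv_eq_of_mul_eq_one_right h, mul_inv_rev, hxi, hyi]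
  -- an element of odd order moving S
  obtain ⟨g, hgN, hgC⟩ := SetLike.not_le_iff_exists.1 hsylnc
  obtain ⟨a, b, ⟨i, ha⟩, ⟨j, hb⟩, hab, hao, hbo⟩ := exists_split 2 g
  have hnorm : ∀ w ∈ zpowers g, w ∈ normalizer ((S : Subgroup G) : Set G) :=
    fun w hw => zpowers_le.2 hgN hw
  have haS : a ∈ (S : Subgroup G) := by
    obtain ⟨R, hR⟩ := ((isPGroup_zpowers (p := 2) hao).to_sup_of_normal_right' S.isPGroup'
      (zpowers_le.2 (hnorm a (ha ▸ npow_mem_zpowers g i)))).exists_le_sylow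
    rw [← S.is_maximal' R.isPGroup' (le_sup_right.trans hR)]
    exact hR (mem_sup_left (mem_zpowers a))
  have hbN : b ∈ normalizer ((S : Subgroup G) : Set G) := hnorm b (hb ▸ npow_mem_zpowers g j)
  have hbC : ¬ ∀ x ∈ (S : Subgroup G), b * x = x * b := by
    intro h
    refine hgC ?_
    rw [← hab]
    refine mul_mem (mem_centralizer_iff.2 fun x hx => ?_) (mem_centralizer_iff.2 fun x hx => ?_)
    · exact hcommS x hx a haS
    · exact (h x hx).symm
  -- so it has no nonidentity fixed point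
  have hfix : ∀ u ∈ (S : Subgroup G), b * u = u * b → u = 1 := by
    intro u hu hbu
    by_contra hu1
    apply hbC
    intro v hv
    by_cases hv1 : v = 1
    · simp [hv1]
    by_cases hvu : v = u
    · rw [hvu, hbu]
    have hS' : ∀ w ∈ (S : Subgroup G), w = 1 ∨ w = u ∨ w = v ∨ w = u * v := by
      intro w hw
      by_contra hcon
      simp only [not_or] at hcon
      obtain ⟨h1, h2, h3, h4⟩ := hcon
      classical
      have hui : u⁻¹ = u := inv_eq_of_mul_eq_one_right (hsq u hu)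
      have huv1 : u * v ≠ 1 := fun h => hvu (by rw [← hui]; exact (inv_eq_of_mul_eq_one_right h).symm)
      have huvu : u * v ≠ u := fun h => hv1 (mul_eq_left.1 h)
      have huvv : u * v ≠ v := fun h => hu1 (mul_eq_right.1 h)
      have hsub : (({1, u, v, u * v, w} : Finset G) : Set G) ⊆ ((S : Subgroup G) : Set G) := by
        simp [Set.insert_subset_iff, SetLike.mem_coe, one_mem, hu, hv, mul_mem hu hv, hw]
        exact ⟨hu, hv, mul_mem hu hv, hw⟩
      have hle := Set.ncard_le_ncard hsub (Set.toFinite _)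
      rw [Set.ncard_coe_finset, ← Nat.card_coe_set_eq] at hle
      have h5 : ({1, u, v, u * v, w} : Finset G).card = 5 := by
        rw [Finset.card_insert_of_notMem (by simp [Ne.symm hu1, Ne.symm hv1, Ne.symm huv1,
            Ne.symm h1]),
          Finset.card_insert_of_notMem (by simp [Ne.symm hvu, Ne.symm huvu, Ne.symm h2]),
          Finset.card_insert_of_notMem (by simp [Ne.symm huvv, Ne.symm h3]),
          Finset.card_pair (Ne.symm h4)]
      have hle' : ({1, u, v, u * v, w} : Finset G).card ≤ 4 := hS ▸ hle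
      omega
    have hbu' : b * u * b⁻¹ = u := by rw [hbu, mul_inv_cancel_right]
    rcases hS' _ ((mem_normalizer_iff.1 hbN v).1 hv) with h | h | h | h
    · exact absurd (conj_eq_one_iff.1 h) hv1
    · exact absurd (mul_left_cancel (mul_right_cancel (h.trans hbu'.symm))) hvu
    · exact mul_inv_eq_iff_eq_mul.1 h
    · have hui : u * u = 1 := hsq u hu
      have h2 : b ^ 2 * v * (b ^ 2)⁻¹ = v := by
        calc b ^ 2 * v * (b ^ 2)⁻¹ = b * (b * v * b⁻¹) * b⁻¹ := by rw [pow_two]; group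
          _ = (b * u * b⁻¹) * (b * v * b⁻¹) := by nth_rewrite 1 [h]; group
          _ = u * (u * v) := by rw [hbu', h]
          _ = v := by rw [← mul_assoc, hui, one_mul]
      have h3 : Commute (b ^ 2) v := mul_inv_eq_iff_eq_mul.1 h2
      obtain ⟨k, hk⟩ : ∃ k : ℕ, (b ^ 2) ^ k = b :=
        exists_pow_eq_self_of_coprime ((Nat.prime_two.coprime_iff_not_dvd).2 hbo)
      have h4 := h3.pow_left k
      rw [hk] at h4
      exact h4.eq
  -- every involution of S is conjugate to every other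
  have hconjS : ∀ u ∈ (S : Subgroup G), u ≠ 1 → ∀ v ∈ (S : Subgroup G), v ≠ 1 → IsConj u v := by
    intro u hu hu1 v hv hv1
    classical
    by_contra hne
    set u' := b * u * b⁻¹ with hu'
    set u'' := b * u' * b⁻¹ with hu''
    have hu'S : u' ∈ (S : Subgroup G) := (mem_normalizer_iff.1 hbN u).1 hu
    have hu''S : u'' ∈ (S : Subgroup G) := (mem_normalizer_iff.1 hbN u').1 hu'S
    have hu'1 : u' ≠ 1 := fun h => hu1 (conj_eq_one_iff.1 h)
    have hu''1 : u'' ≠ 1 := fun h => hu'1 (conj_eq_one_iff.1 h)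
    have hd1 : u' ≠ u := fun h => hu1 (hfix u hu (mul_inv_eq_iff_eq_mul.1 h))
    have hd2 : u'' ≠ u' := fun h => hu'1 (hfix u' hu'S (mul_inv_eq_iff_eq_mul.1 h))
    have hd3 : u'' ≠ u := by
      intro h
      have h2 : b ^ 2 * u * (b ^ 2)⁻¹ = u := by
        calc b ^ 2 * u * (b ^ 2)⁻¹ = u'' := by rw [hu'', hu', pow_two]; group
          _ = u := h
      have h3 : Commute (b ^ 2) u := mul_inv_eq_iff_eq_mul.1 h2
      obtain ⟨k, hk⟩ : ∃ k : ℕ, (b ^ 2) ^ k = b :=
        exists_pow_eq_self_of_coprime ((Nat.prime_two.coprime_iff_not_dvd).2 hbo)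
      have h4 := h3.pow_left k
      rw [hk] at h4
      exact hu1 (hfix u hu h4.eq)
    have hc1 : IsConj u u' := isConj_iff.2 ⟨b, rfl⟩
    have hc2 : IsConj u u'' := hc1.trans (isConj_iff.2 ⟨b, rfl⟩)
    have hv' : v ≠ u ∧ v ≠ u' ∧ v ≠ u'' :=
      ⟨fun h => hne (h ▸ IsConj.refl u), fun h => hne (h ▸ hc1), fun h => hne (h ▸ hc2)⟩
    have hsub : (({1, u, u', u'', v} : Finset G) : Set G) ⊆ ((S : Subgroup G) : Set G) := by
      simp [Set.insert_subset_iff, one_mem]
      exact ⟨hu, hu'S, hu''S, hv⟩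
    have hle := Set.ncard_le_ncard hsub (Set.toFinite _)
    rw [Set.ncard_coe_finset, ← Nat.card_coe_set_eq] at hle
    have h5 : ({1, u, u', u'', v} : Finset G).card = 5 := by
      rw [Finset.card_insert_of_notMem (by simp [Ne.symm hu1, Ne.symm hu'1, Ne.symm hu''1,
          Ne.symm hv1]),
        Finset.card_insert_of_notMem (by simp [Ne.symm hd1, Ne.symm hd3, Ne.symm hv'.1]),
        Finset.card_insert_of_notMem (by simp [Ne.symm hd2, Ne.symm hv'.2.1]),
        Finset.card_pair (Ne.symm hv'.2.2)]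
    have hle' : ({1, u, u', u'', v} : Finset G).card ≤ 4 := hS ▸ hle
    omega
  intro u v hu hv
  obtain ⟨g, hg⟩ := pow_four_eq_one_of_sylow hS (x := u) ⟨1, by rw [hu, pow_one]⟩
  obtain ⟨h, hh⟩ := pow_four_eq_one_of_sylow hS (x := v) ⟨1, by rw [hv, pow_one]⟩
  have hu1 : g * u * g⁻¹ ≠ 1 := fun e => by
    rw [conj_eq_one_iff.1 e, orderOf_one] at hu
    omega
  have hv1 : h * v * h⁻¹ ≠ 1 := fun e => by
    rw [conj_eq_one_iff.1 e, orderOf_one] at hv
    omega
  exact ((isConj_iff.2 ⟨g, rfl⟩).trans (hconjS _ hg hu1 _ hh hv1)).trans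
    (isConj_iff.2 ⟨h, rfl⟩).symm

/-- the data of the configuration -/
structure Config (G : Type*) [Group G] where
  q : ℕ
  C : Subgroup G
  N : Subgroup G
  t : G
  s : G
  hq : ∃ a : ℕ, 1 ≤ a ∧ q = 3 ^ a
  hCN : C ≤ N
  hcardC : Nat.card C = 2 * q
  hcardN : Nat.card N = 4 * q
  comm : ∀ x ∈ C, ∀ y ∈ C, x * y = y * x
  t_mem : t ∈ C
  t_inv : orderOf t = 2
  t_uniq : ∀ c ∈ C, c * c = 1 → c = 1 ∨ c = t
  s_mem : s ∈ N
  s_notMem : s ∉ C
  s_inv : s * s = 1
  nmul : ∀ x ∈ N, x ∉ C → s * x ∈ C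
  normC : ∀ g ∈ N, ∀ c ∈ C, g * c * g⁻¹ ∈ C
  ti : ∀ g : G, ∀ c ∈ C, c ≠ 1 → g * c * g⁻¹ ∈ C → g ∈ N
  centt : ∀ g : G, g * t = t * g ↔ g ∈ N
  fused : ∀ u v : G, orderOf u = 2 → orderOf v = 2 → IsConj u v

theorem exists_config [IsSimpleGroup G] (P : Sylow 3 G) (hab : IsMulCommutative P)
    (hN : Nat.card (normalizer ((P : Subgroup G) : Set G)) = 4 * Nat.card P)
    (hC : Nat.card (centralizer (P : Set G)) = 2 * Nat.card P)
    (hTI : ∀ g : G, g ∉ normalizer ((centralizer (P : Set G)) : Set G) →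
      ∀ x ∈ (centralizer (P : Set G) : Set G), g * x * g⁻¹ ∈ (centralizer (P : Set G) : Set G) →
        x = 1)
    (heven : ∀ H : Subgroup G, H ≠ ⊤ → 2 ∣ Nat.card H → Nat.card H ∣ 4 * Nat.card P) :
    (∃ S : Sylow 2 G, Nat.card (S : Subgroup G) = 4) ∧ (¬ ∀ a b : G, a * b = b * a) ∧
    ∃ cfg : Config G, cfg.q = Nat.card P ∧
      (∀ H : Subgroup G, H ≠ ⊤ → 2 ∣ Nat.card H → Nat.card H ∣ 4 * cfg.q) ∧
      (∀ x : G, (∃ k : ℕ, orderOf x = 3 ^ k) → ∃ g : G, g * x * g⁻¹ ∈ cfg.C) ∧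
      (∀ x ∈ cfg.N, (∃ k : ℕ, orderOf x = 3 ^ k) → x ∈ cfg.C) := by
  set q := Nat.card P with hq
  set C := centralizer (P : Set G) with hCdef
  set N := normalizer ((P : Subgroup G) : Set G) with hNdef
  obtain ⟨a, ha⟩ := IsPGroup.iff_card.1 P.isPGroup'
  have ha' : q = 3 ^ a := ha
  have hqpos : 0 < q := Nat.card_pos
  -- N is proper
  have hNtop : N ≠ ⊤ := by
    intro h
    have hPn : (P : Subgroup G).Normal := normalizer_eq_top_iff.1 h
    rcases IsSimpleGroup.eq_bot_or_eq_top_of_normal _ hPn with hP | hP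
    · have h1 : C = ⊤ := by
        rw [hCdef, eq_top_iff]
        intro x _
        rw [mem_centralizer_iff]
        intro y hy
        have : y = 1 := mem_bot.1 (hP ▸ hy)
        simp [this]
      rw [h, card_top] at hN
      rw [h1, card_top] at hC
      omega
    · have h1 : q = Nat.card G := by
        show Nat.card (P : Subgroup G) = _
        rw [hP, card_top]
      rw [h, card_top] at hN
      omega
  have hna : ¬ ∀ a b : G, a * b = b * a := by
    intro h
    refine hNtop (normalizer_eq_top_iff.2 ⟨fun x hx g => ?_⟩)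
    rwa [h g x, mul_inv_cancel_right]
  have ha1 : 1 ≤ a := by
    by_contra ha0
    refine hNtop ?_
    have hP : (P : Subgroup G) = ⊥ := eq_bot_of_card_eq _ (by
      rw [show Nat.card (P : Subgroup G) = q from rfl, ha', show a = 0 by omega, pow_zero])
    show normalizer ((P : Subgroup G) : Set G) = ⊤
    rw [hP]
    exact normalizer_eq_top_iff.2 inferInstance
  have hPC : (P : Subgroup G) ≤ C := fun x hx => mem_centralizer_iff.2 fun y hy =>
    congrArg Subtype.val ((IsMulCommutative.is_comm (M := P)).comm ⟨y, hy⟩ ⟨x, hx⟩)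
  have hCN : C ≤ N := by
    intro c hc
    rw [hNdef, mem_normalizer_iff]
    intro x
    constructor
    · intro hx
      rwa [← mem_centralizer_iff.1 hc x hx, mul_inv_cancel_right]
    · intro hx
      have h1 := mem_centralizer_iff.1 hc _ hx
      rw [inv_mul_cancel_right] at h1
      have h2 : x = c * x * c⁻¹ := mul_left_cancel h1
      rwa [← h2] at hx
  have hnormC : ∀ g ∈ N, ∀ c ∈ C, g * c * g⁻¹ ∈ C := by
    intro g hg c hc
    rw [hCdef, mem_centralizer_iff]
    intro y hy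
    have hy' : g⁻¹ * y * g⁻¹⁻¹ ∈ (P : Subgroup G) :=
      (mem_normalizer_iff.1 (inv_mem hg) y).1 hy
    have h1 := mem_centralizer_iff.1 hc _ hy'
    calc y * (g * c * g⁻¹) = g * (g⁻¹ * y * g⁻¹⁻¹ * c) * g⁻¹ := by group
      _ = g * c * g⁻¹ * y := by rw [h1]; group
  -- C is abelian
  have hidx : ((P : Subgroup G).subgroupOf C).index = 2 := by
    have h1 := card_mul_index ((P : Subgroup G).subgroupOf C)
    rw [Nat.card_congr (subgroupOfEquivOfLe hPC).toEquiv, hC, mul_comm 2] at h1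
    exact Nat.eq_of_mul_eq_mul_left Nat.card_pos h1
  have hcommC : ∀ x ∈ C, ∀ y ∈ C, x * y = y * x := by
    intro x hx y hy
    by_cases hxP : x ∈ (P : Subgroup G)
    · exact mem_centralizer_iff.1 hy x hxP
    by_cases hyP : y ∈ (P : Subgroup G)
    · exact (mem_centralizer_iff.1 hx y hyP).symm
    have h1 : x * y⁻¹ ∈ (P : Subgroup G) := by
      have h2 := (Subgroup.mul_mem_iff_of_index_two hidx (a := ⟨x, hx⟩) (b := ⟨y, hy⟩⁻¹)).2
      simp only [mem_subgroupOf, coe_mul, InvMemClass.coe_inv, inv_mem_iff] at h2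
      exact h2 (iff_of_false hxP hyP)
    have h3 := mem_centralizer_iff.1 hy _ h1
    rw [inv_mul_cancel_right] at h3
    conv_lhs => rw [h3]
    group
  obtain ⟨t₀, ht₀⟩ := exists_prime_orderOf_dvd_card' (G := C) 2 (hC ▸ dvd_mul_right 2 q)
  have ht : orderOf (t₀ : G) = 2 := by rw [orderOf_coe]; exact ht₀
  have ht2 : (t₀ : G) * t₀ = 1 := by rw [← sq, ← ht, pow_orderOf_eq_one]
  have hodd : ∀ x ∈ (P : Subgroup G), x * x = 1 → x = 1 := by
    intro x hx hxx
    rw [← orderOf_eq_one_iff]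
    refine Nat.eq_one_of_dvd_coprimes (a := 2) (b := 3 ^ a) (Nat.Coprime.pow_right _ (by norm_num))
      (orderOf_dvd_of_pow_eq_one (by rw [sq, hxx])) ?_
    rw [← ha', ← orderOf_mk x hx]
    exact orderOf_dvd_natCard _
  have huniq : ∀ c ∈ C, c * c = 1 → c = 1 ∨ c = t₀ := by
    intro c hc hcc
    by_cases hcP : c ∈ (P : Subgroup G)
    · exact Or.inl (hodd c hcP hcc)
    have htP : (t₀ : G) ∉ (P : Subgroup G) := fun h => by
      rw [hodd _ h ht2, orderOf_one] at ht
      omega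
    have h1 : c * (t₀ : G) ∈ (P : Subgroup G) := by
      have h2 := (Subgroup.mul_mem_iff_of_index_two hidx (a := ⟨c, hc⟩) (b := t₀)).2
      simp only [mem_subgroupOf, coe_mul] at h2
      exact h2 (iff_of_false hcP htP)
    have h3 : c * (t₀ : G) * (c * t₀) = 1 := by
      rw [mul_assoc, ← mul_assoc (t₀ : G), hcommC _ t₀.2 c hc, mul_assoc, ht2, mul_one, hcc]
    right
    calc c = c * (t₀ : G) * t₀ := by rw [mul_assoc, ht2, mul_one]
      _ = t₀ := by rw [hodd _ h1 h3, one_mul]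
  -- normalizer of C
  have hCbot : C ≠ ⊥ := fun h => by
    rw [h, card_bot] at hC
    omega
  have hCtop : C ≠ ⊤ := fun h => hNtop (top_le_iff.1 (h ▸ hCN))
  have hNC : normalizer (C : Set G) = N := by
    have hle : N ≤ normalizer (C : Set G) := by
      intro g hg
      rw [mem_normalizer_iff]
      refine fun c => ⟨fun hc => hnormC g hg c hc, fun hc => ?_⟩
      have := hnormC g⁻¹ (inv_mem hg) _ hc
      simpa [mul_assoc] using this
    have hne : normalizer (C : Set G) ≠ ⊤ := fun h =>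
      (IsSimpleGroup.eq_bot_or_eq_top_of_normal C (normalizer_eq_top_iff.1 h)).elim hCbot hCtop
    refine (eq_of_le_of_card_ge hle ?_).symm
    rw [hN]
    refine Nat.le_of_dvd (by omega) (heven _ hne ?_)
    exact (dvd_mul_of_dvd_left (by norm_num : 2 ∣ 4) q).trans (hN ▸ card_dvd_of_le hle)
  have hti : ∀ g : G, ∀ c ∈ C, c ≠ 1 → g * c * g⁻¹ ∈ C → g ∈ N := by
    intro g c hc hc1 hgc
    by_contra hg
    exact hc1 (hTI g (hNC.symm ▸ hg) c hc hgc)
  -- centralizer of t
  have htN : ∀ g ∈ N, g * (t₀ : G) = t₀ * g := by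
    intro g hg
    have h1 : g * (t₀ : G) * g⁻¹ * (g * t₀ * g⁻¹) = 1 := by rw [conj_mul, ht2]; group
    rcases huniq _ (hnormC g hg _ t₀.2) h1 with h | h
    · rw [conj_eq_one_iff] at h
      rw [h, orderOf_one] at ht
      omega
    · exact mul_inv_eq_iff_eq_mul.1 h
  have hcentt : ∀ g : G, g * (t₀ : G) = t₀ * g ↔ g ∈ N := by
    intro g
    refine ⟨fun h => ?_, htN g⟩
    have hne1 : (t₀ : G) ≠ 1 := fun e => by rw [e, orderOf_one] at ht; omega
    exact hti g _ t₀.2 hne1 (by rw [h, mul_inv_cancel_right]; exact t₀.2)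
  -- Sylow 2
  obtain ⟨S⟩ := (inferInstance : Nonempty (Sylow 2 G))
  have h4G : 4 ∣ Nat.card G :=
    (dvd_mul_right 4 q).trans (hN ▸ card_subgroup_dvd_card N)
  have hStop : (S : Subgroup G) ≠ ⊤ := by
    intro h
    obtain ⟨k, hk⟩ := IsPGroup.iff_card.1 S.isPGroup'
    rw [h, card_top] at hk
    have h3 : 3 ∣ Nat.card G := (dvd_pow_self 3 (by omega : a ≠ 0)).trans
      (ha ▸ card_subgroup_dvd_card _)
    rw [hk] at h3
    exact absurd (Nat.prime_three.dvd_of_dvd_pow h3) (by norm_num)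
  have hS4 : Nat.card (S : Subgroup G) = 4 := by
    obtain ⟨k, hk⟩ := IsPGroup.iff_card.1 S.isPGroup'
    have h1 : 2 ^ 2 ∣ 2 ^ k := by
      rw [← hk, Sylow.card_eq_multiplicity]
      exact pow_dvd_pow 2 ((Nat.prime_two.pow_dvd_iff_le_factorization Nat.card_pos.ne').1
        (by norm_num; exact h4G))
    have hk2 : 2 ≤ k := (Nat.pow_dvd_pow_iff_le_right (by norm_num)).1 h1
    have h2 := heven _ hStop (hk ▸ dvd_pow_self 2 (by omega))
    rw [hk, ha'] at h2
    have h3 : 2 ^ k ∣ 2 ^ 2 :=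
      (Nat.Coprime.pow k a (by norm_num : Nat.Coprime 2 3)).dvd_of_dvd_mul_right
        (by norm_num; exact h2)
    have hk3 : k ≤ 2 := (Nat.pow_dvd_pow_iff_le_right (by norm_num)).1 h3
    rw [hk, show k = 2 by omega]
    norm_num
  obtain ⟨hsq, hfused⟩ := involutions_of_sylow_four hna S hS4
  -- outer involution
  obtain ⟨T⟩ := (inferInstance : Nonempty (Sylow 2 N))
  have hT4 : 4 ∣ Nat.card (T : Subgroup N) := by
    rw [Sylow.card_eq_multiplicity]
    have := (Nat.prime_two.pow_dvd_iff_le_factorization (n := Nat.card N) Nat.card_pos.ne').1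
      (show 2 ^ 2 ∣ Nat.card N by rw [hN]; exact dvd_mul_right _ q)
    exact (show 2 ^ 2 = 4 by norm_num) ▸ pow_dvd_pow 2 this
  have hTC : ¬ (T : Subgroup N).map N.subtype ≤ C := by
    intro h
    have h1 := card_dvd_of_le h
    rw [card_map_of_injective N.subtype_injective, hC] at h1
    have h2 : 2 ∣ q := Nat.dvd_of_mul_dvd_mul_left two_pos (by norm_num; exact hT4.trans h1)
    rw [ha'] at h2
    exact absurd (Nat.prime_two.dvd_of_dvd_pow h2) (by norm_num)
  obtain ⟨s, hsT, hsC⟩ := SetLike.not_le_iff_exists.1 hTC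
  obtain ⟨s', hs'T, rfl⟩ := mem_map.1 hsT
  have hss : (s' : G) * s' = 1 := by
    refine hsq _ ?_
    obtain ⟨k, hk⟩ := orderOf_eq_pow_of_mem T.isPGroup' hs'T
    exact ⟨k, by rw [orderOf_coe]; exact hk⟩
  have hidxC : (C.subgroupOf N).index = 2 := by
    have h1 := card_mul_index (C.subgroupOf N)
    rw [Nat.card_congr (subgroupOfEquivOfLe hCN).toEquiv, hC, hN] at h1
    have : 2 * q * (C.subgroupOf N).index = 2 * q * 2 := by omega
    exact Nat.eq_of_mul_eq_mul_left (by omega) this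
  have hnmul : ∀ x ∈ N, x ∉ C → (s' : G) * x ∈ C := by
    intro x hx hxC
    have h2 := (Subgroup.mul_mem_iff_of_index_two hidxC (a := s') (b := ⟨x, hx⟩)).2
    simp only [mem_subgroupOf, coe_mul] at h2
    exact h2 (iff_of_false hsC hxC)
  have h3P : ∀ x : G, (∃ k : ℕ, orderOf x = 3 ^ k) → ∃ g : G, g * x * g⁻¹ ∈ C := by
    intro x hx
    obtain ⟨R, hR⟩ := (isPGroup_zpowers (p := 3) hx).exists_le_sylow
    obtain ⟨g, hg⟩ := MulAction.exists_smul_eq G R P
    refine ⟨g, hPC ?_⟩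
    rw [← hg, Sylow.coe_subgroup_smul]
    exact ⟨x, hR (mem_zpowers x), rfl⟩
  have h3N : ∀ x ∈ N, (∃ k : ℕ, orderOf x = 3 ^ k) → x ∈ C := by
    intro x hx hxo
    obtain ⟨R, hR⟩ := ((isPGroup_zpowers (p := 3) hxo).to_sup_of_normal_right' P.isPGroup'
      (zpowers_le.2 hx)).exists_le_sylow
    apply hPC
    rw [← P.is_maximal' R.isPGroup' (le_sup_right.trans hR)]
    exact hR (mem_sup_left (mem_zpowers x))
  exact ⟨⟨S, hS4⟩, hna,
    ⟨q, C, N, t₀, s', ⟨a, ha1, ha'⟩, hCN, hC, hN, hcommC, t₀.2, ht, huniq, s'.2, hsC, hss, hnmul,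
      hnormC, hti, hcentt, hfused⟩, rfl, heven, h3P, h3N⟩

end Cfsg.Agent.FGS76
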