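import Cfsg.Agent.FGS76.ThreeTI

/-!
Counting pairs of involutions in the configuration of S4018.
-/

set_option autoImplicit false
set_option linter.unusedSectionVars false
set_option linter.style.haveILetI false

namespace Cfsg.Agent.FGS76

open Subgroup

variable {G : Type*} [Group G] [Finite G]

/-- involutions `u` with `u * x` an involution -/
noncomputable def invPairs (x : G) : ℕ := Nat.card {u : G // orderOf u = 2 ∧ orderOf (u * x) = 2}

theorem sum_invPairs [Fintype G] :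
    ∑ x : G, invPairs x = Nat.card {u : G // orderOf u = 2} * Nat.card {u : G // orderOf u = 2} := by
  calc ∑ x : G, invPairs x
      = Nat.card (Σ x : G, {u : G // orderOf u = 2 ∧ orderOf (u * x) = 2}) := by
        rw [Nat.card_sigma]; rfl
    _ = _ := by
        rw [← Nat.card_prod]
        refine Nat.card_congr
          { toFun := fun p => (⟨p.2.1, p.2.2.1⟩, ⟨p.2.1 * p.1, p.2.2.2⟩)
            invFun := fun p => ⟨p.1.1⁻¹ * p.2.1, ⟨p.1.1, p.1.2, by
              rw [mul_inv_cancel_left]; exact p.2.2⟩⟩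
            left_inv := ?_
            right_inv := ?_ }
        · rintro ⟨x, u, h1, h2⟩
          simp
          congr 1 <;> simp
        · rintro ⟨⟨u, hu⟩, v, hv⟩
          simp

theorem invPairs_conj (g x : G) : invPairs (g * x * g⁻¹) = invPairs x := by
  refine (Nat.card_congr ((MulAut.conj g).toEquiv.subtypeEquiv fun u => ?_)).symm
  show _ ↔ orderOf (MulAut.conj g u) = 2 ∧ orderOf (MulAut.conj g u * MulAut.conj g x) = 2
  rw [← map_mul, MulEquiv.orderOf_eq, MulEquiv.orderOf_eq]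

theorem orderOf_two_iff {u : G} : orderOf u = 2 ↔ u * u = 1 ∧ u ≠ 1 := by
  constructor
  · intro h
    refine ⟨by rw [← sq, ← h, pow_orderOf_eq_one], fun e => ?_⟩
    rw [e, orderOf_one] at h
    omega
  · rintro ⟨h, h1⟩
    exact orderOf_eq_prime (by rw [sq, h]) h1

variable (cfg : Config G)

/-- the elements of `C` inverted by `s` -/
def Config.Cm : Set G := {c | c ∈ cfg.C ∧ cfg.s * c * cfg.s = c⁻¹}

theorem Config.t_ne_one : cfg.t ≠ 1 := (orderOf_two_iff.1 cfg.t_inv).2

theorem Config.t_mul_self : cfg.t * cfg.t = 1 := (orderOf_two_iff.1 cfg.t_inv).1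

theorem Config.s_ne_one : cfg.s ≠ 1 := fun h => cfg.s_notMem (h ▸ one_mem _)

theorem Config.q_pos : 0 < cfg.q := by
  obtain ⟨a, -, ha⟩ := cfg.hq
  rw [ha]
  positivity

theorem Config.t_mem_Cm : cfg.t ∈ cfg.Cm := by
  refine ⟨cfg.t_mem, ?_⟩
  rw [(cfg.centt cfg.s).2 cfg.s_mem, mul_assoc, cfg.s_inv, mul_one]
  exact (inv_eq_of_mul_eq_one_right cfg.t_mul_self).symm

/-- involutions of `N` other than `t` -/
theorem Config.involution_iff (u : G) :
    (orderOf u = 2 ∧ u ∈ cfg.N ∧ u ≠ cfg.t) ↔ ∃ c ∈ cfg.Cm, u = cfg.s * c := by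
  constructor
  · rintro ⟨hu, huN, hut⟩
    obtain ⟨hu2, hu1⟩ := orderOf_two_iff.1 hu
    have huC : u ∉ cfg.C := fun h => (cfg.t_uniq u h hu2).elim hu1 hut
    have hsu : cfg.s * u ∈ cfg.C := cfg.nmul u huN huC
    refine ⟨cfg.s * u, ⟨hsu, ?_⟩, by rw [← mul_assoc, cfg.s_inv, one_mul]⟩
    rw [mul_inv_rev, inv_eq_of_mul_eq_one_right cfg.s_inv, inv_eq_of_mul_eq_one_right hu2,
      ← mul_assoc, cfg.s_inv, one_mul]
  · rintro ⟨c, ⟨hc, hcs⟩, rfl⟩
    have hnC : cfg.s * c ∉ cfg.C := fun h => cfg.s_notMem ((mul_mem_cancel_right hc).1 h)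
    refine ⟨orderOf_two_iff.2 ⟨?_, fun h => hnC (h ▸ one_mem _)⟩,
      mul_mem cfg.s_mem (cfg.hCN hc), fun h => hnC (h ▸ cfg.t_mem)⟩
    rw [← mul_assoc, hcs, inv_mul_cancel]

theorem Config.inverts {c c' : G} (hc : c ∈ cfg.Cm) (hc' : c' ∈ cfg.Cm) :
    cfg.s * c * c' * (cfg.s * c)⁻¹ = c'⁻¹ := by
  have hsi : cfg.s⁻¹ = cfg.s := inv_eq_of_mul_eq_one_right cfg.s_inv
  calc cfg.s * c * c' * (cfg.s * c)⁻¹ = cfg.s * (c * c' * c⁻¹) * cfg.s := by
        rw [mul_inv_rev, hsi]; group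
    _ = cfg.s * c' * cfg.s := by
        rw [cfg.comm c hc.1 c' hc'.1, mul_inv_cancel_right]
    _ = c'⁻¹ := hc'.2

theorem Config.invPairs_eq {c : G} (hc : c ∈ cfg.Cm) (hc1 : c ≠ 1) :
    invPairs c = Nat.card cfg.Cm := by
  refine (Nat.card_congr (Equiv.ofBijective (fun d : cfg.Cm => (⟨cfg.s * d.1, ?_⟩ :
    {u : G // orderOf u = 2 ∧ orderOf (u * c) = 2})) ⟨?_, ?_⟩)).symm
  · obtain ⟨h1, h2, -⟩ := (cfg.involution_iff _).2 ⟨d.1, d.2, rfl⟩
    refine ⟨h1, orderOf_two_iff.2 ⟨?_, ?_⟩⟩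
    · obtain ⟨h3, -⟩ := orderOf_two_iff.1 h1
      have h4 := cfg.inverts d.2 hc
      rw [inv_eq_of_mul_eq_one_right h3] at h4
      rw [← mul_assoc, h4, inv_mul_cancel]
    · intro h
      refine cfg.s_notMem ?_
      have : cfg.s = c⁻¹ * d.1⁻¹ := by
        rw [← mul_inv_rev, eq_inv_iff_mul_eq_one, ← mul_assoc, h]
      rw [this]
      exact mul_mem (inv_mem hc.1) (inv_mem d.2.1)
  · intro d d' h
    exact Subtype.ext (mul_left_cancel (congrArg Subtype.val h))
  · rintro ⟨u, hu, huc⟩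
    obtain ⟨hu2, -⟩ := orderOf_two_iff.1 hu
    obtain ⟨huc2, -⟩ := orderOf_two_iff.1 huc
    have hinv : u * c * u⁻¹ = c⁻¹ := by
      rw [inv_eq_of_mul_eq_one_right hu2, eq_inv_iff_mul_eq_one, mul_assoc]
      exact huc2
    have huN : u ∈ cfg.N := cfg.ti u c hc.1 hc1 (hinv ▸ inv_mem hc.1)
    have hut : u ≠ cfg.t := by
      intro h
      rw [h, cfg.comm _ cfg.t_mem c hc.1, mul_inv_cancel_right] at hinv
      rcases cfg.t_uniq c hc.1 (by nth_rewrite 1 [hinv]; exact inv_mul_cancel c) with h' | h'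
      · exact hc1 h'
      · rw [h, h', cfg.t_mul_self, orderOf_one] at huc
        omega
    obtain ⟨d, hd, hd'⟩ := (cfg.involution_iff u).1 ⟨hu, huN, hut⟩
    exact ⟨⟨d, hd⟩, Subtype.ext hd'.symm⟩

theorem Config.conj_Cm {g c : G} (hg : g ∈ cfg.N) (hc : c ∈ cfg.Cm) : g * c * g⁻¹ ∈ cfg.Cm := by
  have hsi : cfg.s⁻¹ = cfg.s := inv_eq_of_mul_eq_one_right cfg.s_inv
  refine ⟨cfg.normC g hg c hc.1, ?_⟩
  by_cases hgC : g ∈ cfg.C
  · rw [cfg.comm g hgC c hc.1, mul_inv_cancel_right]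
    exact hc.2
  · have hd := cfg.nmul g hg hgC
    have hg' : g = cfg.s * (cfg.s * g) := by rw [← mul_assoc, cfg.s_inv, one_mul]
    have h : g * c * g⁻¹ = c⁻¹ := by
      rw [hg', mul_inv_rev, hsi]
      calc cfg.s * (cfg.s * g) * c * ((cfg.s * g)⁻¹ * cfg.s)
          = cfg.s * ((cfg.s * g) * c * (cfg.s * g)⁻¹) * cfg.s := by group
        _ = cfg.s * c * cfg.s := by rw [cfg.comm _ hd c hc.1, mul_inv_cancel_right]
        _ = c⁻¹ := hc.2
    rw [h, inv_inv]
    have h2 := congrArg (fun z => z⁻¹) hc.2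
    simp only [mul_inv_rev, hsi, inv_inv, ← mul_assoc] at h2
    exact h2

theorem Config.card_involutions : Nat.card {u : G // orderOf u = 2} * (4 * cfg.q) = Nat.card G := by
  have h1 : (centralizer ({cfg.t} : Set G)) = cfg.N := by
    ext g
    rw [mem_centralizer_singleton_iff, cfg.centt]
  have h2 : Nat.card {u : G // orderOf u = 2} = (ConjClasses.mk cfg.t).carrier.ncard := by
    rw [← Nat.card_coe_set_eq]
    refine Nat.card_congr (Equiv.subtypeEquivRight fun u => ?_)
    rw [ConjClasses.mem_carrier_iff_mk_eq, ConjClasses.mk_eq_mk_iff_isConj]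
    refine ⟨fun h => cfg.fused _ _ h cfg.t_inv, fun h => ?_⟩
    obtain ⟨g, hg⟩ := isConj_iff.1 h.symm
    rw [← hg, ← MulAut.conj_apply, MulEquiv.orderOf_eq, cfg.t_inv]
  rw [h2, ncard_carrier, h1, ← cfg.hcardN, index_mul_card]

theorem Config.count_eq [IsSimpleGroup G] (hna : ¬ ∀ a b : G, a * b = b * a)
    (heven : ∀ H : Subgroup G, H ≠ ⊤ → 2 ∣ Nat.card H → Nat.card H ∣ 4 * cfg.q)
    (h3P : ∀ x : G, (∃ k : ℕ, orderOf x = 3 ^ k) → ∃ g : G, g * x * g⁻¹ ∈ cfg.C)
    (h3N : ∀ x ∈ cfg.N, (∃ k : ℕ, orderOf x = 3 ^ k) → x ∈ cfg.C)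
    (hsq : ∀ x : G, (∃ k : ℕ, orderOf x = 2 ^ k) → x * x = 1) :
    Nat.card {u : G // orderOf u = 2} + Nat.card cfg.Cm =
      Nat.card cfg.Cm * Nat.card cfg.Cm + 1 := by
  classical
  haveI := Fintype.ofFinite G
  obtain ⟨a, -, hqa⟩ := cfg.hq
  set n := Nat.card {u : G // orderOf u = 2} with hn
  set M := Nat.card cfg.Cm with hM
  -- strongly real elements are conjugate into `Cm`
  have hsupp : ∀ x : G, x ≠ 1 → invPairs x ≠ 0 → ∃ g : G, g * x * g⁻¹ ∈ cfg.Cm := by
    intro x hx1 hx0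
    obtain ⟨⟨u, hu, hux⟩⟩ := (Finite.card_pos_iff (α := {u : G // orderOf u = 2 ∧
      orderOf (u * x) = 2})).1 (Nat.pos_of_ne_zero hx0)
    obtain ⟨hu2, -⟩ := orderOf_two_iff.1 hu
    obtain ⟨hux2, -⟩ := orderOf_two_iff.1 hux
    have hinv : u * x * u⁻¹ = x⁻¹ := by
      rw [inv_eq_of_mul_eq_one_right hu2, eq_inv_iff_mul_eq_one, mul_assoc]
      exact hux2
    -- the order of x
    set D := zpowers u ⊔ zpowers x with hD
    have huD : u ∈ D := mem_sup_left (mem_zpowers u)
    have hxD : x ∈ D := mem_sup_right (mem_zpowers x)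
    have hDne : D ≠ ⊤ := by
      intro h
      have hnorm : normalizer ((zpowers x : Subgroup G) : Set G) = ⊤ := by
        rw [eq_top_iff, ← h]
        refine sup_le (zpowers_le.2 ?_) le_normalizer
        rw [mem_normalizer_iff_map_conj_eq, MonoidHom.map_zpowers]
        show zpowers (u * x * u⁻¹) = _
        rw [hinv, zpowers_inv]
      rcases IsSimpleGroup.eq_bot_or_eq_top_of_normal _ (normalizer_eq_top_iff.1 hnorm) with h | h
      · exact hx1 (zpowers_eq_bot.1 h)
      · refine hna fun a b => ?_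
        obtain ⟨i, rfl⟩ := mem_zpowers_iff.1 (h ▸ mem_top a)
        obtain ⟨j, rfl⟩ := mem_zpowers_iff.1 (h ▸ mem_top b)
        rw [← zpow_add, ← zpow_add, add_comm]
    have hDeven : 2 ∣ Nat.card D := by
      rw [← hu, ← orderOf_mk u huD]
      exact orderOf_dvd_natCard _
    have ho4 : orderOf x ∣ 4 * cfg.q := by
      refine dvd_trans ?_ (heven D hDne hDeven)
      rw [← orderOf_mk x hxD]
      exact orderOf_dvd_natCard _
    have ho2 : x ^ (2 * cfg.q) = 1 := by
      have h1 : (x ^ cfg.q) ^ 4 = 1 := by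
        rw [← pow_mul, mul_comm]
        exact orderOf_dvd_iff_pow_eq_one.1 ho4
      obtain ⟨k, -, hk⟩ := (Nat.dvd_prime_pow Nat.prime_two).1
        (orderOf_dvd_of_pow_eq_one (show (x ^ cfg.q) ^ 2 ^ 2 = 1 by simpa using h1))
      have h2 := hsq _ ⟨k, hk⟩
      rwa [mul_comm, pow_mul, sq]
    -- the key: an inverted element of `C`
    have key : ∀ c ∈ cfg.C, c ≠ 1 → ∀ w : G, w * w = 1 → w * c * w⁻¹ = c⁻¹ → c ∈ cfg.Cm := by
      intro c hc hc1 w hw hwc
      have hwN : w ∈ cfg.N := cfg.ti w c hc hc1 (hwc ▸ inv_mem hc)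
      by_cases hwC : w ∈ cfg.C
      · rw [cfg.comm w hwC c hc, mul_inv_cancel_right] at hwc
        rcases cfg.t_uniq c hc (by nth_rewrite 1 [hwc]; exact inv_mul_cancel c) with h | h
        · exact absurd h hc1
        · exact h ▸ cfg.t_mem_Cm
      · refine ⟨hc, ?_⟩
        have hd := cfg.nmul w hwN hwC
        have hw' : w = cfg.s * (cfg.s * w) := by rw [← mul_assoc, cfg.s_inv, one_mul]
        rw [← hwc, hw', mul_inv_rev, inv_eq_of_mul_eq_one_right cfg.s_inv]
        calc cfg.s * c * cfg.s = cfg.s * ((cfg.s * w) * c * (cfg.s * w)⁻¹) * cfg.s := by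
              rw [cfg.comm _ hd c hc, mul_inv_cancel_right]
          _ = _ := by group
    by_cases hy : x ^ 2 = 1
    · obtain ⟨g, hg⟩ := isConj_iff.1
        (cfg.fused x cfg.t (orderOf_two_iff.2 ⟨by rw [← sq, hy], hx1⟩) cfg.t_inv)
      exact ⟨g, hg ▸ cfg.t_mem_Cm⟩
    obtain ⟨k, -, hk⟩ := (Nat.dvd_prime_pow Nat.prime_three).1
      (orderOf_dvd_of_pow_eq_one (show (x ^ 2) ^ 3 ^ a = 1 by rw [← pow_mul, ← hqa, ho2]))
    obtain ⟨g, hgC⟩ : ∃ g : G, g * x * g⁻¹ ∈ cfg.C := by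
      by_cases hodd : Odd (orderOf x)
      · refine h3P x ⟨k, ?_⟩
        rw [← hk, Nat.Coprime.orderOf_pow]
        exact (Nat.coprime_two_right.2 hodd)
      · rw [Nat.not_odd_iff_even] at hodd
        obtain ⟨d, hd⟩ := hodd
        have hd0 : 0 < d := by have := orderOf_pos x; omega
        have hi : orderOf (x ^ d) = 2 := by
          refine orderOf_two_iff.2 ⟨?_, fun h => ?_⟩
          · rw [← pow_add, ← hd, pow_orderOf_eq_one]
          · have := Nat.le_of_dvd hd0 (orderOf_dvd_of_pow_eq_one h)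
            omega
        obtain ⟨g, hg⟩ := isConj_iff.1 (cfg.fused _ cfg.t hi cfg.t_inv)
        refine ⟨g, ?_⟩
        set x' := g * x * g⁻¹ with hx'
        have hx'N : x' ∈ cfg.N := by
          rw [← cfg.centt, ← hg, hx', conj_mul, conj_mul, ← pow_succ', ← pow_succ]
        have hy' : orderOf (x' ^ 2) = 3 ^ k := by
          rw [hx', conj_pow, ← MulAut.conj_apply, MulEquiv.orderOf_eq, hk]
        have hyC : x' ^ 2 ∈ cfg.C := h3N _ (pow_mem hx'N 2) ⟨k, hy'⟩
        have hy1 : x' ^ 2 ≠ 1 := fun h => hy (conj_eq_one_iff.1 (by rwa [hx', conj_pow] at h))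
        set u' := g * u * g⁻¹ with hu'
        have hu'2 : u' * u' = 1 := by rw [hu', conj_mul, hu2, mul_one, mul_inv_cancel]
        have hinv' : u' * x' ^ 2 * u'⁻¹ = (x' ^ 2)⁻¹ := by
          rw [← conj_pow, ← inv_pow]
          congr 1
          rw [hu', hx', show g * u * g⁻¹ * (g * x * g⁻¹) * (g * u * g⁻¹)⁻¹ =
            g * (u * x * u⁻¹) * g⁻¹ by group, hinv]
          group
        by_contra hxC
        have hu'N : u' ∈ cfg.N := cfg.ti u' _ hyC hy1 (hinv' ▸ inv_mem hyC)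
        have hu'C : u' ∉ cfg.C := by
          intro h
          rw [cfg.comm _ h _ hyC, mul_inv_cancel_right] at hinv'
          refine hy1 ?_
          rw [← orderOf_eq_one_iff]
          refine Nat.eq_one_of_dvd_coprimes
            (Nat.Coprime.pow_right k (by norm_num : Nat.Coprime 2 3))
            (orderOf_dvd_of_pow_eq_one ?_) hy'.dvd
          rw [sq]
          nth_rewrite 1 [hinv']
          exact inv_mul_cancel _
        have h1 := cfg.nmul u' hu'N hu'C
        have h2 := cfg.nmul x' hx'N hxC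
        have h3 : u'⁻¹ * x' ∈ cfg.C := by
          have := mul_mem (inv_mem h1) h2
          rwa [mul_inv_rev, mul_assoc, ← mul_assoc cfg.s⁻¹, inv_mul_cancel, one_mul] at this
        have h4 := cfg.comm _ h3 _ hyC
        have h5 : u' * x' ^ 2 * u'⁻¹ = x' ^ 2 := by
          calc u' * x' ^ 2 * u'⁻¹ = x' * ((u'⁻¹ * x')⁻¹ * x' ^ 2 * (u'⁻¹ * x')) * x'⁻¹ := by group
            _ = x' * x' ^ 2 * x'⁻¹ := by rw [mul_assoc (u'⁻¹ * x')⁻¹, ← h4, inv_mul_cancel_left]
            _ = x' ^ 2 := by group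
        rw [h5] at hinv'
        refine hy1 ?_
        rw [← orderOf_eq_one_iff]
        refine Nat.eq_one_of_dvd_coprimes
          (Nat.Coprime.pow_right k (by norm_num : Nat.Coprime 2 3))
          (orderOf_dvd_of_pow_eq_one ?_) hy'.dvd
        rw [sq]
        nth_rewrite 1 [hinv']
        exact inv_mul_cancel _
    refine ⟨g, key _ hgC (fun h => hx1 (conj_eq_one_iff.1 h)) (g * u * g⁻¹)
      (by rw [conj_mul, hu2, mul_one, mul_inv_cancel]) ?_⟩
    rw [show g * u * g⁻¹ * (g * x * g⁻¹) * (g * u * g⁻¹)⁻¹ = g * (u * x * u⁻¹) * g⁻¹ by group, hinv]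
    group
  -- fibres of (g, c) ↦ g c g⁻¹
  let S : Finset G := Finset.univ.filter fun c => c ∈ cfg.Cm ∧ c ≠ 1
  have hScard : S.card + 1 = M := by
    have h : S = ((Finset.univ.filter fun c : G => c ∈ cfg.Cm).erase 1) := by
      ext c; simp [S, and_comm]
    rw [h, Finset.card_erase_add_one (Finset.mem_filter.2 ⟨Finset.mem_univ _, one_mem _,
      by rw [mul_one, cfg.s_inv, inv_one]⟩), hM,
      ← Fintype.card_subtype, ← Nat.card_eq_fintype_card]
  have hfib : ∀ x : G, (∃ g : G, g * x * g⁻¹ ∈ cfg.Cm) → x ≠ 1 →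
      ((Finset.univ ×ˢ S).filter fun p : G × G => p.1 * p.2 * p.1⁻¹ = x).card = 4 * cfg.q := by
    rintro x ⟨g, hg⟩ hx1
    rw [← cfg.hcardN, Nat.card_eq_fintype_card, Fintype.card_subtype]
    set c0 := g * x * g⁻¹ with hc0
    have hc01 : c0 ≠ 1 := fun h => hx1 (conj_eq_one_iff.1 h)
    refine Finset.card_bij' (fun p _ => g * p.1) (fun h _ => (g⁻¹ * h, h⁻¹ * c0 * h)) ?_ ?_ ?_ ?_
    · intro p hp
      simp only [Finset.mem_filter, Finset.mem_product, Finset.mem_univ, true_and, S] at hp ⊢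
      refine cfg.ti _ p.2 hp.1.1.1 hp.1.2 ?_
      rw [show g * p.1 * p.2 * (g * p.1)⁻¹ = g * (p.1 * p.2 * p.1⁻¹) * g⁻¹ by group, hp.2]
      exact hg.1
    · intro h hh
      simp only [Finset.mem_filter, Finset.mem_product, Finset.mem_univ, true_and, S] at hh ⊢
      refine ⟨⟨?_, ?_⟩, ?_⟩
      · have h1 := cfg.conj_Cm (inv_mem hh) hg
        rwa [inv_inv] at h1
      · intro h1
        refine hc01 ?_
        rw [← conj_eq_one_iff (a := h⁻¹)]
        rwa [inv_inv]
      · rw [hc0]; group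
    · intro p hp
      simp only [Finset.mem_filter, Finset.mem_product, Finset.mem_univ, true_and, S] at hp
      refine Prod.ext (by group) ?_
      show (g * p.1)⁻¹ * c0 * (g * p.1) = p.2
      rw [hc0, ← hp.2]
      group
    · intro h hh
      group
  -- double counting
  set T : Finset G := Finset.univ.filter fun x => (∃ g : G, g * x * g⁻¹ ∈ cfg.Cm) ∧ x ≠ 1 with hT
  have hsum : 4 * cfg.q * ∑ x ∈ T, invPairs x = Nat.card G * S.card * M := by
    have h1 : ∑ p ∈ Finset.univ ×ˢ S, invPairs (p.1 * p.2 * p.1⁻¹) = Nat.card G * S.card * M := by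
      rw [Finset.sum_congr rfl (g := fun _ => M) (fun p hp => ?_), Finset.sum_const,
        Finset.card_product, smul_eq_mul, Finset.card_univ, Nat.card_eq_fintype_card]
      simp only [Finset.mem_product, Finset.mem_univ, true_and, S, Finset.mem_filter] at hp
      rw [invPairs_conj, cfg.invPairs_eq hp.1 hp.2, hM]
    rw [← h1, Finset.mul_sum,
      ← Finset.sum_fiberwise_of_maps_to (t := T) (g := fun p : G × G => p.1 * p.2 * p.1⁻¹)
        (fun p hp => ?_)]
    · refine Finset.sum_congr rfl fun x hx => ?_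
      simp only [hT, Finset.mem_filter, Finset.mem_univ, true_and] at hx
      rw [Finset.sum_congr rfl (g := fun _ => invPairs x) (fun p hp => by
        rw [(Finset.mem_filter.1 hp).2]), Finset.sum_const, hfib x hx.1 hx.2, smul_eq_mul]
    · simp only [Finset.mem_product, Finset.mem_univ, true_and, S, Finset.mem_filter] at hp
      simp only [hT, Finset.mem_filter, Finset.mem_univ, true_and]
      refine ⟨⟨p.1⁻¹, ?_⟩, fun h => hp.2 (conj_eq_one_iff.1 h)⟩
      rw [inv_inv, show p.1⁻¹ * (p.1 * p.2 * p.1⁻¹) * p.1 = p.2 by group]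
      exact hp.1
  have htot : ∑ x ∈ T, invPairs x + n = n * n := by
    rw [← sum_invPairs (G := G), ← Finset.add_sum_erase _ _ (Finset.mem_univ (1 : G)), add_comm]
    congr 1
    · exact (Nat.card_congr (Equiv.subtypeEquivRight fun u => by simp)).symm
    · refine Finset.sum_subset (fun x hx => ?_) fun x hx hxT => ?_
      · exact Finset.mem_erase.2 ⟨(Finset.mem_filter.1 hx).2.2, Finset.mem_univ _⟩
      · by_contra h0
        have hx1 := Finset.ne_of_mem_erase hx
        exact hxT (Finset.mem_filter.2 ⟨Finset.mem_univ _, hsupp x hx1 h0, hx1⟩)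
  rw [← cfg.card_involutions, ← hn] at hsum
  have hq0 := cfg.q_pos
  have h2 : ∑ x ∈ T, invPairs x = n * (S.card * M) := by
    have : 4 * cfg.q * ∑ x ∈ T, invPairs x = 4 * cfg.q * (n * (S.card * M)) := by
      rw [hsum]; ring
    exact Nat.eq_of_mul_eq_mul_left (by omega) this
  rw [h2] at htot
  have hn0 : 0 < n := Finite.card_pos_iff.2 ⟨⟨cfg.t, cfg.t_inv⟩⟩
  have h3 : S.card * M + 1 = n := by
    refine Nat.eq_of_mul_eq_mul_left hn0 ?_
    rw [mul_add, mul_one, htot]
  rw [← h3, ← hScard]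
  ring

/-- the outer involution inverts all of `C` -/
theorem Config.all_inverted (hcount : Nat.card {u : G // orderOf u = 2} + Nat.card cfg.Cm =
      Nat.card cfg.Cm * Nat.card cfg.Cm + 1) :
    Nat.card {u : G // orderOf u = 2} = 3 ∨ ∀ c ∈ cfg.C, cfg.s * c * cfg.s = c⁻¹ := by
  classical
  haveI := Fintype.ofFinite G
  set n := Nat.card {u : G // orderOf u = 2} with hn
  set M := Nat.card cfg.Cm with hM
  obtain ⟨a, -, hqa⟩ := cfg.hq
  -- `Cm` is a subgroup
  let K : Subgroup G :=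
    { carrier := cfg.Cm
      one_mem' := ⟨one_mem _, by rw [mul_one, cfg.s_inv, inv_one]⟩
      mul_mem' := by
        rintro x y ⟨hx, hx'⟩ ⟨hy, hy'⟩
        refine ⟨mul_mem hx hy, ?_⟩
        calc cfg.s * (x * y) * cfg.s = (cfg.s * x * cfg.s) * (cfg.s * y * cfg.s) := by
              rw [show cfg.s * x * cfg.s * (cfg.s * y * cfg.s) =
                cfg.s * x * (cfg.s * cfg.s) * y * cfg.s by group, cfg.s_inv, mul_one,
                mul_assoc cfg.s x y]
          _ = (x * y)⁻¹ := by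
              rw [hx', hy', mul_inv_rev]
              exact cfg.comm _ (inv_mem hx) _ (inv_mem hy)
      inv_mem' := by
        rintro x ⟨hx, hx'⟩
        refine ⟨inv_mem hx, ?_⟩
        rw [inv_inv]
        have h := congrArg (fun z => z⁻¹) hx'
        simp only [mul_inv_rev, inv_eq_of_mul_eq_one_right cfg.s_inv, inv_inv, ← mul_assoc] at h
        exact h }
  have hKM : Nat.card K = M := rfl
  have hKC : K ≤ cfg.C := fun x hx => hx.1
  have hM2 : 2 ∣ M := by
    rw [← hKM, ← cfg.t_inv, ← orderOf_mk (H := K) cfg.t cfg.t_mem_Cm]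
    exact orderOf_dvd_natCard _
  have hMdvd : M ∣ 2 * cfg.q := by
    rw [← hKM, ← cfg.hcardC]
    exact card_dvd_of_le hKC
  -- C acts freely on the involutions outside N
  have hfree : 2 * cfg.q ∣ Nat.card {u : G // orderOf u = 2 ∧ u ∉ cfg.N} := by
    let X := {u : G // orderOf u = 2 ∧ u ∉ cfg.N}
    letI act : MulAction cfg.C X :=
      { smul := fun c u => ⟨c.1 * u.1 * (c.1)⁻¹, by
          refine ⟨?_, fun h => u.2.2 ?_⟩
          · rw [← MulAut.conj_apply, MulEquiv.orderOf_eq]; exact u.2.1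
          · have := mul_mem (mul_mem (inv_mem (cfg.hCN c.2)) h) (cfg.hCN c.2)
            rwa [show (c.1)⁻¹ * (c.1 * u.1 * (c.1)⁻¹) * c.1 = u.1 by group] at this⟩
        one_smul := fun u => Subtype.ext (by
          show ((1 : cfg.C) : G) * u.1 * ((1 : cfg.C) : G)⁻¹ = u.1
          simp)
        mul_smul := fun c d u => Subtype.ext (by
          show ((c * d : cfg.C) : G) * u.1 * ((c * d : cfg.C) : G)⁻¹ =
            c.1 * (d.1 * u.1 * (d.1)⁻¹) * (c.1)⁻¹
          simp [mul_assoc]) }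
    haveI := Fintype.ofFinite (MulAction.orbitRel.Quotient cfg.C X)
    have h := MulAction.sum_card_fixedBy_eq_card_orbits_mul_card_group cfg.C X
    rw [Finset.sum_eq_single (1 : cfg.C)] at h
    · rw [← Nat.card_eq_fintype_card, ← Nat.card_eq_fintype_card,
        ← Nat.card_eq_fintype_card, MulAction.fixedBy_one_eq_univ,
        Nat.card_congr (Equiv.Set.univ X), cfg.hcardC] at h
      exact Dvd.intro_left _ h.symm
    · intro c _ hc
      rw [Fintype.card_eq_zero_iff]
      refine ⟨fun ⟨u, hu⟩ => u.2.2 ?_⟩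
      have h1 : c.1 * u.1 * (c.1)⁻¹ = u.1 := congrArg Subtype.val hu
      refine cfg.ti u.1 c.1 c.2 (fun h => hc (Subtype.ext h)) ?_
      rw [show u.1 * c.1 * (u.1)⁻¹ = c.1 by
        nth_rewrite 1 [← h1]; group]
      exact c.2
    · simp
  have hNinv : Nat.card {u : G // orderOf u = 2 ∧ u ∈ cfg.N} = M + 1 := by
    have h1 : Set.ncard {u : G | orderOf u = 2 ∧ u ∈ cfg.N} = M + 1 := by
      have h2 : {u : G | orderOf u = 2 ∧ u ∈ cfg.N} =
          insert cfg.t ((fun c => cfg.s * c) '' cfg.Cm) := by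
        ext u
        simp only [Set.mem_setOf_eq, Set.mem_insert_iff, Set.mem_image]
        constructor
        · rintro ⟨h1, h2⟩
          by_cases h : u = cfg.t
          · exact Or.inl h
          · obtain ⟨c, hc, rfl⟩ := (cfg.involution_iff u).1 ⟨h1, h2, h⟩
            exact Or.inr ⟨c, hc, rfl⟩
        · rintro (rfl | ⟨c, hc, rfl⟩)
          · exact ⟨cfg.t_inv, cfg.hCN cfg.t_mem⟩
          · exact ⟨((cfg.involution_iff _).2 ⟨c, hc, rfl⟩).1, ((cfg.involution_iff _).2 ⟨c, hc, rfl⟩).2.1⟩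
      rw [h2, Set.ncard_insert_of_notMem ?_ (Set.toFinite _),
        Set.ncard_image_of_injective _ (mul_right_injective cfg.s), ← Nat.card_coe_set_eq]
      rintro ⟨c, hc, h⟩
      exact ((cfg.involution_iff _).2 ⟨c, hc, rfl⟩).2.2 h
    rw [← h1, ← Nat.card_coe_set_eq]
    rfl
  have hsplit : Nat.card {u : G // orderOf u = 2 ∧ u ∈ cfg.N} +
      Nat.card {u : G // orderOf u = 2 ∧ u ∉ cfg.N} = n := by
    rw [hn]
    simp only [Nat.card_eq_fintype_card, Fintype.card_subtype]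
    rw [← Finset.card_filter_add_card_filter_not
      (s := Finset.univ.filter fun u : G => orderOf u = 2) (fun u => u ∈ cfg.N),
      Finset.filter_filter, Finset.filter_filter]
  obtain ⟨m, hm⟩ := hM2
  obtain ⟨r, hr⟩ := hfree
  rw [hm] at hMdvd
  have hmq : m ∣ cfg.q := Nat.dvd_of_mul_dvd_mul_left two_pos hMdvd
  rw [hqa] at hmq
  obtain ⟨j, hj, rfl⟩ := (Nat.dvd_prime_pow Nat.prime_three).1 hmq
  rcases Nat.eq_zero_or_pos j with rfl | hj0
  · left
    simp only [pow_zero, mul_one] at hm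
    rw [hm] at hcount
    omega
  · right
    have hjq : j = a := by
      by_contra hne
      -- compare powers of three
      have h2 : 4 * 3 ^ j * 3 ^ j = 4 * 3 ^ j + 2 * cfg.q * r := by
        rw [hNinv, hr] at hsplit
        rw [hm] at hcount hsplit
        nlinarith [hcount, hsplit]
      have h3 : 3 ^ (j + 1) ∣ 4 * 3 ^ j := by
        rw [← Nat.dvd_add_left (a := 3 ^ (j + 1)) (c := 2 * cfg.q * r) ?_, ← h2]
        · refine Dvd.dvd.trans ?_ (dvd_refl _)
          rw [mul_assoc, ← pow_add]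
          exact (pow_dvd_pow 3 (by omega)).trans (dvd_mul_left _ _)
        · rw [hqa]
          exact ((pow_dvd_pow 3 (by omega)).trans (dvd_mul_left _ _)).trans (dvd_mul_right _ _)
      rw [pow_succ, mul_comm 4] at h3
      have := Nat.dvd_of_mul_dvd_mul_left (pow_pos (by norm_num) j) h3
      omega
    intro c hc
    have : K = cfg.C := eq_of_le_of_card_ge hKC (by rw [hKM, cfg.hcardC, hm, hjq, hqa])
    exact (show c ∈ K from this.symm ▸ hc).2

end Cfsg.Agent.FGS76
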