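import Mathlib
import Cfsg.Prelude.Def_Solvable
import Cfsg.Agent.Lib.Frobenius.Nilpotent
import Cfsg.Agent.Lib.Frobenius.Conjugacy
import Cfsg.Agent.Lib.Frobenius.Complement
import Cfsg.Agent.Lib.Frobenius.Involution
import Cfsg.Agent.Lib.Solvable.Basic

/-!
The structure of 2-Frobenius groups.
-/

set_option autoImplicit false
set_option linter.unusedSectionVars false
set_option linter.style.haveILetI false
open Cfsg
open scoped Pointwise

namespace Cfsg.Agent.FGS76

variable {G : Type*} [Group G] [Finite G]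

theorem frobenius_kernel_eq {X : Type*} [Group X] [Finite X] {C : Subgroup X}
    (hC : IsFrobeniusComplement C) {N : Subgroup X} (hN : frobeniusKernel C = (N : Set X)) :
    N.Normal ∧ Subgroup.IsComplement' N C ∧ Group.IsNilpotent N := by
  obtain ⟨M, hM, hMn, hc⟩ := Frobenius.exists_frobeniusKernel_subgroup hC
  obtain ⟨M', hM', -, hMnil⟩ := Frobenius.frobeniusKernel_isNilpotent hC
  obtain rfl : M = N := SetLike.coe_injective (hM.trans hN)
  obtain rfl : M' = M := SetLike.coe_injective (hM'.trans hN)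
  exact ⟨hMn, hc, hMnil⟩

/-- the derived data of a 2-Frobenius group with chain `H < K`; `B` is the lifted middle kernel -/
structure TwoFrob (H K B : Subgroup G) : Prop where
  solvable : Group.IsSolvable G
  nilH : Group.IsNilpotent H
  le : B ≤ K
  ne_bot : B ≠ ⊥
  odd : Odd (Nat.card B)
  cyclicB : IsCyclic B
  cyclicQ : ∀ [K.Normal], IsCyclic (G ⧸ K)
  cop_H : (Nat.card B).Coprime (Nat.card H)
  cop_C : (Nat.card B).Coprime K.index
  index_sub : (H.subgroupOf K).index = Nat.card B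
  card_eq : Nat.card G = Nat.card H * Nat.card B * K.index
  mem_K_of_commute : ∀ x y : G, x ∈ K → x ∉ H → Commute x y → y ∈ K
  frobK : IsFrobeniusComplement (B.subgroupOf K)
  kerK : frobeniusKernel (B.subgroupOf K) = (H.subgroupOf K : Set K)

theorem twoFrob_of (H K : Subgroup G) [H.Normal] [K.Normal] (hlt : H < K)
    (hK : ∃ C : Subgroup ↥K, IsFrobeniusComplement C ∧ frobeniusKernel C = (H.subgroupOf K : Set ↥K))
    (hGH : ∃ C : Subgroup (G ⧸ H), IsFrobeniusComplement C ∧
      frobeniusKernel C = (K.map (QuotientGroup.mk' H) : Set (G ⧸ H))) :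
    ∃ B : Subgroup G, TwoFrob H K B := by
  classical
  obtain ⟨C₁, hC₁, hC₁k⟩ := hK
  obtain ⟨C₂, hC₂, hC₂k⟩ := hGH
  obtain ⟨hH'n, hc₁, hH'nil⟩ := frobenius_kernel_eq hC₁ hC₁k
  obtain ⟨hKbn, hc₂, hKbnil⟩ := frobenius_kernel_eq hC₂ hC₂k
  haveI := hH'n
  haveI := hKbn
  set Kb := K.map (QuotientGroup.mk' H) with hKb
  let e₀ : C₁ →* Kb := ((QuotientGroup.mk' H).subgroupMap K).comp C₁.subtype
  have he₀i : Function.Injective e₀ := by
    rw [injective_iff_map_eq_one]
    intro a ha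
    have h1 : ((a : K) : G) ∈ H := (QuotientGroup.eq_one_iff _).1 (congrArg Subtype.val ha)
    exact Subtype.ext (Subgroup.mem_bot.1 (hc₁.disjoint.le_bot ⟨h1, a.2⟩))
  have he₀s : Function.Surjective e₀ := by
    rintro ⟨z, k, hk, rfl⟩
    obtain ⟨⟨⟨n, hn⟩, c⟩, hx⟩ := hc₁.2 (⟨k, hk⟩ : K)
    refine ⟨c, Subtype.ext ?_⟩
    have h1 : ((n : K) : G) * ((c : K) : G) = k := congrArg Subtype.val hx
    show QuotientGroup.mk' H ((c : K) : G) = QuotientGroup.mk' H k
    rw [← h1, map_mul, show QuotientGroup.mk' H ((n : K) : G) = 1 from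
      (QuotientGroup.eq_one_iff _).2 hn, one_mul]
  let e : C₁ ≃* Kb := MulEquiv.ofBijective e₀ ⟨he₀i, he₀s⟩
  haveI hC₁nil : Group.IsNilpotent C₁ := by
    haveI := hKbnil
    exact Group.nilpotent_of_mulEquiv e.symm
  have hV : H.subgroupOf K ≠ ⊥ := by
    intro h0
    apply hC₁.2.1
    have h1 := hc₁.card_mul
    rw [h0, Subgroup.card_bot, one_mul] at h1
    exact Subgroup.eq_top_of_card_eq _ h1
  have hf₁ : Frobenius.IsFPF C₁ (H.subgroupOf K) :=
    Frobenius.isFPF_of_normal (Frobenius.fixedPointFree_of_isFrobeniusComplement hc₁ hC₁)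
  have hKb0 : Kb ≠ ⊥ := fun h0 => hC₁.1 (Subgroup.card_eq_one.1 (by
    rw [Nat.card_congr e.toEquiv, h0, Subgroup.card_bot]))
  have hf₂ : Frobenius.IsFPF C₂ Kb :=
    Frobenius.isFPF_of_normal (Frobenius.fixedPointFree_of_isFrobeniusComplement hc₂ hC₂)
  -- the middle factor has odd order
  have hodd : ¬ 2 ∣ Nat.card C₁ := by
    intro h2
    obtain ⟨⟨z, hzC, hz2, hzu, -⟩, -⟩ := hf₁.unique_involution hV h2
    obtain ⟨c, hc, hc1⟩ := Frobenius.exists_ne_one_mem hC₂
    set zb : G ⧸ H := ((e ⟨z, hzC⟩ : Kb) : G ⧸ H) with hzb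
    have hzbo : orderOf zb = 2 := by
      rw [hzb, Subgroup.orderOf_coe, MulEquiv.orderOf_eq, Subgroup.orderOf_mk, hz2]
    have hconj : c * zb * c⁻¹ = zb := by
      have hmem : c * zb * c⁻¹ ∈ Kb := hKbn.conj_mem _ (e ⟨z, hzC⟩).2 c
      obtain ⟨d, hd⟩ := e.surjective ⟨_, hmem⟩
      have hdo : orderOf (d : K) = 2 := by
        rw [Subgroup.orderOf_coe, ← MulEquiv.orderOf_eq e, hd, Subgroup.orderOf_mk,
          ← MulAut.conj_apply, MulEquiv.orderOf_eq, hzbo]
      have hdz : d = ⟨z, hzC⟩ := Subtype.ext (hzu _ d.2 hdo)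
      rw [hdz] at hd
      exact (congrArg Subtype.val hd).symm
    have hcK : c ∈ Kb := by
      rw [← SetLike.mem_coe, ← hC₂k]
      refine Frobenius.mem_frobeniusKernel_of_commute hC₂ (x := zb) ?_ ?_
        (mul_inv_eq_iff_eq_mul.1 hconj).symm
      · rw [hC₂k]; exact (e ⟨z, hzC⟩).2
      · intro h1; rw [h1, orderOf_one] at hzbo; norm_num at hzbo
    exact hc1 (Subgroup.mem_bot.1 (hc₂.disjoint.le_bot ⟨hcK, hc⟩))
  haveI hC₁z : IsZGroup C₁ := by
    refine ⟨fun p hp P => ?_⟩
    haveI := Fact.mk hp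
    rcases hf₁.sylow_isCyclic_or_quaternion hV P with h1 | ⟨rfl, n, ⟨f⟩⟩
    · exact h1
    · exfalso
      apply hodd
      have h1 : 2 ∣ Nat.card P := by
        rw [Nat.card_congr f.toEquiv, Nat.card_eq_fintype_card, QuaternionGroup.card]
        exact dvd_mul_of_dvd_left (by norm_num) _
      exact h1.trans (Subgroup.card_subgroup_dvd_card _)
  haveI hC₁cyc : IsCyclic C₁ := inferInstance
  haveI hKbcyc : IsCyclic Kb := e.isCyclic.1 hC₁cyc
  -- the top factor is cyclic
  haveI hC₂c : IsMulCommutative C₂ := by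
    refine ⟨⟨fun a b => ?_⟩⟩
    let ψ : C₂ →* MulAut Kb := (MulAut.conjNormal (H := Kb)).comp C₂.subtype
    have hψ : Function.Injective ψ := by
      rw [injective_iff_map_eq_one]
      intro a ha
      by_contra ha1
      refine hKb0 ((Subgroup.eq_bot_iff_forall _).2 fun k hk => ?_)
      refine hf₂.eq_one_of_commute a.2 (fun h => ha1 (Subtype.ext h)) hk ?_
      have h1 := congrArg (fun f : MulAut Kb => ((f ⟨k, hk⟩ : Kb) : G ⧸ H)) ha
      simp only [ψ, MonoidHom.comp_apply, Subgroup.coe_subtype, MulAut.conjNormal_apply,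
        MulAut.one_apply] at h1
      exact mul_inv_eq_iff_eq_mul.1 h1
    apply hψ
    rw [map_mul, map_mul]
    exact (IsCyclic.mulAutMulEquiv Kb).injective (by rw [map_mul, map_mul, mul_comm])
  haveI hC₂cyc : IsCyclic C₂ := hf₂.isCyclic_of_isMulCommutative hKb0
  have hKcomap : Kb.comap (QuotientGroup.mk' H) = K :=
    Subgroup.comap_map_eq_self (by rw [QuotientGroup.ker_mk']; exact hlt.le)
  have hKidx : K.index = Kb.index := by
    conv_lhs => rw [← hKcomap]
    exact Subgroup.index_comap_of_surjective _ (QuotientGroup.mk'_surjective H)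
  have hC₂card : Nat.card C₂ = K.index := by rw [hKidx]; exact hc₂.symm.index_eq_card.symm
  have hsubidx : (H.subgroupOf K).index = Nat.card C₁ := hc₁.symm.index_eq_card
  have hBsub : (C₁.map K.subtype).subgroupOf K = C₁ :=
    Subgroup.comap_map_eq_self_of_injective K.subtype_injective _
  have hBcard : Nat.card (C₁.map K.subtype) = Nat.card C₁ :=
    Subgroup.card_map_of_injective K.subtype_injective
  have hHcard : Nat.card (H.subgroupOf K) = Nat.card H :=
    Nat.card_congr (Subgroup.subgroupOfEquivOfLe hlt.le).toEquiv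
  have hcyc : IsCyclic (C₁.map K.subtype) :=
    (C₁.equivMapOfInjective _ K.subtype_injective).isCyclic.1 hC₁cyc
  refine ⟨C₁.map K.subtype, ⟨?_, ?_, Subgroup.map_subtype_le _, ?_, ?_, hcyc, ?_, ?_, ?_, ?_, ?_, ?_,
    ?_, ?_⟩⟩
  · haveI := hH'nil
    haveI : Group.IsNilpotent H := Group.nilpotent_of_mulEquiv (Subgroup.subgroupOfEquivOfLe hlt.le)
    haveI := hKbnil
    haveI : Group.IsSolvable (G ⧸ H) := by
      haveI : Group.IsSolvable C₂ := Group.isSolvable_of_comm fun a b => hC₂c.is_comm.comm a b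
      haveI : Group.IsSolvable ((G ⧸ H) ⧸ Kb) :=
        Group.isSolvable_of_surjective (f := (QuotientGroup.mk' Kb).comp C₂.subtype) (by
          intro q
          obtain ⟨g, rfl⟩ := QuotientGroup.mk'_surjective Kb q
          obtain ⟨⟨⟨k, hk⟩, c⟩, hx⟩ := hc₂.2 g
          refine ⟨c, ?_⟩
          dsimp only at hx
          rw [← hx]
          simp [(QuotientGroup.eq_one_iff k).2 hk])
      exact Group.isSolvable_of_ker_le_range Kb.subtype (QuotientGroup.mk' Kb)
        (by rw [QuotientGroup.ker_mk', Subgroup.range_subtype])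
    exact Group.isSolvable_of_ker_le_range H.subtype (QuotientGroup.mk' H)
      (by rw [QuotientGroup.ker_mk', Subgroup.range_subtype])
  · haveI := hH'nil
    exact Group.nilpotent_of_mulEquiv (Subgroup.subgroupOfEquivOfLe hlt.le)
  · rw [Ne, Subgroup.map_eq_bot_iff_of_injective _ K.subtype_injective]
    exact hC₁.1
  · rw [hBcard]
    exact Nat.odd_iff.2 (Nat.two_dvd_ne_zero.1 hodd)
  · intro _
    let L : G ⧸ H →* G ⧸ K :=
      QuotientGroup.lift H (QuotientGroup.mk' K) (by rw [QuotientGroup.ker_mk']; exact hlt.le)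
    let f : C₂ →* G ⧸ K := L.comp C₂.subtype
    refine isCyclic_of_surjective f ?_
    intro q
    obtain ⟨g, rfl⟩ := QuotientGroup.mk'_surjective K q
    obtain ⟨⟨⟨k, hk⟩, c⟩, hx⟩ := hc₂.2 (QuotientGroup.mk' H g)
    refine ⟨c, ?_⟩
    dsimp only at hx
    obtain ⟨k₀, hk₀, rfl⟩ := hk
    show L (c : G ⧸ H) = QuotientGroup.mk' K g
    have hc' : (c : G ⧸ H) = QuotientGroup.mk' H (k₀⁻¹ * g) := by
      rw [map_mul, map_inv, ← hx, inv_mul_cancel_left]
    rw [hc', QuotientGroup.mk'_apply H, show L (↑(k₀⁻¹ * g) : G ⧸ H) = QuotientGroup.mk' K (k₀⁻¹ * g) from rfl, map_mul,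
      show QuotientGroup.mk' K k₀⁻¹ = 1 from (QuotientGroup.eq_one_iff _).2 (K.inv_mem hk₀), one_mul]
  · rw [hBcard, ← hHcard]
    exact hf₁.coprime
  · rw [hBcard, ← hC₂card, Nat.card_congr e.toEquiv]
    exact hf₂.coprime.symm
  · rw [hBcard, hsubidx]
  · rw [hBcard, ← hHcard, hc₁.card_mul, Subgroup.card_mul_index]
  · intro x y hxK hxH hxy
    rw [← hKcomap, Subgroup.mem_comap, ← SetLike.mem_coe, ← hC₂k]
    refine Frobenius.mem_frobeniusKernel_of_commute hC₂ (x := QuotientGroup.mk' H x) ?_ ?_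
      (by rw [← map_mul, ← map_mul, hxy.eq])
    · rw [hC₂k]; exact ⟨x, hxK, rfl⟩
    · exact fun h1 => hxH ((QuotientGroup.eq_one_iff _).1 h1)
  · rw [hBsub]; exact hC₁
  · rw [hBsub]; exact hC₁k

variable {H K B : Subgroup G}

theorem TwoFrob.dvd_of_commute [K.Normal] [H.Normal] (h : TwoFrob H K B) {x y : G} {p : ℕ}
    (hp : p.Prime) (hpB : p ∣ Nat.card B) (hx : orderOf x = p) (hc : Commute x y) :
    orderOf y ∣ Nat.card B := by
  have hxK : x ∈ K := by
    rw [← QuotientGroup.eq_one_iff, ← orderOf_eq_one_iff]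
    refine Nat.eq_one_of_dvd_coprimes (h.cop_C.coprime_dvd_left hpB)
      (hx ▸ orderOf_map_dvd (QuotientGroup.mk' K) x) ?_
    rw [Subgroup.index_eq_card]
    exact orderOf_dvd_natCard _
  have hxH : x ∉ H := fun hxH => hp.ne_one <| Nat.eq_one_of_dvd_coprimes h.cop_H hpB (by
    rw [← hx, ← Subgroup.orderOf_mk x hxH]
    exact orderOf_dvd_natCard _)
  have hyK := h.mem_K_of_commute x y hxK hxH hc
  have hxk : (⟨x, hxK⟩ : K) ∉ frobeniusKernel (B.subgroupOf K) := by
    rw [h.kerK]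
    exact hxH
  obtain ⟨hx1, g, hg⟩ := Frobenius.exists_conj_of_not_mem_frobeniusKernel hxk
  have hy : (⟨y, hyK⟩ : K) ∈ MulAut.conj g • B.subgroupOf K :=
    Frobenius.mem_of_commute (Frobenius.isFrobeniusComplement_conj h.frobK g) hx1 hg
      (Subtype.ext hc.eq)
  rw [← Subgroup.orderOf_mk y hyK, ← Subgroup.orderOf_mk _ hy]
  refine (orderOf_dvd_natCard _).trans (dvd_of_eq ?_)
  rw [← Nat.card_congr (Subgroup.equivSMul (MulAut.conj g) (B.subgroupOf K)).toEquiv]
  exact Nat.card_congr (Subgroup.subgroupOfEquivOfLe h.le).toEquiv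

theorem TwoFrob.exists_mul [K.Normal] [H.Normal] (h : TwoFrob H K B) {p q : ℕ} (hp : p.Prime)
    (hq : q.Prime) (hpq : p ≠ q) (hpG : p ∣ Nat.card G) (hqG : q ∣ Nat.card G)
    (hiff : p ∣ Nat.card B ↔ q ∣ Nat.card B) : ∃ g : G, orderOf g = p * q := by
  classical
  haveI := Fact.mk hp
  haveI := Fact.mk hq
  have hcop := (Nat.coprime_primes hp hq).2 hpq
  have hpow : ∀ g : G, p * q ∣ orderOf g → ∃ g' : G, orderOf g' = p * q := fun g hg =>
    ⟨_, orderOf_pow_orderOf_div (orderOf_pos g).ne' hg⟩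
  by_cases hpB : p ∣ Nat.card B
  · obtain ⟨g, hg⟩ := h.cyclicB.exists_ofOrder_eq_natCard
    refine hpow g ?_
    rw [Subgroup.orderOf_coe, hg]
    exact hcop.mul_dvd_of_dvd_of_dvd hpB (hiff.1 hpB)
  have hqB : ¬ q ∣ Nat.card B := fun h' => hpB (hiff.2 h')
  have hside : ∀ u : ℕ, u.Prime → u ∣ Nat.card G → ¬ u ∣ Nat.card B →
      u ∣ Nat.card H ∨ u ∣ K.index := fun u hu hd hb => by
    rw [h.card_eq] at hd
    rcases hu.dvd_mul.1 hd with h1 | h1
    · exact Or.inl ((hu.dvd_mul.1 h1).resolve_right hb)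
    · exact Or.inr h1
  by_cases hboth : p ∣ K.index ∧ q ∣ K.index
  · obtain ⟨x, hx⟩ := (h.cyclicQ).exists_ofOrder_eq_natCard
    obtain ⟨g, rfl⟩ := QuotientGroup.mk'_surjective K x
    refine hpow g (dvd_trans ?_ (orderOf_map_dvd (QuotientGroup.mk' K) g))
    rw [hx, ← Subgroup.index_eq_card]
    exact hcop.mul_dvd_of_dvd_of_dvd hboth.1 hboth.2
  -- now one of them divides `|H|` and not the top
  wlog hpC : ¬ p ∣ K.index generalizing p q
  · obtain ⟨g, hg⟩ := this hq hp hpq.symm hqG hpG hiff.symm ‹Fact q.Prime› ‹Fact p.Prime›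
      hcop.symm (fun g hg => (hpow g (by rwa [mul_comm])).imp fun _ e => by rwa [mul_comm]) hqB hpB
      (fun h' => hboth ⟨h'.2, h'.1⟩) (fun hqC => hboth ⟨not_not.1 hpC, hqC⟩)
    exact ⟨g, by rwa [mul_comm]⟩
  have hpH : p ∣ Nat.card H := (hside p hp hpG hpB).resolve_right hpC
  haveI := h.nilH
  obtain ⟨P⟩ := (inferInstance : Nonempty (Sylow p H))
  haveI hPn : (P : Subgroup H).Normal := inferInstance
  by_cases hqH : q ∣ Nat.card H
  · obtain ⟨Q⟩ := (inferInstance : Nonempty (Sylow q H))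
    haveI hQn : (Q : Subgroup H).Normal := inferInstance
    obtain ⟨a, ha⟩ := exists_prime_orderOf_dvd_card' (G := (P : Subgroup H)) p
      (P.dvd_card_of_dvd_card hpH)
    obtain ⟨b, hb⟩ := exists_prime_orderOf_dvd_card' (G := (Q : Subgroup H)) q
      (Q.dvd_card_of_dvd_card hqH)
    have hcomm : Commute (a : H) (b : H) := Subgroup.commute_of_normal_of_disjoint _ _ hPn hQn
      (IsPGroup.disjoint_of_ne p q hpq _ _ P.2 Q.2) _ _ a.2 b.2
    refine ⟨(((a : H) * b : H) : G), ?_⟩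
    rw [Subgroup.orderOf_coe, hcomm.orderOf_mul_eq_mul_orderOf_of_coprime (by
      rw [Subgroup.orderOf_coe, Subgroup.orderOf_coe, ha, hb]; exact hcop),
      Subgroup.orderOf_coe, Subgroup.orderOf_coe, ha, hb]
  have hqC : q ∣ K.index := (hside q hq hqG hqB).resolve_left hqH
  -- a minimal normal `p`-subgroup inside `H`
  letI := Sylow.unique_of_normal P hPn
  haveI : (P : Subgroup H).Characteristic := Sylow.characteristic_of_normal P hPn
  haveI hP'n : ((P : Subgroup H).map H.subtype).Normal := ConjAct.normal_of_characteristic_of_normal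
  have hP'0 : (P : Subgroup H).map H.subtype ≠ ⊥ := by
    rw [Ne, Subgroup.map_eq_bot_iff_of_injective _ H.subtype_injective]
    exact P.ne_bot_of_dvd_card hpH
  obtain ⟨V, hVn, hV0, hVP, hVmin⟩ := Solvable.exists_minimal_normal_le _ hP'0
  haveI := hVn
  haveI := h.solvable
  obtain ⟨r, hr, hVr, hVc, hVexp, d, hd, hVcard⟩ := Solvable.exists_prime_of_minimal_normal V hV0 hVmin
  haveI := hVc
  obtain rfl : r = p := by
    obtain ⟨n, hn⟩ := IsPGroup.iff_card.1 ((P.2.map H.subtype).to_le hVP)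
    rw [hVcard] at hn
    exact (Nat.prime_dvd_prime_iff_eq hr hp).1 (hr.dvd_of_dvd_pow (hn ▸ dvd_pow_self r hd.ne'))
  -- the normalizer of `B`
  set N := Subgroup.normalizer ((B : Subgroup G) : Set G) with hN
  have hBN : B ≤ N := Subgroup.le_normalizer
  have hsup : ∀ g : G, ∃ k : G, k ∈ K ∧ k * g ∈ N := by
    intro g
    set B' := B.map (MulAut.conj g).toMonoidHom with hB'
    have hB'K : B' ≤ K := by
      rintro _ ⟨b, hb, rfl⟩
      exact Subgroup.Normal.conj_mem ‹_› b (h.le hb) g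
    have hB'f : IsFrobeniusComplement (B'.subgroupOf K) := by
      obtain ⟨h1, h2, h3⟩ := h.frobK
      have hBcard : Nat.card (B'.subgroupOf K) = Nat.card (B.subgroupOf K) := by
        rw [Nat.card_congr (Subgroup.subgroupOfEquivOfLe hB'K).toEquiv,
          Nat.card_congr (Subgroup.subgroupOfEquivOfLe h.le).toEquiv, hB',
          Subgroup.card_map_of_injective (MulAut.conj g).injective]
      refine ⟨fun h0 => h1 ?_, fun h0 => h2 ?_, fun k hk => ?_⟩
      · apply Subgroup.eq_bot_of_card_eq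
        rw [← hBcard, h0, Subgroup.card_bot]
      · exact Subgroup.eq_top_of_card_eq _ (by rw [← hBcard, h0, Subgroup.card_top])
      · have hmem : ∀ z : K, z ∈ B'.subgroupOf K ↔ (MulAut.conjNormal g⁻¹ : MulAut K) z ∈ B.subgroupOf K := by
          intro z
          rw [Subgroup.mem_subgroupOf, Subgroup.mem_subgroupOf, MulAut.conjNormal_apply, inv_inv, hB',
            Subgroup.mem_map]
          constructor
          · rintro ⟨b, hb, e⟩
            rw [← e]
            simpa [mul_assoc] using hb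
          · intro hz
            exact ⟨_, hz, by simp [mul_assoc]⟩
        rw [Subgroup.eq_bot_iff_forall]
        rintro z ⟨hz, hz'⟩
        change z ∈ MulAut.conj k • B'.subgroupOf K at hz'
        rw [Frobenius.mem_conj_smul, hmem, map_mul, map_mul, map_inv] at hz'
        have h4 := h3 ((MulAut.conjNormal g⁻¹ : MulAut K) k) (fun hh => hk ((hmem k).2 hh))
        have h5 : (MulAut.conjNormal g⁻¹ : MulAut K) z ∈ (B.subgroupOf K) ⊓
            MulAut.conj ((MulAut.conjNormal g⁻¹ : MulAut K) k) • B.subgroupOf K :=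
          ⟨(hmem z).1 hz, Frobenius.mem_conj_smul.2 hz'⟩
        rw [h4, Subgroup.mem_bot] at h5
        exact (MulEquiv.map_eq_one_iff _).1 h5
    obtain ⟨k, hk⟩ := Frobenius.exists_conj_eq _ _ h.frobK hB'f
    refine ⟨(k : G), k.2, ?_⟩
    rw [hN, Subgroup.mem_normalizer_iff_map_conj_eq]
    refine Subgroup.eq_of_le_of_card_ge ?_ (le_of_eq (Subgroup.card_map_of_injective (MulAut.conj _).injective).symm)
    rintro _ ⟨b, hb, rfl⟩
    have h1 : (⟨g * b * g⁻¹, Subgroup.Normal.conj_mem ‹_› b (h.le hb) g⟩ : K) ∈ B'.subgroupOf K :=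
      ⟨b, hb, rfl⟩
    have h2 := Frobenius.conj_mem_conj_smul (g := k) h1
    rw [hk, Subgroup.mem_subgroupOf] at h2
    simpa [mul_assoc] using h2
  have hNK : ∀ a ∈ N, a ∈ K → a ∈ B := by
    intro a haN haK
    have h1 : (⟨a, haK⟩ : K) ∈ Subgroup.normalizer ((B.subgroupOf K : Subgroup K) : Set K) := by
      rw [Subgroup.mem_normalizer_iff]
      intro z
      rw [Subgroup.mem_subgroupOf, Subgroup.mem_subgroupOf]
      exact Subgroup.mem_normalizer_iff.1 haN z
    rw [Frobenius.normalizer_eq h.frobK, Subgroup.mem_subgroupOf] at h1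
    exact h1
  -- an element of order `q` outside `K` normalizing `B`
  obtain ⟨y, hyN, hyo⟩ : ∃ y ∈ N, orderOf y = q := by
    obtain ⟨x, hx⟩ := exists_prime_orderOf_dvd_card' (G := G ⧸ K) q
      (Subgroup.index_eq_card K ▸ hqC)
    obtain ⟨g, rfl⟩ := QuotientGroup.mk'_surjective K x
    obtain ⟨k, hk, hkN⟩ := hsup g
    have hkg : QuotientGroup.mk' K (k * g) = QuotientGroup.mk' K g := by
      rw [map_mul, show QuotientGroup.mk' K k = 1 from (QuotientGroup.eq_one_iff _).2 hk, one_mul]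
    have hd : q ∣ orderOf (k * g) := by rw [← hx, ← hkg]; exact orderOf_map_dvd _ _
    exact ⟨_, pow_mem hkN _, orderOf_pow_orderOf_div (orderOf_pos _).ne' hd⟩
  have hyK : y ∉ K := by
    intro hyK
    apply hqB
    rw [← hyo, ← Subgroup.orderOf_mk y (hNK y hyN hyK)]
    exact orderOf_dvd_natCard _
  by_contra hno
  set R := B ⊔ Subgroup.zpowers y with hR
  have hBR : B ≤ R := le_sup_left
  have hyR : y ∈ R := Subgroup.mem_sup_right (Subgroup.mem_zpowers y)
  have hRN : R ≤ N := sup_le hBN (Subgroup.zpowers_le.2 hyN)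
  -- element orders in `R`
  have hRord : ∀ a ∈ R, orderOf a ∣ q * Nat.card B := by
    intro a ha
    have h1 : a ^ q ∈ B := by
      refine hNK _ (pow_mem (hRN ha) q) ?_
      rw [← QuotientGroup.eq_one_iff, ← QuotientGroup.mk'_apply, map_pow]
      have h2 : QuotientGroup.mk' K a ∈ Subgroup.zpowers (QuotientGroup.mk' K y) := by
        have h3 : R.map (QuotientGroup.mk' K) ≤ Subgroup.zpowers (QuotientGroup.mk' K y) := by
          rw [hR, Subgroup.map_sup, MonoidHom.map_zpowers]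
          refine sup_le ?_ le_rfl
          rw [(Subgroup.map_eq_bot_iff _).2 (by rw [QuotientGroup.ker_mk']; exact h.le)]
          exact bot_le
        exact h3 ⟨a, ha, rfl⟩
      obtain ⟨i, hi⟩ := h2
      rw [← hi, ← zpow_natCast, ← zpow_mul, mul_comm, zpow_mul, zpow_natCast, ← map_pow, ← hyo,
        pow_orderOf_eq_one, map_one, one_zpow]
    apply orderOf_dvd_of_pow_eq_one
    rw [pow_mul]
    exact congrArg Subtype.val (pow_card_eq_one' (x := (⟨_, h1⟩ : B)))
  have hfpf : Frobenius.IsFPF R V := Frobenius.isFPF_of_normal fun a ha ha1 => by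
    rw [Subgroup.eq_bot_iff_forall]
    rintro v ⟨hv, hva⟩
    by_contra hv1
    have hvo : orderOf v = r := orderOf_eq_prime (hVexp v hv) hv1
    obtain ⟨u, hu, hua⟩ := Nat.exists_prime_and_dvd (fun h1 => ha1 (orderOf_eq_one_iff.1 h1) : orderOf a ≠ 1)
    have huo := orderOf_pow_orderOf_div (orderOf_pos a).ne' hua
    have hcm : Commute (a ^ (orderOf a / u)) v :=
      (show Commute v a from Subgroup.mem_centralizer_singleton_iff.1 hva).symm.pow_left _
    rcases hu.dvd_mul.1 (hua.trans (hRord a ha)) with h1 | h1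
    · have huq := (Nat.prime_dvd_prime_iff_eq hu hq).1 h1
      apply hno
      refine ⟨v * a ^ (orderOf a / u), ?_⟩
      rw [hcm.symm.orderOf_mul_eq_mul_orderOf_of_coprime (by rw [hvo, huo, huq]; exact hcop),
        hvo, huo, huq]
    · exact hpB (hvo ▸ h.dvd_of_commute hu h1 huo hcm)
  -- but `R` is a Frobenius group
  refine hfpf.not_isFrobeniusComplement hV0 ((Subgroup.zpowers y).subgroupOf R) ?_
  haveI : (B.subgroupOf R).Normal := Subgroup.normal_subgroupOf_of_le_normalizer hRN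
  have hy1 : y ≠ 1 := fun h1 => hyK (h1 ▸ K.one_mem)
  have hzy : ∀ z ∈ Subgroup.zpowers y, z ≠ 1 → orderOf z = q := fun z hz hz1 => by
    refine ((Nat.dvd_prime hq).1 ?_).resolve_left (fun e => hz1 (orderOf_eq_one_iff.1 e))
    obtain ⟨i, rfl⟩ := hz
    apply orderOf_dvd_of_pow_eq_one
    rw [← zpow_natCast, ← zpow_mul, mul_comm, zpow_mul, zpow_natCast, ← hyo, pow_orderOf_eq_one,
      one_zpow]
  refine Frobenius.isFrobeniusComplement_of_fixedPointFree (K := B.subgroupOf R) ?_ ?_ ?_ ?_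
  · refine Subgroup.isComplement'_of_disjoint_and_mul_eq_univ ?_ ?_
    · rw [disjoint_iff, Subgroup.eq_bot_iff_forall]
      rintro z ⟨hz, hz'⟩
      by_contra hz1
      apply hqB
      have h1 : orderOf ((z : R) : G) = q := hzy _ hz' (fun e => hz1 (Subtype.ext e))
      exact h1.symm.dvd.trans ((Subgroup.orderOf_coe (⟨((z : R) : G), hz⟩ : B)).dvd.trans (orderOf_dvd_natCard _))
    · rw [← Subgroup.normal_mul, ← Subgroup.coe_top, SetLike.coe_set_eq]
      rw [← Subgroup.subgroupOf_sup hBR (Subgroup.zpowers_le.2 hyR), Subgroup.subgroupOf_self]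
  · rw [Ne, Subgroup.subgroupOf_eq_bot, disjoint_iff, inf_of_le_left hBR]
    exact h.ne_bot
  · intro h0
    have h1 : (⟨y, hyR⟩ : R) ∈ (Subgroup.zpowers y).subgroupOf R := Subgroup.mem_zpowers y
    rw [h0, Subgroup.mem_bot] at h1
    exact hy1 (congrArg Subtype.val h1)
  · intro z hz hz1
    rw [Subgroup.eq_bot_iff_forall]
    rintro b ⟨hb, hbc⟩
    by_contra hb1
    have hb1' : ((b : R) : G) ≠ 1 := fun e => hb1 (Subtype.ext e)
    obtain ⟨u, hu, hub⟩ := Nat.exists_prime_and_dvd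
      (fun h1 => hb1' (orderOf_eq_one_iff.1 h1) : orderOf ((b : R) : G) ≠ 1)
    have huB : u ∣ Nat.card B := by
      refine hub.trans ?_
      exact (Subgroup.orderOf_coe (⟨((b : R) : G), hb⟩ : B)).dvd.trans (orderOf_dvd_natCard _)
    have hcomm : Commute ((b : R) : G) ((z : R) : G) :=
      congrArg Subtype.val (Subgroup.mem_centralizer_singleton_iff.1 hbc)
    have h1 := h.dvd_of_commute hu huB (orderOf_pow_orderOf_div (orderOf_pos _).ne' hub)
      (hcomm.pow_left _)
    exact hqB ((hzy _ hz (fun e => hz1 (Subtype.ext e))).symm.dvd.trans h1)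

end Cfsg.Agent.FGS76
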