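import Cfsg.Agent.FGS76.DerivedPGroup

/-! Iterated wreath products as linear groups. -/

set_option autoImplicit false

namespace Cfsg.Agent.FGS76.WreathLin

open Function

variable {F : Type*} [Field F]

/-- Transport of linear automorphisms along a linear equivalence. -/
def autCongr {V V' : Type*} [AddCommGroup V] [Module F V] [AddCommGroup V'] [Module F V']
    (e : V ≃ₗ[F] V') : (V ≃ₗ[F] V) →* (V' ≃ₗ[F] V') where
  toFun g := (e.symm.trans g).trans e
  map_one' := by ext x; simp
  map_mul' a b := by ext x; simp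

theorem autCongr_injective {V V' : Type*} [AddCommGroup V] [Module F V] [AddCommGroup V']
    [Module F V'] (e : V ≃ₗ[F] V') : Injective (autCongr e) := by
  intro a b h
  ext x
  simpa [autCongr] using LinearEquiv.congr_fun h (e x)

section Wreath

variable {D Q V : Type*} [Group D] [Group Q] [AddCommGroup V] [Module F V]

/-- A wreath product acting on functions. -/
def wreathFun (ρ : D →* (V ≃ₗ[F] V)) (w : D ≀ᵣ Q) : (Q → V) →ₗ[F] (Q → V) where
  toFun f x := ρ (w.left x) (f (w.right⁻¹ * x))
  map_add' f g := by funext x; simp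
  map_smul' c f := by funext x; simp

theorem wreathFun_mul (ρ : D →* (V ≃ₗ[F] V)) (a b : D ≀ᵣ Q) (f : Q → V) :
    wreathFun ρ (a * b) f = wreathFun ρ a (wreathFun ρ b f) := by
  funext x
  simp [wreathFun, mul_assoc]

theorem wreathFun_one (ρ : D →* (V ≃ₗ[F] V)) (f : Q → V) : wreathFun ρ (1 : D ≀ᵣ Q) f = f := by
  funext x
  simp [wreathFun]

/-- The linear representation of a wreath product. -/
def wreathRep (ρ : D →* (V ≃ₗ[F] V)) : D ≀ᵣ Q →* ((Q → V) ≃ₗ[F] (Q → V)) where
  toFun w := LinearEquiv.ofLinearMap (wreathFun ρ w) (wreathFun ρ w⁻¹)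
    (LinearMap.ext fun f => by
      show wreathFun ρ w (wreathFun ρ w⁻¹ f) = f
      rw [← wreathFun_mul, mul_inv_cancel, wreathFun_one])
    (LinearMap.ext fun f => by
      show wreathFun ρ w⁻¹ (wreathFun ρ w f) = f
      rw [← wreathFun_mul, inv_mul_cancel, wreathFun_one])
  map_one' := LinearEquiv.ext fun f => wreathFun_one ρ f
  map_mul' a b := LinearEquiv.ext fun f => wreathFun_mul ρ a b f

theorem wreathRep_injective [Nontrivial V] {ρ : D →* (V ≃ₗ[F] V)} (hρ : Injective ρ) :
    Injective (wreathRep (Q := Q) ρ) := by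
  classical
  rw [injective_iff_map_eq_one]
  intro w hw
  have h : ∀ f : Q → V, ∀ x, ρ (w.left x) (f (w.right⁻¹ * x)) = f x := fun f x =>
    congrFun (LinearEquiv.congr_fun hw f) x
  obtain ⟨v, hv⟩ := exists_ne (0 : V)
  have hr : w.right = 1 := by
    by_contra hne
    have := h (Pi.single 1 v) 1
    rw [Pi.single_eq_same, mul_one, Pi.single_eq_of_ne (inv_ne_one.2 hne), map_zero] at this
    exact hv this.symm
  refine RegularWreathProduct.ext (funext fun x => hρ ?_) hr
  refine LinearEquiv.ext fun y => ?_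
  have := h (fun _ => y) x
  simpa using this

end Wreath

theorem exists_iterated (G : Type) [Group G] [Finite G] {e : ℕ} (he : 0 < e)
    (ρ : G →* ((Fin e → F) ≃ₗ[F] (Fin e → F))) (hρ : Injective ρ) (k : ℕ) :
    ∃ f : IteratedWreathProduct G (k + 1) →*
      ((Fin (e * Nat.card G ^ k) → F) ≃ₗ[F] (Fin (e * Nat.card G ^ k) → F)), Injective f := by
  induction k with
  | zero =>
    let r : IteratedWreathProduct G 1 →* G :=
      (RegularWreathProduct.rightHom : IteratedWreathProduct G 0 ≀ᵣ G →* G)
    have hr : Injective r := fun a b hab =>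
      RegularWreathProduct.ext (funext fun _ => Subsingleton.elim (α := PUnit) _ _) hab
    have hdim : Module.finrank F (Fin e → F) = Module.finrank F (Fin (e * Nat.card G ^ 0) → F) := by
      rw [Module.finrank_fin_fun, Module.finrank_fin_fun, pow_zero, mul_one]
    exact ⟨(autCongr (LinearEquiv.ofFinrankEq _ _ hdim)).comp (ρ.comp r),
      (autCongr_injective _).comp (hρ.comp hr)⟩
  | succ k ih =>
    obtain ⟨f, hf⟩ := ih
    haveI : Fintype G := Fintype.ofFinite G
    haveI : Nonempty (Fin (e * Nat.card G ^ k)) :=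
      ⟨⟨0, Nat.mul_pos he (pow_pos Nat.card_pos _)⟩⟩
    have hdim : Module.finrank F (G → Fin (e * Nat.card G ^ k) → F)
        = Module.finrank F (Fin (e * Nat.card G ^ (k + 1)) → F) := by
      rw [Module.finrank_pi_fintype, Module.finrank_fin_fun, Finset.sum_const,
        Module.finrank_fin_fun, Finset.card_univ, smul_eq_mul, ← Nat.card_eq_fintype_card]
      ring
    exact ⟨(autCongr (LinearEquiv.ofFinrankEq _ _ hdim)).comp (wreathRep (Q := G) f),
      (autCongr_injective _).comp (wreathRep_injective hf)⟩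

/-- Enlarging the dimension. -/
theorem exists_embedding_of_le {A : Type*} [Group A] {m n : ℕ} (h : m ≤ n)
    (f : A →* ((Fin m → F) ≃ₗ[F] (Fin m → F))) (hf : Injective f) :
    ∃ g : A →* ((Fin n → F) ≃ₗ[F] (Fin n → F)), Injective g := by
  let p : A →* (((Fin m → F) × (Fin (n - m) → F)) ≃ₗ[F] ((Fin m → F) × (Fin (n - m) → F))) :=
    { toFun := fun a => (f a).prodCongr (LinearEquiv.refl F _)
      map_one' := by ext x <;> simp
      map_mul' := fun a b => by ext x <;> simp }
  have hp : Injective p := fun a b hab => hf (LinearEquiv.ext fun x => by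
    simpa [p] using congrArg Prod.fst (LinearEquiv.congr_fun hab (x, 0)))
  have hdim : Module.finrank F ((Fin m → F) × (Fin (n - m) → F)) = Module.finrank F (Fin n → F) := by
    simp; omega
  exact ⟨(autCongr (LinearEquiv.ofFinrankEq _ _ hdim)).comp p, (autCongr_injective _).comp hp⟩

end Cfsg.Agent.FGS76.WreathLin
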